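import Cfsg.Agent.Lib.OddOrder.Found.CyclicSigma
import Cfsg.Agent.Lib.Blocks.ComplexAut
import Cfsg.Agent.Lib.CharTheory.Induced

/-!
Field automorphisms fixing the roots of unity of one order and moving those of a prime order prime to it.
-/

set_option autoImplicit false
set_option linter.unusedSectionVars false

namespace CfsgLib.OddOrder.S11

open Cfsg CfsgLib.CharTheory CfsgLib.OddOrder.Found CfsgLib.Blocks.ComplexAut

universe u

/-- An automorphism fixes the roots of order dividing `N`. -/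
def FixRoots (s : ℂ ≃+* ℂ) (N : ℕ) : Prop := ∀ z : ℂ, z ^ N = 1 → s z = z

theorem exists_aut_move {N r : ℕ} (hN : N ≠ 0) (hr : r.Prime) (hco : r.Coprime N) {x y : ℂ} (hx : x ^ r = 1)
    (hx1 : x ≠ 1) (hy : y ^ r = 1) (hy1 : y ≠ 1) : ∃ s : ℂ ≃+* ℂ, FixRoots s N ∧ s x = y := by
  haveI := Fact.mk hr
  haveI : NeZero r := ⟨hr.ne_zero⟩
  have hxp : IsPrimitiveRoot x r := IsPrimitiveRoot.iff_orderOf.mpr (orderOf_eq_prime hx hx1)
  obtain ⟨i, -, rfl⟩ := hxp.eq_pow_of_pow_eq_one hy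
  obtain ⟨k, hkN, hkr⟩ := Nat.chineseRemainder (Nat.Coprime.symm hco) 1 i
  have hir : ¬ r ∣ i := fun ⟨c, hc⟩ => hy1 (by rw [hc, pow_mul, hx, one_pow])
  have hcop : k.Coprime (N * r) := by
    refine Nat.Coprime.mul_right ?_ ?_
    · show Nat.gcd k N = 1
      rw [Nat.ModEq.gcd_eq hkN, Nat.gcd_one_left]
    · show Nat.gcd k r = 1
      rw [Nat.ModEq.gcd_eq hkr]
      exact (hr.coprime_iff_not_dvd.mpr hir).symm
  obtain ⟨s, hs⟩ := exists_aut_pow (mul_ne_zero hN hr.ne_zero) hcop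
  refine ⟨s, fun z hz => ?_, ?_⟩
  · rw [hs z (by rw [pow_mul, hz, one_pow]), pow_eq_pow_mod k hz, hkN, ← pow_eq_pow_mod 1 hz, pow_one]
  · rw [hs x (by rw [mul_comm, pow_mul, hx, one_pow]), pow_eq_pow_mod k hx, hkr, ← pow_eq_pow_mod i hx]

variable {X : Type u} [Group X]

theorem fix_char [Finite X] {N : ℕ} {s : ℂ ≃+* ℂ} (hs : FixRoots s N) (hN : Nat.card X ∣ N) {χ : X → ℂ}
    (hχ : IsCharacter X χ) (x : X) : s (χ x) = χ x := by
  rw [aut_apply_char hχ s (m := 1) (fun z hz => ?_) x, pow_one]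
  obtain ⟨c, hc⟩ := hN
  rw [pow_one, hs z (by rw [hc, pow_mul, hz, one_pow])]

theorem indFun_galois [Fintype X] (s : ℂ ≃+* ℂ) (K : Subgroup X) (θ : K → ℂ) :
    (fun x => s (indFun K θ x)) = indFun K fun k => s (θ k) := by
  funext x
  simp only [indFun, map_mul, map_inv₀, map_natCast, map_sum]
  congr 1
  refine Finset.sum_congr rfl fun g _ => ?_
  simp only [extendByZero]
  by_cases hg : g⁻¹ * x * g ∈ K
  · rw [Subtype.val_injective.extend_apply θ (0 : X → ℂ) ⟨_, hg⟩,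
      Subtype.val_injective.extend_apply (fun k => s (θ k)) (0 : X → ℂ) ⟨_, hg⟩]
  · rw [Function.extend_apply' _ _ _ (by rintro ⟨a, ha⟩; exact hg (ha ▸ a.2)),
      Function.extend_apply' _ _ _ (by rintro ⟨a, ha⟩; exact hg (ha ▸ a.2))]
    simp

theorem hom_pow_card [Finite X] (a : X →* ℂˣ) (x : X) : (a x : ℂ) ^ Nat.card X = 1 := by
  rw [← Units.val_pow_eq_pow_val, ← map_pow, pow_card_eq_one', map_one, Units.val_one]

theorem wLinMap_eq_self [Finite X] {N : ℕ} {s : ℂ ≃+* ℂ} (hs : FixRoots s N) (hN : Nat.card X ∣ N)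
    (a : X →* ℂˣ) : wLinMap s a = a := by
  refine MonoidHom.ext fun x => Units.ext ?_
  rw [wLinMap_apply]
  obtain ⟨c, hc⟩ := hN
  exact hs _ (by rw [hc, pow_mul, hom_pow_card, one_pow])

theorem wLinMap_injective {s : ℂ ≃+* ℂ} : Function.Injective (wLinMap s : (X →* ℂˣ) → (X →* ℂˣ)) :=
  fun a b e => MonoidHom.ext fun x => Units.ext (s.injective (by rw [← wLinMap_apply, e, wLinMap_apply]))

theorem wLinMap_one (s : ℂ ≃+* ℂ) : wLinMap s (1 : X →* ℂˣ) = 1 :=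
  MonoidHom.ext fun x => Units.ext (by rw [wLinMap_apply]; simp)

theorem exists_wLinMap [Finite X] {N r : ℕ} (hN : N ≠ 0) (hr : r.Prime) (hX : Nat.card X = r) (hco : r.Coprime N)
    {a a' : X →* ℂˣ} (ha : a ≠ 1) (ha' : a' ≠ 1) : ∃ s : ℂ ≃+* ℂ, FixRoots s N ∧ wLinMap s a = a' := by
  haveI := Fact.mk hr
  obtain ⟨g, hg⟩ : ∃ g : X, g ≠ 1 := by
    by_contra h
    push Not at h
    exact ha (MonoidHom.ext fun x => by rw [h x, map_one, map_one])
  have hgen : ∀ x : X, x ∈ Subgroup.zpowers g := fun x => mem_zpowers_of_prime_card hX hg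
  have hne : ∀ c : X →* ℂˣ, c ≠ 1 → (c g : ℂ) ≠ 1 := fun c hc e => hc (MonoidHom.ext fun x => by
    obtain ⟨k, rfl⟩ := Subgroup.mem_zpowers_iff.mp (hgen x)
    rw [map_zpow, show c g = 1 from Units.ext e, one_zpow, MonoidHom.one_apply])
  obtain ⟨s, hs, hsg⟩ := exists_aut_move hN hr hco (hX ▸ hom_pow_card a g) (hne a ha) (hX ▸ hom_pow_card a' g)
    (hne a' ha')
  refine ⟨s, hs, MonoidHom.ext fun x => ?_⟩
  obtain ⟨k, rfl⟩ := Subgroup.mem_zpowers_iff.mp (hgen x)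
  rw [map_zpow, map_zpow, show wLinMap s a g = a' g from Units.ext (by rw [wLinMap_apply, hsg])]

end CfsgLib.OddOrder.S11
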