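import Mathlib

/-! Arithmetic of Peterfalvi (11.1) and the elementary inequalities used in section 11. -/

set_option autoImplicit false

namespace CfsgLib.OddOrder.S11

theorem four_sq_lt_three_pow : ∀ q : ℕ, 5 ≤ q → 4 * q ^ 2 + 1 < 3 ^ q := by
  intro q hq
  induction q, hq using Nat.le_induction with
  | base => norm_num
  | succ n hn ih =>
    rw [pow_succ 3 n]
    nlinarith

/-- (11.1). -/
theorem lbound_pow {p q : ℕ} (hp : p.Prime) (hq : q.Prime) (hpo : Odd p) (hqo : Odd q) (hne : p ≠ q) :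
    4 * q ^ 2 + 1 < p ^ q := by
  have hp3 : 3 ≤ p := by
    rcases hpo with ⟨k, rfl⟩
    have := hp.two_le
    omega
  rcases lt_or_ge q 5 with hq5 | hq5
  · have hq3 : q = 3 := by
      rcases hqo with ⟨k, rfl⟩
      have := hq.two_le
      omega
    subst hq3
    have : 5 ≤ p := by
      rcases hpo with ⟨k, rfl⟩
      omega
    calc 4 * 3 ^ 2 + 1 < 5 ^ 3 := by norm_num
      _ ≤ p ^ 3 := Nat.pow_le_pow_left this 3
  · exact (four_sq_lt_three_pow q hq5).trans_le (Nat.pow_le_pow_left hp3 q)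

end CfsgLib.OddOrder.S11
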