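import Cfsg.Agent.Lib.OddOrder.S11.Form

/-!
The lattice argument of Peterfalvi (11.8): `e i j` stands for the cyclic TI family, `t z` for the coherent images
of the characters of degree `q` above `H C`, `φ` for the image of `μ₀ - ζ`, `α j` for the image of
`μ₀ⱼ - μ₀₀ - n ζ` and `ψ j` for the image of `μⱼ - u ζ`.
-/

set_option autoImplicit false

universe u v w x

namespace CfsgLib.OddOrder.S11

open Finset

variable {V : Type u} [AddCommGroup V] (F : IntForm V)
variable {I : Type v} {J : Type w} {Z : Type x} [Fintype I] [Fintype J] [Fintype Z]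
  [DecidableEq I] [DecidableEq J] [DecidableEq Z]

theorem sum_ite_base {K : Type*} [Fintype K] [DecidableEq K] (k0 : K) (c d : ℤ) :
    ∑ k : K, (if k = k0 then c else d) = c + ((Fintype.card K : ℤ) - 1) * d := by
  have h : ∀ k : K, (if k = k0 then c else d) = d + (if k = k0 then c - d else 0) := fun k => by
    split_ifs <;> ring
  simp only [h, Finset.sum_add_distrib, Finset.sum_const, Finset.card_univ, Finset.sum_ite_eq', Finset.mem_univ,
    if_true, nsmul_eq_mul]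
  ring

/-- The orthonormal frame `(e, t)`. -/
structure Frame where
  e : I → J → V
  t : Z → V
  i0 : I
  j0 : J
  z0 : Z
  orth : ∀ a b : (I × J) ⊕ Z, F.B (Sum.elim (fun ij => e ij.1 ij.2) t a) (Sum.elim (fun ij => e ij.1 ij.2) t b) =
    if a = b then 1 else 0
  q3 : 3 ≤ Fintype.card I
  p3 : 3 ≤ Fintype.card J
  qodd : Odd (Fintype.card I)
  podd : Odd (Fintype.card J)
  pq : Fintype.card J ≠ Fintype.card I
  n2 : 2 ≤ Fintype.card Z
  neven : Even (Fintype.card Z)

variable {F}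

namespace Frame

variable (D : Frame F (I := I) (J := J) (Z := Z))

/-- The combined family. -/
def fam : (I × J) ⊕ Z → V := Sum.elim (fun ij => D.e ij.1 ij.2) D.t

theorem fam_orth (a b) : F.B (D.fam a) (D.fam b) = if a = b then 1 else 0 := D.orth a b

theorem sum_fam_sq (v : V) :
    ∑ a, F.B v (D.fam a) ^ 2 = (∑ i, ∑ j, F.B v (D.e i j) ^ 2) + ∑ z, F.B v (D.t z) ^ 2 := by
  rw [Fintype.sum_sum_type, Fintype.sum_prod_type]; rfl

theorem sum_fam_mul (v w : V) :
    ∑ a, F.B v (D.fam a) * F.B w (D.fam a) =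
      (∑ i, ∑ j, F.B v (D.e i j) * F.B w (D.e i j)) + ∑ z, F.B v (D.t z) * F.B w (D.t z) := by
  rw [Fintype.sum_sum_type, Fintype.sum_prod_type]; rfl

/-- The coefficients on `t` when all differences with the base one are known. -/
theorem t_sq (v : V) (c d : ℤ) (h : ∀ z, F.B v (D.t z) = if z = D.z0 then c - d else c) :
    ∑ z, F.B v (D.t z) ^ 2 = (Fintype.card Z : ℤ) * c ^ 2 - 2 * c * d + d ^ 2 := by
  have h' : ∀ z, F.B v (D.t z) ^ 2 = if z = D.z0 then (c - d) ^ 2 else c ^ 2 := fun z => by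
    rw [h z]; split_ifs <;> rfl
  simp only [h', sum_ite_base]
  ring

theorem t_mul (v w : V) (c d c' d' : ℤ) (h : ∀ z, F.B v (D.t z) = if z = D.z0 then c - d else c)
    (h' : ∀ z, F.B w (D.t z) = if z = D.z0 then c' - d' else c') :
    ∑ z, F.B v (D.t z) * F.B w (D.t z) = (Fintype.card Z : ℤ) * c * c' - c * d' - c' * d + d * d' := by
  have h'' : ∀ z, F.B v (D.t z) * F.B w (D.t z) = if z = D.z0 then (c - d) * (c' - d') else c * c' := fun z => by
    rw [h z, h' z]; split_ifs <;> rfl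
  simp only [h'', sum_ite_base]
  ring

/-- What is known about `φ`. -/
structure IsPhi (φ : V) : Prop where
  norm : F.B φ φ = (Fintype.card I : ℤ) + 1
  coef : ∃ a b : ℤ, ∀ i j, F.B φ (D.e i j) =
    1 + (if i = D.i0 then 0 else a - 1) + (if j = D.j0 then 0 else b - 1)
  tcoef : ∃ c : ℤ, ∀ z, F.B φ (D.t z) = if z = D.z0 then c - 1 else c

/-- What is known about `α j`. -/
structure IsAlpha (j : J) (α : V) : Prop where
  j_ne : j ≠ D.j0
  norm : F.B α α = 2 + (Fintype.card Z : ℤ) ^ 2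
  coef : ∃ (A : ℤ) (y : J → ℤ), y D.j0 = 0 ∧ ∀ i l, F.B α (D.e i l) =
    (if i = D.i0 then (if l = j then 1 else 0) - (if l = D.j0 then 1 else 0) else A) + y l
  tcoef : ∃ x : ℤ, ∀ z, F.B α (D.t z) = if z = D.z0 then x - (Fintype.card Z : ℤ) else x

/-- Column zero is the case (i). -/
def CaseI (φ : V) : Prop := ∀ i j, F.B φ (D.e i j) = if j = D.j0 then 1 else 0

/-- Row zero is the case (ii). -/
def CaseII (φ : V) : Prop := ∀ i j, F.B φ (D.e i j) = if i = D.i0 then 1 else 0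

theorem e_sq_two (v : V) (k a b d : ℤ)
    (h : ∀ i j, F.B v (D.e i j) = if i = D.i0 then (if j = D.j0 then k else b) else (if j = D.j0 then a else d)) :
    ∑ i, ∑ j, F.B v (D.e i j) ^ 2 = (k ^ 2 + ((Fintype.card J : ℤ) - 1) * b ^ 2) +
      ((Fintype.card I : ℤ) - 1) * (a ^ 2 + ((Fintype.card J : ℤ) - 1) * d ^ 2) := by
  have h' : ∀ i, ∑ j, F.B v (D.e i j) ^ 2 = if i = D.i0 then k ^ 2 + ((Fintype.card J : ℤ) - 1) * b ^ 2
      else a ^ 2 + ((Fintype.card J : ℤ) - 1) * d ^ 2 := by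
    intro i
    have h1 : ∀ j, F.B v (D.e i j) ^ 2 = if j = D.j0 then (if i = D.i0 then k else a) ^ 2
        else (if i = D.i0 then b else d) ^ 2 := fun j => by
      rw [h i j]; split_ifs <;> rfl
    simp only [h1, sum_ite_base]
    split_ifs <;> rfl
  simp only [h', sum_ite_base]

/-- (11.8), first step: the dichotomy. -/
theorem dichotomy {φ : V} (hφ : D.IsPhi φ) :
    D.CaseI φ ∨ (D.CaseII φ ∧ Fintype.card J < Fintype.card I) := by
  obtain ⟨a, b, hab⟩ := hφ.coef
  obtain ⟨c, hc⟩ := hφ.tcoef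
  have hb := IntForm.bessel F D.fam D.fam_orth φ
  rw [D.sum_fam_sq, D.t_sq φ c 1 hc, hφ.norm, D.e_sq_two φ 1 a b (a + b - 1) (fun i j => by
    rw [hab i j]; split_ifs <;> ring)] at hb
  set P : ℤ := (Fintype.card J : ℤ) with hP
  set Q : ℤ := (Fintype.card I : ℤ) with hQ
  set N : ℤ := (Fintype.card Z : ℤ) with hN
  have hP3 : 3 ≤ P := by rw [hP]; exact_mod_cast D.p3
  have hQ3 : 3 ≤ Q := by rw [hQ]; exact_mod_cast D.q3
  have hN2 : 2 ≤ N := by rw [hN]; exact_mod_cast D.n2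
  have htnn : 0 ≤ N * c ^ 2 - 2 * c * 1 + 1 ^ 2 := by
    nlinarith [sq_nonneg (c - 1), mul_nonneg (show (0 : ℤ) ≤ N - 1 by omega) (sq_nonneg c)]
  have h1 : 1 + (Q - 1) * a ^ 2 + (P - 1) * b ^ 2 + (Q - 1) * (P - 1) * (a + b - 1) ^ 2 ≤ Q + 1 := by
    nlinarith
  have hd : a + b - 1 = 0 := by
    by_contra hne
    have hsq : 1 ≤ (a + b - 1) ^ 2 := by
      have : 0 < (a + b - 1) ^ 2 := by positivity
      omega
    have hPQ : 0 ≤ (Q - 1) * (P - 1) := mul_nonneg (by omega) (by omega)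
    nlinarith [mul_le_mul_of_nonneg_left hsq hPQ, mul_nonneg (show (0 : ℤ) ≤ Q - 1 by omega) (sq_nonneg a),
      mul_nonneg (show (0 : ℤ) ≤ P - 1 by omega) (sq_nonneg b)]
  have ha : a = 0 ∨ a = 1 := by
    have h2 : a ^ 2 ≤ 1 := by
      by_contra hgt
      have h4 : 4 ≤ a ^ 2 := by
        rcases le_or_gt a (-2) with h | h
        · nlinarith
        · rcases le_or_gt 2 a with h' | h'
          · nlinarith
          · exfalso; apply hgt; nlinarith
      nlinarith [mul_le_mul_of_nonneg_left h4 (show (0 : ℤ) ≤ Q - 1 by omega),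
        mul_nonneg (show (0 : ℤ) ≤ P - 1 by omega) (sq_nonneg b),
        mul_nonneg (mul_nonneg (show (0 : ℤ) ≤ Q - 1 by omega) (show (0 : ℤ) ≤ P - 1 by omega))
          (sq_nonneg (a + b - 1))]
    have hlo : -1 ≤ a := by nlinarith
    have hhi : a ≤ 1 := by nlinarith
    rcases (by omega : a = -1 ∨ a = 0 ∨ a = 1) with h | h | h
    · exfalso
      have hb2 : b = 2 := by omega
      subst h hb2
      nlinarith
    · exact Or.inl h
    · exact Or.inr h
  rcases ha with ha | ha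
  · right
    have hb1 : b = 1 := by omega
    subst ha hb1
    refine ⟨fun i j => by rw [hab i j]; split_ifs <;> ring, ?_⟩
    have hle : P ≤ Q + 1 := by nlinarith
    have h2 : Fintype.card J ≤ Fintype.card I + 1 := by
      rw [hP, hQ] at hle
      exact_mod_cast hle
    obtain ⟨r, hr⟩ := D.qodd
    obtain ⟨s, hs⟩ := D.podd
    have := D.pq
    omega
  · left
    have hb0 : b = 0 := by omega
    subst ha hb0
    exact fun i j => by rw [hab i j]; split_ifs <;> ring

/-- In case (i) the remaining part of `φ` is a single signed image of a member of degree `q`. -/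
theorem caseI_tail {φ : V} (hφ : D.IsPhi φ) (hI : D.CaseI φ) :
    φ = (∑ i, D.e i D.j0) - D.t D.z0 ∨
      (Fintype.card Z = 2 ∧ ∃ z, z ≠ D.z0 ∧ φ = (∑ i, D.e i D.j0) + D.t z) := by
  obtain ⟨c, hc⟩ := hφ.tcoef
  have hb := IntForm.bessel F D.fam D.fam_orth φ
  have hE : ∑ i, ∑ j, F.B φ (D.e i j) ^ 2 = (Fintype.card I : ℤ) := by
    rw [D.e_sq_two φ 1 1 0 0 (fun i j => by rw [hI i j]; split_ifs <;> rfl)]
    ring
  rw [D.sum_fam_sq, D.t_sq φ c 1 hc, hφ.norm, hE] at hb
  set N : ℤ := (Fintype.card Z : ℤ) with hN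
  have hN2 : 2 ≤ N := by rw [hN]; exact_mod_cast D.n2
  have hkey : N * c ^ 2 ≤ 2 * c := by linarith
  have hc01 : c = 0 ∨ (c = 1 ∧ N = 2) := by
    rcases lt_trichotomy c 0 with h | h | h
    · nlinarith
    · exact Or.inl h
    · have : N * c ≤ 2 := by nlinarith
      right
      have : c ≤ 1 := by nlinarith
      have hc1 : c = 1 := by omega
      subst hc1
      exact ⟨rfl, by omega⟩
  have heq := IntForm.eq_proj F D.fam D.fam_orth φ (by
    rw [D.sum_fam_sq, D.t_sq φ c 1 hc, hφ.norm, hE]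
    rcases hc01 with h | ⟨h, hN'⟩ <;> subst h <;> simp only [← hN] <;> nlinarith)
  have hproj : F.proj D.fam φ = (∑ i, D.e i D.j0) + ∑ z, (if z = D.z0 then c - 1 else c) • D.t z := by
    simp only [IntForm.proj, Fintype.sum_sum_type, Fintype.sum_prod_type, fam, Sum.elim_inl, Sum.elim_inr, hc]
    congr 1
    exact Finset.sum_congr rfl fun i _ => by
      rw [Finset.sum_eq_single D.j0] <;> simp +contextual [hI i]
  rcases hc01 with h | ⟨h, hN'⟩
  · left
    subst h
    conv_lhs => rw [heq, hproj]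
    rw [Finset.sum_eq_single D.z0] <;> simp +contextual [sub_eq_add_neg]
  · right
    subst h
    have hZ : Fintype.card Z = 2 := by
      have : (Fintype.card Z : ℤ) = 2 := hN'
      exact_mod_cast this
    refine ⟨hZ, ?_⟩
    obtain ⟨z, hz⟩ := Fintype.exists_ne_of_one_lt_card (by omega) D.z0
    refine ⟨z, hz, ?_⟩
    conv_lhs => rw [heq, hproj]
    rw [Finset.sum_eq_single z]
    · simp [hz]
    · intro b _ hb
      have hb0 : b = D.z0 := by
        by_contra hne
        have h3 : ({z, b, D.z0} : Finset Z).card = 3 :=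
          Finset.card_eq_three.2 ⟨z, b, D.z0, Ne.symm hb, hz, hne, rfl⟩
        have := Finset.card_le_univ ({z, b, D.z0} : Finset Z)
        omega
      simp [hb0]
    · simp

theorem e_sq_alpha {j : J} (hj : j ≠ D.j0) (α : V) (A : ℤ) (y : J → ℤ) (hy : y D.j0 = 0)
    (h : ∀ i l, F.B α (D.e i l) =
      (if i = D.i0 then (if l = j then 1 else 0) - (if l = D.j0 then 1 else 0) else A) + y l) :
    ∑ i, ∑ l, F.B α (D.e i l) ^ 2 = 1 + ((Fintype.card I : ℤ) - 1) * A ^ 2 +
      ∑ l ∈ univ.erase D.j0, (((if l = j then 1 else 0) + y l) ^ 2 + ((Fintype.card I : ℤ) - 1) * (A + y l) ^ 2) := by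
  rw [Finset.sum_comm, ← Finset.add_sum_erase _ _ (Finset.mem_univ D.j0)]
  congr 1
  · have h1 : ∀ i, F.B α (D.e i D.j0) ^ 2 = if i = D.i0 then 1 else A ^ 2 := fun i => by
      rw [h i D.j0, hy]; split_ifs <;> simp_all
    simp only [h1, sum_ite_base]
  · refine Finset.sum_congr rfl fun l hl => ?_
    have h1 : ∀ i, F.B α (D.e i l) ^ 2 =
        if i = D.i0 then ((if l = j then 1 else 0) + y l) ^ 2 else (A + y l) ^ 2 := fun i => by
      rw [h i l, if_neg (Finset.ne_of_mem_erase hl)]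
      split_ifs <;> ring
    simp only [h1, sum_ite_base]

/-- If `η`-part of `α` is short it is `η₀ⱼ - η₀₀`. -/
theorem alpha_short {j : J} (hj : j ≠ D.j0) (α : V) (A : ℤ) (y : J → ℤ) (hy : y D.j0 = 0)
    (h : ∀ i l, F.B α (D.e i l) =
      (if i = D.i0 then (if l = j then 1 else 0) - (if l = D.j0 then 1 else 0) else A) + y l)
    (hlt : ∑ i, ∑ l, F.B α (D.e i l) ^ 2 < (Fintype.card I : ℤ)) : A = 0 ∧ ∀ l, y l = 0 := by
  rw [D.e_sq_alpha hj α A y hy h] at hlt
  set Q : ℤ := (Fintype.card I : ℤ) with hQ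
  have hQ3 : 3 ≤ Q := by rw [hQ]; exact_mod_cast D.q3
  have hnn : ∀ l ∈ univ.erase D.j0,
      (0 : ℤ) ≤ ((if l = j then 1 else 0) + y l) ^ 2 + (Q - 1) * (A + y l) ^ 2 := fun l _ =>
    add_nonneg (sq_nonneg _) (mul_nonneg (by omega) (sq_nonneg _))
  have hA : A = 0 := by
    by_contra hA
    have h1 : 1 ≤ A ^ 2 := by
      have : 0 < A ^ 2 := by positivity
      omega
    nlinarith [Finset.sum_nonneg hnn, mul_le_mul_of_nonneg_left h1 (show (0 : ℤ) ≤ Q - 1 by omega)]
  refine ⟨hA, fun l => ?_⟩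
  by_contra hl
  have hl0 : l ≠ D.j0 := fun h0 => hl (h0 ▸ hy)
  have h1 : 1 ≤ (A + y l) ^ 2 := by
    have : 0 < (A + y l) ^ 2 := by rw [hA, zero_add]; positivity
    omega
  have h2 := Finset.single_le_sum hnn (Finset.mem_erase.2 ⟨hl0, Finset.mem_univ l⟩)
  subst hA
  nlinarith [mul_le_mul_of_nonneg_left h1 (show (0 : ℤ) ≤ Q - 1 by omega),
    sq_nonneg ((if l = j then 1 else 0) + y l)]

theorem e_mul_alpha {j : J} (hj : j ≠ D.j0) (α v : V) (A : ℤ) (y : J → ℤ)
    (h : ∀ i l, F.B α (D.e i l) =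
      (if i = D.i0 then (if l = j then 1 else 0) - (if l = D.j0 then 1 else 0) else A) + y l)
    (hA : A = 0) (hy : ∀ l, y l = 0) :
    ∑ i, ∑ l, F.B α (D.e i l) * F.B v (D.e i l) = F.B v (D.e D.i0 j) - F.B v (D.e D.i0 D.j0) := by
  rw [Finset.sum_eq_single D.i0]
  · simp [h, hy, sub_mul, Finset.sum_sub_distrib]
  · intro i _ hi
    simp [h, hy, hA, hi]
  · simp

/-- The coefficient `x` of `α j` on the images of degree `q` lies in `[0, 2]`; unless it is `1` the image is exact. -/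
theorem alpha_cases {j : J} {α : V} (hα : D.IsAlpha j α) (x : ℤ)
    (hx : ∀ z, F.B α (D.t z) = if z = D.z0 then x - (Fintype.card Z : ℤ) else x) :
    (0 ≤ x ∧ x ≤ 2) ∧ (x ≠ 1 → α = F.proj D.fam α ∧
      ∀ i l, F.B α (D.e i l) = if i = D.i0 then (if l = j then 1 else 0) - (if l = D.j0 then 1 else 0) else 0) := by
  obtain ⟨A, y, hy, hM⟩ := hα.coef
  have hb := IntForm.bessel F D.fam D.fam_orth α
  rw [D.sum_fam_sq, D.t_sq α x _ hx, hα.norm] at hb
  set N : ℤ := (Fintype.card Z : ℤ) with hN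
  have hN2 : 2 ≤ N := by rw [hN]; exact_mod_cast D.n2
  set S : ℤ := ∑ i, ∑ l, F.B α (D.e i l) ^ 2 with hS
  have hkey : S + N * (x * (x - 2)) ≤ 2 := by nlinarith
  have hS0 : 0 ≤ S := Finset.sum_nonneg fun i _ => Finset.sum_nonneg fun l _ => sq_nonneg _
  have hx02 : 0 ≤ x ∧ x ≤ 2 := by
    constructor
    · by_contra hlt
      have : 3 ≤ x * (x - 2) := by nlinarith
      nlinarith
    · by_contra hlt
      have : 3 ≤ x * (x - 2) := by nlinarith
      nlinarith
  refine ⟨hx02, fun hne => ?_⟩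
  have hxx : x * (x - 2) = 0 := by
    rcases (by omega : x = 0 ∨ x = 2) with h | h <;> subst h <;> ring
  have hQ3 : 3 ≤ (Fintype.card I : ℤ) := by exact_mod_cast D.q3
  obtain ⟨hA, hy0⟩ := D.alpha_short hα.j_ne α A y hy hM (by rw [← hS]; rw [hxx] at hkey; omega)
  have hM' : ∀ i l, F.B α (D.e i l) =
      if i = D.i0 then (if l = j then 1 else 0) - (if l = D.j0 then 1 else 0) else 0 := fun i l => by
    rw [hM i l, hy0, hA, add_zero]
  refine ⟨IntForm.eq_proj F D.fam D.fam_orth α ?_, hM'⟩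
  have hS2 : S = 2 := by
    rw [hS, D.e_sq_alpha hα.j_ne α A y hy hM, hA]
    simp only [hy0, add_zero, zero_add]
    simp [hα.j_ne]
  rw [D.sum_fam_sq, D.t_sq α x _ hx, hα.norm, ← hS, hS2]
  nlinarith

/-- In case (i) the image of `α j` is known exactly. -/
theorem alpha_caseI {j : J} {α φ : V} (hφ : φ = (∑ i, D.e i D.j0) - D.t D.z0) (hα : D.IsAlpha j α)
    (hin : F.B α φ = (Fintype.card Z : ℤ) - 1) :
    (∀ i l, F.B α (D.e i l) = if i = D.i0 then (if l = j then 1 else 0) - (if l = D.j0 then 1 else 0) else 0) ∧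
      (∀ z, F.B α (D.t z) = if z = D.z0 then -(Fintype.card Z : ℤ) else 0) ∧
      α = F.proj D.fam α := by
  obtain ⟨x, hx⟩ := hα.tcoef
  obtain ⟨⟨hx0, hx2⟩, hne⟩ := D.alpha_cases hα x hx
  obtain ⟨A, y, hy, hM⟩ := hα.coef
  have h0 : x = ((Fintype.card I : ℤ) - 1) * A := by
    rw [hφ, map_sub, map_sum, hx D.z0, if_pos rfl] at hin
    have h1 : ∀ i, F.B α (D.e i D.j0) = if i = D.i0 then -1 else A := fun i => by
      rw [hM i D.j0, hy]; simp [Ne.symm hα.j_ne]
    simp only [h1, sum_ite_base] at hin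
    linarith
  obtain ⟨r, hr⟩ := D.qodd
  have hx1 : x ≠ 1 := by
    intro h1
    rw [h1, show (Fintype.card I : ℤ) - 1 = 2 * (r : ℤ) by rw [hr]; push_cast; ring, mul_assoc] at h0
    omega
  obtain ⟨hproj, hM'⟩ := hne hx1
  have hx00 : x = 0 := by
    obtain ⟨i, hi⟩ := Fintype.exists_ne_of_one_lt_card (by have := D.q3; omega) D.i0
    have h2 := hM' i D.j0
    rw [hM i D.j0, hy, if_neg hi, if_neg hi, add_zero] at h2
    rw [h0, h2, mul_zero]
  refine ⟨hM', fun z => ?_, hproj⟩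
  rw [hx z, hx00, zero_sub]

/-- In case (i) the image of `μⱼ - u ζ` is known exactly, with `u = q n + 1`. -/
theorem psi_caseI {φ : V} (hφ : φ = (∑ i, D.e i D.j0) - D.t D.z0) (α : J → V)
    (hα : ∀ l, l ≠ D.j0 → D.IsAlpha l (α l)) (hαφ : ∀ l, l ≠ D.j0 → F.B (α l) φ = (Fintype.card Z : ℤ) - 1)
    {j : J} (hj : j ≠ D.j0) {ψ : V} {U : ℤ} (hU : U = (Fintype.card I : ℤ) * Fintype.card Z + 1)
    (hnorm : F.B ψ ψ = (Fintype.card I : ℤ) + U ^ 2)
    (hcoef : ∃ (a : ℤ) (b : J → ℤ), b D.j0 = 0 ∧ ∀ i l, F.B ψ (D.e i l) = (if i = D.i0 then 0 else a) + b l)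
    (htc : ∃ c : ℤ, ∀ z, F.B ψ (D.t z) = if z = D.z0 then c - U else c)
    (hψφ : F.B ψ φ = U)
    (hψα : ∀ l, l ≠ D.j0 → F.B ψ (α l) = (if l = j then 1 else 0) + U * Fintype.card Z) :
    ψ = (∑ i, D.e i j) - U • D.t D.z0 := by
  obtain ⟨a, b, hb0, hM⟩ := hcoef
  obtain ⟨c, hc⟩ := htc
  have hca : c = ((Fintype.card I : ℤ) - 1) * a := by
    rw [hφ, map_sub, map_sum, hc D.z0, if_pos rfl] at hψφ
    simp only [hM, hb0, add_zero, sum_ite_base] at hψφ
    linarith
  set N : ℤ := (Fintype.card Z : ℤ) with hN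
  have hbl : ∀ l, l ≠ D.j0 → b l = (if l = j then 1 else 0) + N * c := by
    intro l hl
    obtain ⟨h1, h2, h3⟩ := D.alpha_caseI hφ (hα l hl) (hαφ l hl)
    have h4 := hψα l hl
    rw [h3, IntForm.inner_proj, D.sum_fam_mul, D.e_mul_alpha hl (α l) ψ 0 (fun _ => 0)
      (fun i k => by rw [h1 i k, add_zero]) rfl (fun _ => rfl), hM, hM, hb0] at h4
    have h5 : ∑ z, F.B (α l) (D.t z) * F.B ψ (D.t z) = -N * (c - U) := by
      rw [Finset.sum_eq_single D.z0]
      · rw [h2, hc, if_pos rfl, if_pos rfl]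
      · intro z _ hz; rw [h2, if_neg hz, zero_mul]
      · simp
    rw [h5] at h4
    simp only [if_true, zero_add, sub_zero, ← hN] at h4
    linarith
  set Q : ℤ := (Fintype.card I : ℤ) with hQ
  set P : ℤ := (Fintype.card J : ℤ) with hP
  have hcardJ : ((univ.erase D.j0).card : ℤ) = P - 1 := by
    rw [Finset.card_erase_of_mem (Finset.mem_univ _), Finset.card_univ, hP]
    have := D.p3
    omega
  have hS : ∑ i, ∑ l, F.B ψ (D.e i l) ^ 2 = (Q - 1) * a ^ 2 +
      ∑ l ∈ univ.erase D.j0, (((if l = j then 1 else 0) + N * c) ^ 2 +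
        (Q - 1) * (a + ((if l = j then 1 else 0) + N * c)) ^ 2) := by
    rw [Finset.sum_comm, ← Finset.add_sum_erase _ _ (Finset.mem_univ D.j0)]
    congr 1
    · have h1 : ∀ i, F.B ψ (D.e i D.j0) ^ 2 = if i = D.i0 then 0 else a ^ 2 := fun i => by
        rw [hM, hb0]; split_ifs <;> ring
      simp only [h1, sum_ite_base, zero_add, ← hQ]
    · refine Finset.sum_congr rfl fun l hl => ?_
      have h1 : ∀ i, F.B ψ (D.e i l) ^ 2 =
          if i = D.i0 then b l ^ 2 else (a + b l) ^ 2 := fun i => by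
        rw [hM]; split_ifs <;> ring
      simp only [h1, sum_ite_base, ← hQ, hbl l (Finset.ne_of_mem_erase hl)]
  have hbes := IntForm.bessel F D.fam D.fam_orth ψ
  rw [D.sum_fam_sq, hS, D.t_sq ψ c U hc, hnorm, ← hN] at hbes
  have hQ3 : 3 ≤ Q := by rw [hQ]; exact_mod_cast D.q3
  have hP3 : 3 ≤ P := by rw [hP]; exact_mod_cast D.p3
  have hN2 : 2 ≤ N := by rw [hN]; exact_mod_cast D.n2
  have hjm : j ∈ univ.erase D.j0 := Finset.mem_erase.2 ⟨hj, Finset.mem_univ j⟩
  have hsq : ∑ l ∈ univ.erase D.j0, ((if l = j then 1 else 0) + N * c) ^ 2 = (P - 1) * (N * c) ^ 2 + 2 * (N * c) + 1 := by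
    have h1 : ∀ l, ((if l = j then (1 : ℤ) else 0) + N * c) ^ 2 = (N * c) ^ 2 + if l = j then 2 * (N * c) + 1 else 0 := fun l => by
      split_ifs <;> ring
    simp only [h1, Finset.sum_add_distrib, Finset.sum_const, Finset.sum_ite_eq', hjm, if_true, nsmul_eq_mul, hcardJ]
    ring
  have hc0 : c = 0 := by
    by_contra hcne
    have ha : a ≠ 0 := fun h => hcne (by rw [hca, h, mul_zero])
    have ha1 : 1 ≤ a ^ 2 := by
      have : 0 < a ^ 2 := by positivity
      omega
    rw [Finset.sum_add_distrib, hsq] at hbes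
    have hnn : 0 ≤ ∑ l ∈ univ.erase D.j0, (Q - 1) * (a + ((if l = j then 1 else 0) + N * c)) ^ 2 :=
      Finset.sum_nonneg fun l _ => mul_nonneg (by omega) (sq_nonneg _)
    have hUN : U - N = (Q - 1) * N + 1 := by rw [hU]; ring
    have hK : 0 < ((P - 1) * N ^ 2 + N) * c ^ 2 - 2 * (U - N) * c := by
      rcases lt_or_gt_of_ne hcne with hneg | hpos
      · have h1 : 0 < U - N := by rw [hUN]; nlinarith
        have h2 : 0 ≤ ((P - 1) * N ^ 2 + N) * c ^ 2 := mul_nonneg (by nlinarith) (sq_nonneg c)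
        nlinarith
      · have hapos : 1 ≤ a := by nlinarith
        have hcQ : Q - 1 ≤ c := by nlinarith
        have h2 : (2 * N ^ 2 + N) * c ≤ ((P - 1) * N ^ 2 + N) * c := by nlinarith
        have h3 : (2 * N ^ 2 + N) * (Q - 1) ≤ (2 * N ^ 2 + N) * c := by nlinarith
        have h4 : 0 < ((P - 1) * N ^ 2 + N) * c - 2 * (U - N) := by
          rw [hUN]
          have h5 : 3 ≤ (Q - 1) * N * (2 * N - 1) := by
            have h6 : 4 ≤ (Q - 1) * N := by nlinarith
            nlinarith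
          nlinarith
        nlinarith [mul_pos h4 hpos]
    nlinarith [mul_le_mul_of_nonneg_left ha1 (show (0 : ℤ) ≤ Q - 1 by omega)]
  have ha0 : a = 0 := by
    rw [hc0] at hca
    rcases mul_eq_zero.1 hca.symm with h | h
    · omega
    · exact h
  have hMf : ∀ i l, F.B ψ (D.e i l) = if l = j then 1 else 0 := by
    intro i l
    rw [hM, ha0]
    by_cases hl : l = D.j0
    · subst hl; simp [hb0, Ne.symm hj]
    · simp [hbl l hl, hc0]
  have heq := IntForm.eq_proj F D.fam D.fam_orth ψ (by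
    rw [D.sum_fam_sq, D.t_sq ψ c U hc, hnorm, hc0]
    have h1 : ∑ i, ∑ l, F.B ψ (D.e i l) ^ 2 = Q := by simp [hMf, hQ]
    rw [h1]
    nlinarith)
  conv_lhs => rw [heq]
  simp only [IntForm.proj, Fintype.sum_sum_type, Fintype.sum_prod_type, fam, Sum.elim_inl, Sum.elim_inr, hMf, hc, hc0]
  rw [sub_eq_add_neg (∑ i, D.e i j), ← neg_zsmul]
  congr 1
  · exact Finset.sum_congr rfl fun i _ => by rw [Finset.sum_eq_single j] <;> simp +contextual
  · rw [Finset.sum_eq_single D.z0] <;> simp +contextual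

/-- In case (ii) the coefficient `x` of every `α j` is `1`. -/
theorem caseII_x {φ α : V} {j : J} (hφ : D.IsPhi φ) (hII : D.CaseII φ) (hα : D.IsAlpha j α)
    (hin : F.B α φ = (Fintype.card Z : ℤ) - 1) :
    ∀ z, F.B α (D.t z) = if z = D.z0 then 1 - (Fintype.card Z : ℤ) else 1 := by
  obtain ⟨x, hx⟩ := hα.tcoef
  obtain ⟨c, hc⟩ := hφ.tcoef
  obtain ⟨⟨hx0, hx2⟩, hne⟩ := D.alpha_cases hα x hx
  by_cases h1 : x = 1
  · subst h1; exact hx
  exfalso
  obtain ⟨hproj, hM⟩ := hne h1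
  rw [hproj, F.symm, IntForm.inner_proj, D.sum_fam_mul,
    D.e_mul_alpha hα.j_ne α φ 0 (fun _ => 0) (fun i k => by rw [hM i k, add_zero]) rfl (fun _ => rfl),
    D.t_mul α φ x _ c 1 hx hc, hII, hII] at hin
  obtain ⟨r, hr⟩ := D.neven
  have hN : (Fintype.card Z : ℤ) = 2 * (r : ℤ) := by rw [hr]; push_cast; ring
  rw [hN] at hin
  rcases (by omega : x = 0 ∨ x = 2) with h | h <;> subst h
  · have : 2 * ((r : ℤ) * c) = 1 := by linarith
    omega
  · have : 2 * ((r : ℤ) * c) = 1 := by linarith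
    omega

end Frame

end CfsgLib.OddOrder.S11
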