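import Cfsg.Agent.Lib.OddOrder.S11.Bridge

/-!
The lattice argument of Peterfalvi (11.9)(c): in case (ii) no further irreducible characters of degree `q a`, with
`a` small and odd, can be carried along; `y k` stands for their coherent images.
-/

set_option autoImplicit false

universe u v w x y

namespace CfsgLib.OddOrder.S11

open Finset

variable {V : Type u} [AddCommGroup V] {F : IntForm V}
variable {I : Type v} {J : Type w} {Z : Type x} [Fintype I] [Fintype J] [Fintype Z]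
  [DecidableEq I] [DecidableEq J] [DecidableEq Z]

namespace Frame

variable (D : Frame F (I := I) (J := J) (Z := Z))
variable {Y : Type y} [Fintype Y] [DecidableEq Y]

/-- The frame enlarged by a further orthonormal family. -/
def fam' (y : Y → V) : ((I × J) ⊕ Z) ⊕ Y → V := Sum.elim D.fam y

theorem sum_fam'_sq (y : Y → V) (v : V) :
    ∑ a, F.B v (D.fam' y a) ^ 2 =
      ((∑ i, ∑ j, F.B v (D.e i j) ^ 2) + ∑ z, F.B v (D.t z) ^ 2) + ∑ k, F.B v (y k) ^ 2 := by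
  rw [Fintype.sum_sum_type, ← D.sum_fam_sq]; rfl

theorem sum_fam'_mul (y : Y → V) (v w : V) :
    ∑ a, F.B v (D.fam' y a) * F.B w (D.fam' y a) =
      ((∑ i, ∑ j, F.B v (D.e i j) * F.B w (D.e i j)) + ∑ z, F.B v (D.t z) * F.B w (D.t z)) +
        ∑ k, F.B v (y k) * F.B w (y k) := by
  rw [Fintype.sum_sum_type, ← D.sum_fam_mul]; rfl

theorem one_le_e_sq_alpha {j : J} (hj : j ≠ D.j0) (α : V) (A : ℤ) (b : J → ℤ) (hb : b D.j0 = 0)
    (h : ∀ i l, F.B α (D.e i l) =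
      (if i = D.i0 then (if l = j then 1 else 0) - (if l = D.j0 then 1 else 0) else A) + b l) :
    1 ≤ ∑ i, ∑ l, F.B α (D.e i l) ^ 2 := by
  rw [D.e_sq_alpha hj α A b hb h]
  have hQ : (0 : ℤ) ≤ (Fintype.card I : ℤ) - 1 := by
    have := D.q3
    omega
  nlinarith [mul_nonneg hQ (sq_nonneg A), Finset.sum_nonneg (fun l (_ : l ∈ univ.erase D.j0) =>
    add_nonneg (sq_nonneg ((if l = j then (1 : ℤ) else 0) + b l)) (mul_nonneg hQ (sq_nonneg (A + b l))))]

/-- The case `n > 2 a`: `S(HC) ∪ Y` is coherent with images `t`, `y`. -/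
theorem no_large_extension {j : J} {α : V} (hα : D.IsAlpha j α)
    (hx : ∀ z, F.B α (D.t z) = if z = D.z0 then 1 - (Fintype.card Z : ℤ) else 1)
    (y : Y → V) (horth : ∀ a b, F.B (D.fam' y a) (D.fam' y b) = if a = b then 1 else 0) (a : ℤ)
    (hya : ∀ k, F.B α (y k - a • D.t D.z0) = (Fintype.card Z : ℤ) * a)
    (hbig : (Fintype.card Z : ℤ) + 1 < (Fintype.card Y : ℤ) * a ^ 2) : False := by
  obtain ⟨A, b, hb0, hM⟩ := hα.coef
  have hy : ∀ k, F.B α (y k) = a := fun k => by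
    have h := hya k
    rw [map_sub, map_zsmul, hx D.z0, if_pos rfl, smul_eq_mul] at h
    linarith
  have hb := IntForm.bessel F (D.fam' y) horth α
  rw [D.sum_fam'_sq, D.t_sq α 1 _ hx, hα.norm] at hb
  have h1 := D.one_le_e_sq_alpha hα.j_ne α A b hb0 hM
  have h2 : ∑ k, F.B α (y k) ^ 2 = (Fintype.card Y : ℤ) * a ^ 2 := by simp [hy]
  rw [h2] at hb
  nlinarith

/-- The case `n ≤ 2 a`: `Y` is coherent with images `y`, and `Γ` is the image of `ξ₀ - a ζ`. -/
theorem no_small_extension {j : J} {α Γ : V} (hα : D.IsAlpha j α)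
    (hx : ∀ z, F.B α (D.t z) = if z = D.z0 then 1 - (Fintype.card Z : ℤ) else 1)
    (hlt : Fintype.card J < Fintype.card I)
    (a : ℤ) (ha0 : 0 < a) (haodd : Odd a) (hap : 2 * a ≤ (Fintype.card J : ℤ) - 1)
    (hn : (Fintype.card Z : ℤ) ≤ 2 * a)
    (y : Y → V) (k0 : Y) (horth : ∀ a b, F.B (D.fam' y a) (D.fam' y b) = if a = b then 1 else 0)
    (hN : Fintype.card Z < Fintype.card Y)
    (hαy : ∃ v : ℤ, ∀ k, F.B α (y k) = v)
    (hΓn : F.B Γ Γ = 1 + a ^ 2)
    (hΓe : ∃ a' b' : ℤ, ∀ i l, F.B Γ (D.e i l) = (if i = D.i0 then 0 else a') + (if l = D.j0 then 0 else b'))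
    (hΓt : ∃ z' : ℤ, ∀ z, F.B Γ (D.t z) = if z = D.z0 then z' - a else z')
    (hΓy : ∃ w : ℤ, ∀ k, F.B Γ (y k) = if k = k0 then w + 1 else w)
    (hαΓ : F.B α Γ = (Fintype.card Z : ℤ) * a) : False := by
  obtain ⟨A, b, hb0, hM⟩ := hα.coef
  obtain ⟨v, hv⟩ := hαy
  obtain ⟨a', b', he⟩ := hΓe
  obtain ⟨z', hz⟩ := hΓt
  obtain ⟨w, hw⟩ := hΓy
  set N : ℤ := (Fintype.card Z : ℤ) with hNdef
  set P : ℤ := (Fintype.card J : ℤ) with hP
  set Q : ℤ := (Fintype.card I : ℤ) with hQ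
  set K : ℤ := (Fintype.card Y : ℤ) with hK
  obtain ⟨r, hr⟩ := D.qodd
  obtain ⟨s, hs⟩ := D.podd
  have hPQ : P + 2 ≤ Q := by rw [hP, hQ]; omega
  have hP3 : 3 ≤ P := by rw [hP]; exact_mod_cast D.p3
  have hN2 : 2 ≤ N := by rw [hNdef]; exact_mod_cast D.n2
  have hKN : N < K := by rw [hK, hNdef]; exact_mod_cast hN
  have hb := IntForm.bessel F (D.fam' y) horth α
  rw [D.sum_fam'_sq, D.t_sq α 1 _ hx, hα.norm, ← hNdef] at hb
  have hy2 : ∑ k, F.B α (y k) ^ 2 = K * v ^ 2 := by simp [hv, hK]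
  rw [hy2] at hb
  have hKv : 0 ≤ K * v ^ 2 := mul_nonneg (by omega) (sq_nonneg v)
  obtain ⟨hA, hb00⟩ := D.alpha_short hα.j_ne α A b hb0 hM (by rw [← hQ]; nlinarith)
  have hS2 : ∑ i, ∑ l, F.B α (D.e i l) ^ 2 = 2 := by
    rw [D.e_sq_alpha hα.j_ne α A b hb0 hM, hA]
    simp [hb00, hα.j_ne]
  rw [hS2] at hb
  have hv0 : v = 0 := by
    by_contra hne
    have h1 : 1 ≤ v ^ 2 := by
      have : 0 < v ^ 2 := by positivity
      omega
    nlinarith [mul_le_mul_of_nonneg_left h1 (show (0 : ℤ) ≤ K by omega)]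
  have hcs := IntForm.cauchy F (α - F.proj (D.fam' y) α) (Γ - F.proj (D.fam' y) Γ)
  have hrα := IntForm.residual_norm F (D.fam' y) horth α
  have hrΓ := IntForm.residual_norm F (D.fam' y) horth Γ
  rw [IntForm.inner_residual F (D.fam' y) horth, D.sum_fam'_mul, hαΓ,
    D.e_mul_alpha hα.j_ne α Γ A b hM hA hb00, D.t_mul α Γ 1 _ z' a hx hz, ← hNdef] at hcs
  have hy3 : ∑ k, F.B α (y k) * F.B Γ (y k) = 0 := by simp [hv, hv0]
  rw [hy3, he, he, if_neg hα.j_ne] at hcs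
  simp only [if_true, zero_add, sub_zero, add_zero] at hcs
  rw [D.sum_fam'_sq, D.t_sq α 1 _ hx, hα.norm, ← hNdef, hy2, hS2, hv0] at hrα
  have hnα : F.B (α - F.proj (D.fam' y) α) (α - F.proj (D.fam' y) α) = N := by rw [hrα]; ring
  have hY : ∑ k, F.B Γ (y k) ^ 2 = (w + 1) ^ 2 + (K - 1) * w ^ 2 := by
    have h1 : ∀ k, F.B Γ (y k) ^ 2 = if k = k0 then (w + 1) ^ 2 else w ^ 2 := fun k => by
      rw [hw]; split_ifs <;> rfl
    simp only [h1, sum_ite_base, hK]
  have hY1 : 1 ≤ ∑ k, F.B Γ (y k) ^ 2 := by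
    rw [hY]
    rcases eq_or_ne w 0 with h | h
    · subst h; norm_num
    · have h1 : 1 ≤ w ^ 2 := by
        have : 0 < w ^ 2 := by positivity
        omega
      nlinarith [mul_le_mul_of_nonneg_left h1 (show (0 : ℤ) ≤ K - 1 by omega), sq_nonneg (w + 1)]
  have hE := D.e_sq_two Γ 0 a' b' (a' + b') (fun i l => by rw [he]; split_ifs <;> ring)
  rw [D.sum_fam'_sq, hE, D.t_sq Γ z' a hz, hΓn, ← hNdef, ← hP, ← hQ] at hrΓ
  set E : ℤ := 0 ^ 2 + (P - 1) * b' ^ 2 + (Q - 1) * (a' ^ 2 + (P - 1) * (a' + b') ^ 2) with hEdef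
  set R : ℤ := F.B (Γ - F.proj (D.fam' y) Γ) (Γ - F.proj (D.fam' y) Γ) with hR
  rw [hnα] at hcs
  have hRle : R ≤ 2 * z' * a - N * z' ^ 2 - E := by linarith
  have hmain : (a - b') ^ 2 + (a - N * z') ^ 2 + N * E ≤ a ^ 2 := by
    have h1 : (a - b') ^ 2 ≤ N * (2 * z' * a - N * z' ^ 2 - E) := by
      refine le_trans (le_of_eq ?_) (hcs.trans (mul_le_mul_of_nonneg_left hRle (by omega)))
      ring
    have h2 : N * (2 * z' * a - N * z' ^ 2 - E) = a ^ 2 - (a - N * z') ^ 2 - N * E := by ring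
    linarith
  by_cases hb' : b' = 0
  · have hE0 : 0 ≤ E := by
      rw [hEdef]
      have h1 := mul_nonneg (show (0 : ℤ) ≤ P - 1 by omega) (sq_nonneg b')
      have h2 := mul_nonneg (show (0 : ℤ) ≤ Q - 1 by omega)
        (add_nonneg (sq_nonneg a') (mul_nonneg (show (0 : ℤ) ≤ P - 1 by omega) (sq_nonneg (a' + b'))))
      linarith
    have h1 := mul_nonneg (show (0 : ℤ) ≤ N by omega) hE0
    have h2 : (a - b') ^ 2 = a ^ 2 := by rw [hb', sub_zero]
    have h4 : (a - N * z') ^ 2 = 0 := le_antisymm (by linarith) (sq_nonneg _)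
    have h3 : a - N * z' = 0 := (pow_eq_zero_iff two_ne_zero).1 h4
    obtain ⟨c, hc⟩ := haodd
    obtain ⟨d, hd⟩ := D.neven
    have hN' : N = 2 * (d : ℤ) := by rw [hNdef, hd]; push_cast; ring
    rw [hN', hc, mul_assoc] at h3
    omega
  · have hb1 : 1 ≤ b' ^ 2 := by
      have : 0 < b' ^ 2 := by positivity
      omega
    have hE1 : (P - 1) * b' ^ 2 + (Q - 1) ≤ E := by
      rw [hEdef]
      rcases eq_or_ne a' 0 with h | h
      · have h1 : 1 ≤ (P - 1) * b' ^ 2 := one_le_mul_of_one_le_of_one_le (by omega) hb1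
        have h2 := mul_le_mul_of_nonneg_left h1 (show (0 : ℤ) ≤ Q - 1 by omega)
        rw [h]
        simp only [zero_add, ne_eq, OfNat.ofNat_ne_zero, not_false_eq_true, zero_pow, mul_one] at h2 ⊢
        linarith
      · have h1 : 1 ≤ a' ^ 2 := by
          have : 0 < a' ^ 2 := by positivity
          omega
        have h2 := mul_le_mul_of_nonneg_left h1 (show (0 : ℤ) ≤ Q - 1 by omega)
        have h3 := mul_nonneg (show (0 : ℤ) ≤ Q - 1 by omega)
            (mul_nonneg (show (0 : ℤ) ≤ P - 1 by omega) (sq_nonneg (a' + b')))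
        linarith
    have h2 : b' ^ 2 * (1 + N * (P - 1)) - 2 * a * b' + N * (Q - 1) ≤ 0 := by
      have h4 := mul_le_mul_of_nonneg_left hE1 (show (0 : ℤ) ≤ N by omega)
      have h5 : (a - b') ^ 2 = a ^ 2 - 2 * a * b' + b' ^ 2 := by ring
      linarith [sq_nonneg (a - N * z')]
    have h3 : a ^ 2 < (1 + N * (P - 1)) * (N * (Q - 1)) := by
      have h4 : P - 1 ≤ N * (P - 1) := le_mul_of_one_le_left (by omega) (by omega)
      have h5 : Q - 1 ≤ N * (Q - 1) := le_mul_of_one_le_left (by omega) (by omega)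
      have h6 : (P - 1) * (Q - 1) ≤ (N * (P - 1)) * (N * (Q - 1)) := mul_le_mul h4 h5 (by omega) (by omega)
      have h7 : a * a ≤ (P - 1) * (Q - 1) := mul_le_mul (by omega) (by omega) ha0.le (by omega)
      linarith [sq a]
    have h4 := mul_le_mul_of_nonneg_left h2 (show (0 : ℤ) ≤ 1 + N * (P - 1) by
      have := mul_nonneg (show (0 : ℤ) ≤ N by omega) (show (0 : ℤ) ≤ P - 1 by omega)
      omega)
    have h5 : (1 + N * (P - 1)) * (b' ^ 2 * (1 + N * (P - 1)) - 2 * a * b' + N * (Q - 1)) =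
        ((1 + N * (P - 1)) * b' - a) ^ 2 - a ^ 2 + (1 + N * (P - 1)) * (N * (Q - 1)) := by ring
    linarith [sq_nonneg ((1 + N * (P - 1)) * b' - a)]

end Frame

end CfsgLib.OddOrder.S11
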