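import Cfsg.Agent.Lib.OddOrder.S11.Quot

/-!
Peterfalvi section 11: the members of `S(C)`: the exceptional columns have degree `q u`, every other member is
irreducible of degree at most `q u`, and in the non-Galois case many have degree `q a`.
-/

set_option autoImplicit false
set_option linter.unusedSectionVars false
set_option linter.style.haveILetI false

namespace CfsgLib.OddOrder.S11

open Cfsg CfsgLib.CharTheory CfsgLib.OddOrder.Found CfsgLib.OddOrder.S9b

universe u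

variable {L : Type u} [Group L] [Fintype L] {K H U C W₁ W₂ : Subgroup L} {p q : ℕ}

theorem card_hom_comm {A : Type u} [Group A] [Finite A] [Fintype (A →* ℂˣ)] (hc : ∀ a b : A, a * b = b * a) :
    Fintype.card (A →* ℂˣ) = Nat.card A := by
  have h1 := sum_hom_abelian hc 1
  simp at h1
  exact_mod_cast h1

namespace ElevenHyp

variable (h : ElevenHyp K H U C W₁ W₂ p q)
include h

theorem card_hom_W₂ [Fintype (W₂ →* ℂˣ)] : Fintype.card (W₂ →* ℂˣ) = p :=
  (card_hom_comm h.prime.comm₂).trans h.card_W₂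

/-- The non-principal columns are inflated from `L / C`. -/
theorem colChar_infl [C.Normal] [Fintype (L ⧸ C)] {b : W₂ →* ℂˣ} (hb : b ≠ 1) :
    ∃ c, c ≠ 1 ∧ h.prime.colChar b = fun k => h.coreHyp.prime.colChar c (h.toQ k) := by
  classical
  set Q := h.coreHyp.prime with hQ
  haveI := Fintype.ofFinite (W₂ →* ℂˣ)
  haveI := Fintype.ofFinite (W₂.map (QuotientGroup.mk' C) →* ℂˣ)
  have hF : ∀ c : W₂.map (QuotientGroup.mk' C) →* ℂˣ, ∃ b' : W₂ →* ℂˣ,
      (fun k => Q.colChar c (h.toQ k)) = h.prime.colChar b' := fun c =>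
    h.prime.exists_colChar_of_invariant
      (isIrrCharacter_comp_surjective (Q.isIrr_colChar c) h.toQ h.toQ_surjective) fun x hx k =>
      (congrArg (Q.colChar c) (Subtype.ext (by simp [h.coe_toQ]))).trans
        (Q.colChar_invariant c (QuotientGroup.mk' C x) (h.toQ k))
  choose F hFe using hF
  have hinj : Function.Injective F := fun c c' e => Q.colChar_injective (funext fun z => by
    obtain ⟨k, rfl⟩ := h.toQ_surjective z
    exact congrFun ((hFe c).trans ((congrArg h.prime.colChar e).trans (hFe c').symm)) k)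
  have hcard : Fintype.card (W₂.map (QuotientGroup.mk' C) →* ℂˣ) = Fintype.card (W₂ →* ℂˣ) := by
    rw [h.card_hom_W₂, card_hom_comm Q.comm₂, h.coreHyp.card_W₂]
  obtain ⟨c, rfl⟩ := ((Fintype.bijective_iff_injective_and_card F).mpr ⟨hinj, hcard⟩).2 b
  refine ⟨c, fun e => hb (h.prime.colChar_injective ?_), (hFe c).symm⟩
  rw [← hFe c, e, Q.colChar_one, h.prime.colChar_one]

/-- The columns have degree `u` and are trivial on `C`. -/
theorem colChar_facts [C.Normal] [Fintype (L ⧸ C)] {b : W₂ →* ℂˣ} (hb : b ≠ 1) :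
    h.prime.colChar b 1 = (C.relIndex U : ℂ) ∧ ∀ a : K, (a : L) ∈ C → h.prime.colChar b a = h.prime.colChar b 1 := by
  obtain ⟨c, hc, e⟩ := h.colChar_infl hb
  haveI : (H.map (QuotientGroup.mk' C)).Normal := h.coreHyp.P_normal
  refine ⟨?_, fun a ha => ?_⟩
  · rw [e]
    show h.coreHyp.prime.colChar c (h.toQ 1) = _
    rw [map_one, h.coreHyp.colChar_degree hc, h.uBar_eq]
  · rw [e]
    refine congrArg (h.coreHyp.prime.colChar c) (Subtype.ext ?_)
    rw [h.coe_toQ, h.coe_toQ]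
    show QuotientGroup.mk' C (a : L) = QuotientGroup.mk' C 1
    rw [map_one]
    exact (QuotientGroup.eq_one_iff _).mpr ha

theorem muSum_mem [C.Normal] [Fintype (L ⧸ C)] [Fintype (W₁ →* ℂˣ)] {b : W₂ →* ℂˣ} (hb : b ≠ 1) :
    h.prime.muSum b ∈ inducedIrrAbove K C :=
  ⟨_, h.prime.isIrr_colChar b, h.prime.colChar_ne_one hb, (h.colChar_facts hb).2,
    (h.prime.indFun_colChar b).symm⟩

theorem muSum_one [C.Normal] [Fintype (L ⧸ C)] [Fintype (W₁ →* ℂˣ)] {b : W₂ →* ℂˣ} (hb : b ≠ 1) :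
    h.prime.muSum b 1 = ((q * C.relIndex U : ℕ) : ℂ) := by
  rw [← h.prime.indFun_colChar, indFun_apply_one, (h.colChar_facts hb).1, h.prime.index_eq, h.card_W₁,
    Nat.cast_mul]

/-- All signs are `1`. -/
theorem delta_col [C.Normal] [Fintype (L ⧸ C)] (hu : C.relIndex U % q = 1) (b : W₂ →* ℂˣ) :
    h.prime.delta (h.prime.col b) = 1 := by
  by_cases hb : b = 1
  · rw [hb, h.prime.col_one]; exact h.prime.mu_one.2
  rcases h.prime.delta_eq_or (h.prime.col b) with e | e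
  · exact e
  exfalso
  obtain ⟨n, hn⟩ := h.prime.degree_congr (h.prime.col b)
  have h1 : h.prime.mu (h.prime.col b) 1 = (C.relIndex U : ℂ) := (h.colChar_facts hb).1
  rw [h1, e, h.card_W₁, sub_neg_eq_add] at hn
  have h2 : (C.relIndex U : ℤ) + 1 = n * q := by exact_mod_cast hn
  have h3 : (q : ℤ) ∣ 2 := ⟨n - (C.relIndex U / q : ℕ), by
    have h4 : (q : ℤ) * ((C.relIndex U / q : ℕ) : ℤ) + 1 = (C.relIndex U : ℤ) := by
      have h5 := Nat.div_add_mod (C.relIndex U) q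
      rw [hu] at h5
      exact_mod_cast h5
    linarith [mul_comm n (q : ℤ), mul_sub (q : ℤ) n ((C.relIndex U / q : ℕ) : ℤ)]⟩
  have h5 := Nat.le_of_dvd (by norm_num) (Int.natCast_dvd_natCast.mp (show (q : ℤ) ∣ ((2 : ℕ) : ℤ) by exact_mod_cast h3))
  have h6 := h.prime.three_le₁
  rw [h.card_W₁] at h6
  omega

/-- A member is a column sum or irreducible of degree `q d` with `d ≤ u`. -/
theorem member_facts [C.Normal] [Fintype (L ⧸ C)] [Fintype (W₁ →* ℂˣ)] {φ : L → ℂ}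
    (hφ : φ ∈ inducedIrrAbove K C) :
    (∃ b, b ≠ 1 ∧ φ = h.prime.muSum b) ∨
      (IsIrrCharacter L φ ∧ ∃ d : ℕ, 0 < d ∧ d ≤ C.relIndex U ∧ φ 1 = ((q * d : ℕ) : ℂ)) := by
  classical
  haveI := Fintype.ofFinite K
  obtain ⟨θ, hθ, hne, hC, rfl⟩ := hφ
  by_cases hcol : ∃ b, θ = h.prime.colChar b
  · obtain ⟨b, rfl⟩ := hcol
    exact Or.inl ⟨b, fun e => hne (by rw [e, h.prime.colChar_one]), h.prime.indFun_colChar b⟩
  push Not at hcol
  refine Or.inr ⟨h.prime.isIrr_indFun_of_ne hθ hcol, ?_⟩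
  have hu : 0 < C.relIndex U := Nat.pos_of_ne_zero Subgroup.index_ne_zero_of_finite
  rcases h.member_cases ⟨θ, hθ, hne, hC, rfl⟩ with ⟨η, -, -, h1, -, e⟩ | ⟨ψ, hψ, e⟩
  · refine ⟨1, Nat.one_pos, hu, ?_⟩
    rw [e, indFun_apply_one, h1, h.prime.index_eq, h.card_W₁, mul_one, mul_one]
  · haveI : (H.map (QuotientGroup.mk' C)).Normal := h.coreHyp.P_normal
    obtain ⟨η, hη, hk, rfl⟩ := hψ
    obtain ⟨d, hd, hd0, -, hd1⟩ := h.coreHyp.coreSet_degree hη hk
    refine ⟨d, hd0, Nat.le_of_dvd hu (h.uBar_eq ▸ hd), ?_⟩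
    rw [e, h.infl_one, hd1]

/-- The irreducible members of degree `q a` inflated from the lines. -/
theorem exists_low [C.Normal] [Fintype (L ⧸ C)] {ℓ : Fin q → Subgroup (L ⧸ C)} {a : ℕ}
    (D : IsLineSystem (H.map (QuotientGroup.mk' C)) (U.map (QuotientGroup.mk' C))
      (W₁.map (QuotientGroup.mk' C)) p q ℓ a) (ha : a ≠ C.relIndex U) :
    ∃ Y : Finset (L → ℂ), (∀ φ, φ ∈ Y → φ ∈ inducedIrrAbove K C ∧ IsIrrCharacter L φ ∧
      φ 1 = ((q * a : ℕ) : ℂ) ∧ conjFun φ ∈ Y) ∧ 2 * C.relIndex U ≤ Y.card * a := by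
  classical
  haveI : (H.map (QuotientGroup.mk' C)).Normal := h.coreHyp.P_normal
  refine ⟨(h.coreHyp.ofDegree a).image h.infl, fun φ hφ => ?_, ?_⟩
  · obtain ⟨ψ, hψ, rfl⟩ := Finset.mem_image.mp hφ
    obtain ⟨hmem, h1⟩ := h.coreHyp.mem_ofDegree.mp hψ
    have hirr := h.coreHyp.irr_of_degree_ne hmem (by
      rw [h1, h.uBar_eq, Ne, Nat.cast_inj]
      exact fun e => ha (Nat.eq_of_mul_eq_mul_left h.hq.pos e))
    refine ⟨h.infl_mem hmem, h.isIrr_infl hirr, (h.infl_one ψ).trans h1,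
      Finset.mem_image.mpr ⟨conjFun ψ, h.coreHyp.mem_ofDegree.mpr ⟨(h.coreHyp.coreSet_conj hmem).1, ?_⟩, rfl⟩⟩
    show (starRingEnd ℂ) (ψ 1) = _
    rw [h1, map_natCast]
  · rw [Finset.card_image_of_injective _ h.infl_injective, ← h.uBar_eq]
    exact D.card_low h.coreHyp

end ElevenHyp

end CfsgLib.OddOrder.S11
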