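import Cfsg.Agent.Lib.OddOrder.S11.Chars
import Cfsg.Agent.Lib.OddOrder.Found.Galois
import Cfsg.Agent.Lib.CharTheory.CoherenceDescend
import Cfsg.Agent.Lib.OddOrder.S11.Galois

/-!
Peterfalvi section 11: the members of `S(H C)`: there are `(u - 1)/q` of them, irreducible of degree `q`.
-/

set_option autoImplicit false
set_option linter.unusedSectionVars false
set_option linter.style.haveILetI false

namespace CfsgLib.OddOrder.S11

open Cfsg CfsgLib.CharTheory CfsgLib.OddOrder.Found CfsgLib.OddOrder.S9b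
open scoped commutatorElement

universe u

variable {L : Type u} [Group L] [Fintype L] {K H U C W₁ W₂ : Subgroup L} {p q : ℕ}

/-- `S(A)` is stable under field automorphisms. -/
theorem galois_mem (s : ℂ ≃+* ℂ) {A : Subgroup L} {φ : L → ℂ} (hφ : φ ∈ inducedIrrAbove K A) :
    (fun x => s (φ x)) ∈ inducedIrrAbove K A := by
  haveI := Fintype.ofFinite K
  obtain ⟨θ, hθ, hne, hA, rfl⟩ := hφ
  refine ⟨fun k => s (θ k), isIrr_galois s hθ, fun e => hne ?_, fun a ha => congrArg s (hA a ha),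
    indFun_galois s K θ⟩
  funext k
  exact s.injective ((congrFun e k).trans (map_one s).symm)

theorem inducedIrrAbove_mono {A B : Subgroup L} (hAB : A ≤ B) : inducedIrrAbove K B ⊆ inducedIrrAbove K A :=
  fun _ ⟨θ, h1, h2, h3, e⟩ => ⟨θ, h1, h2, fun a ha => h3 a (hAB ha), e⟩

namespace ElevenHyp

variable (h : ElevenHyp K H U C W₁ W₂ p q)
include h

theorem HC_normal : (H ⊔ C).Normal := by
  haveI := h.H_normal
  haveI := h.C_normal
  infer_instance

theorem HC_le : H ⊔ C ≤ K := sup_le h.H_le h.C_le_K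

theorem card_sup {N V : Subgroup L} (hN : N.Normal) (hNV : N ⊓ V = ⊥) :
    Nat.card ↥(N ⊔ V) = Nat.card N * Nat.card V := by
  haveI := hN
  rw [← Nat.card_prod]
  refine (Nat.card_eq_of_bijective
    (fun p : N × V => (⟨(p.1 : L) * p.2, Subgroup.mul_mem_sup p.1.2 p.2.2⟩ : ↥(N ⊔ V))) ⟨?_, ?_⟩).symm
  · rintro ⟨a, b⟩ ⟨a', b'⟩ e
    have e : (a : L) * b = a' * b' := congrArg Subtype.val e
    have hh : (a' : L)⁻¹ * a = b' * (b : L)⁻¹ := by rw [eq_mul_inv_iff_mul_eq, mul_assoc, e]; group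
    have hm : (a' : L)⁻¹ * a ∈ N ⊓ V :=
      Subgroup.mem_inf.mpr ⟨N.mul_mem (N.inv_mem a'.2) a.2, hh ▸ V.mul_mem b'.2 (V.inv_mem b.2)⟩
    rw [hNV, Subgroup.mem_bot] at hm
    rw [hm] at hh
    exact Prod.ext (Subtype.ext (inv_mul_eq_one.mp hm).symm) (Subtype.ext (mul_inv_eq_one.mp hh.symm).symm)
  · rintro ⟨z, hz⟩
    rw [← SetLike.mem_coe, Subgroup.normal_mul] at hz
    obtain ⟨a, ha, b, hb, rfl⟩ := hz
    exact ⟨(⟨a, ha⟩, ⟨b, hb⟩), rfl⟩

theorem relIndex_HC : (H ⊔ C).relIndex K = C.relIndex U := by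
  have h1 := Subgroup.relIndex_mul_relIndex ⊥ (H ⊔ C) K bot_le h.HC_le
  rw [Subgroup.relIndex_bot_left, Subgroup.relIndex_bot_left, h.card_sup h.H_normal h.inf_HC, ← h.sup_HU,
    h.card_sup h.H_normal h.inf_HU] at h1
  have h2 := Subgroup.relIndex_mul_relIndex ⊥ C U bot_le h.C_le
  rw [Subgroup.relIndex_bot_left, Subgroup.relIndex_bot_left] at h2
  refine Nat.eq_of_mul_eq_mul_left (mul_pos (Nat.card_pos (α := H)) (Nat.card_pos (α := C))) ?_
  rw [h.sup_HU] at h1
  rw [h1, mul_assoc, h2]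

/-- The quotient `K / H C` is commutative. -/
theorem commutator_mem_HC {a b : L} (ha : a ∈ K) (hb : b ∈ K) : ⁅a, b⁆ ∈ H ⊔ C := by
  haveI := h.H_normal
  haveI := h.HC_normal
  rw [← h.sup_HU, ← SetLike.mem_coe, Subgroup.normal_mul] at ha hb
  obtain ⟨z, hz, x, hx, rfl⟩ := ha
  obtain ⟨z', hz', x', hx', rfl⟩ := hb
  rw [← QuotientGroup.eq_one_iff, ← QuotientGroup.mk'_apply, map_commutatorElement, map_mul, map_mul,
    show QuotientGroup.mk' (H ⊔ C) z = 1 from (QuotientGroup.eq_one_iff z).mpr (Subgroup.mem_sup_left hz),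
    show QuotientGroup.mk' (H ⊔ C) z' = 1 from (QuotientGroup.eq_one_iff z').mpr (Subgroup.mem_sup_left hz'),
    one_mul, one_mul, ← map_commutatorElement]
  exact (QuotientGroup.eq_one_iff _).mpr (Subgroup.mem_sup_right (h.U_der x hx x' hx'))

theorem degree_one_of_HC {θ : K → ℂ} (hθ : IsIrrCharacter K θ)
    (hk : ∀ a : K, (a : L) ∈ H ⊔ C → θ a = θ 1) : θ 1 = 1 := by
  haveI := Fintype.ofFinite K
  haveI := h.HC_normal
  obtain ⟨ξ, hξ, e⟩ := exists_quotient_irr ((H ⊔ C).subgroupOf K) hθ fun n hn => hk n hn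
  rw [e]
  refine degree_one_of_commutative (fun a b => ?_) hξ
  obtain ⟨a, rfl⟩ := QuotientGroup.mk_surjective a
  obtain ⟨b, rfl⟩ := QuotientGroup.mk_surjective b
  rw [← commutatorElement_eq_one_iff_mul_comm, ← QuotientGroup.mk'_apply, ← QuotientGroup.mk'_apply,
    ← map_commutatorElement, QuotientGroup.mk'_apply, QuotientGroup.eq_one_iff, Subgroup.mem_subgroupOf]
  exact h.commutator_mem_HC a.2 b.2

/-- Members of `S(H C)` are irreducible of degree `q`. -/
theorem low_facts [C.Normal] [Fintype (L ⧸ C)] (hu1 : C.relIndex U ≠ 1) {φ : L → ℂ}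
    (hφ : φ ∈ inducedIrrAbove K (H ⊔ C)) : IsIrrCharacter L φ ∧ φ 1 = (q : ℂ) := by
  obtain ⟨θ, hθ, hne, hk, rfl⟩ := hφ
  have h1 := h.degree_one_of_HC hθ hk
  refine ⟨h.prime.isIrr_indFun_of_ne hθ fun b e => ?_, ?_⟩
  · by_cases hb : b = 1
    · exact hne (by rw [e, hb, h.prime.colChar_one])
    · rw [e, (h.colChar_facts hb).1, Nat.cast_eq_one] at h1
      exact hu1 h1
  · rw [indFun_apply_one, h1, mul_one, h.prime.index_eq, h.card_W₁]

theorem u_odd : Odd (C.relIndex U) :=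
  h.odd.of_dvd_nat ((Subgroup.relIndex_dvd_card C U).trans (Subgroup.card_subgroup_dvd_card U))

/-- The number of members of `S(H C)`. -/
theorem low_card [C.Normal] [Fintype (L ⧸ C)] (hu1 : C.relIndex U ≠ 1) :
    (inducedIrrAbove_finite K (H ⊔ C)).toFinset.card * q + 1 = C.relIndex U ∧
      Even (inducedIrrAbove_finite K (H ⊔ C)).toFinset.card ∧
      2 ≤ (inducedIrrAbove_finite K (H ⊔ C)).toFinset.card := by
  haveI := h.prime.normal
  haveI := h.HC_normal
  set N := (inducedIrrAbove_finite K (H ⊔ C)).toFinset.card with hN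
  have key := norm_ratio_sum K (H ⊔ C) (fun _ => q) (fun _ => 1) (fun φ hφ => (h.low_facts hu1 hφ).2)
    fun φ hφ => by rw [classInner_irr_self (h.low_facts hu1 hφ).1, Nat.cast_one]
  rw [Finset.sum_const, nsmul_eq_mul, h.relIndex_HC, h.prime.index_eq, h.card_W₁, ← hN] at key
  have hq0 : (q : ℝ) ≠ 0 := Nat.cast_ne_zero.mpr h.hq.ne_zero
  have h1 : N * q + 1 = C.relIndex U := by
    have h2 : (N : ℝ) * q + 1 = (C.relIndex U : ℝ) := by
      have h3 : (q : ℝ) * ((N : ℝ) * q - ((C.relIndex U : ℝ) - 1)) = 0 := by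
        rw [Nat.cast_one, div_one] at key
        linear_combination key
      have h4 := (mul_eq_zero.mp h3).resolve_left hq0
      linarith
    exact_mod_cast h2
  obtain ⟨r, hr⟩ := h.u_odd
  have heven : Even N := by
    rcases Nat.even_or_odd N with he | ho
    · exact he
    · exfalso
      have hqo : Odd q := h.card_W₁ ▸ h.prime.odd₁
      obtain ⟨s, hs⟩ := ho.mul hqo
      omega
  refine ⟨h1, heven, ?_⟩
  obtain ⟨c, hc⟩ := heven
  rcases Nat.eq_zero_or_pos c with h0 | h0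
  · rw [hc, h0] at h1
    exact absurd h1.symm (by simpa using hu1)
  · omega

end ElevenHyp

end CfsgLib.OddOrder.S11
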