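import Cfsg.Agent.Lib.OddOrder.S10.Values
import Cfsg.Agent.Lib.OddOrder.Found.Subcoherent
import Cfsg.Agent.Lib.OddOrder.Found.Galois

/-!
Peterfalvi section 11: what is used about the Dade map of a subgroup of type III or IV and about the family `η`:
the coherence system, reciprocity at `1`, orthogonality of coherent images to `η`, field automorphisms.
-/

set_option autoImplicit false
set_option linter.unusedSectionVars false
set_option linter.style.haveILetI false

namespace CfsgLib.OddOrder.S11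

open Cfsg CfsgLib.CharTheory CfsgLib.Dade CfsgLib.OddOrder.Found CfsgLib.OddOrder.Ten

universe u

variable {G : Type u} [Group G] [Fintype G] {M : Subgroup G} [Fintype M] {K W₁ W₂ : Subgroup M}
  {Hd : G → Subgroup G} (d : TenData M K W₁ W₂ Hd)
include d

theorem map_subgroupOf (W : Subgroup M) : (W.map M.subtype).subgroupOf M = W :=
  Subgroup.comap_map_eq_self_of_injective M.subtype_injective W

/-- The prime Dade hypothesis with `H = K`. -/
theorem primeDade : IsPrimeDade M K K (W₁.map M.subtype) (W₂.map M.subtype) (tenA₀ M W₁) Hd where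
  le₁ := Subgroup.map_subtype_le W₁
  le₂ := Subgroup.map_subtype_le W₂
  ti := by rw [map_subgroupOf d W₁, map_subgroupOf d W₂]; exact d.prime
  selfNormG := d.self
  normalH := d.prime.normal
  W2_le := by rw [map_subgroupOf d W₂]; exact d.prime.le_kernel
  H_le := le_rfl
  centralA := fun k hk hk1 _ _ _ _ => d.mem_tenA₀_of_mem_kernel hk hk1
  memV := fun v hv h1 h2 => by
    obtain ⟨x, hx, rfl⟩ : v ∈ (W₁ ⊔ W₂).map M.subtype := by rw [Subgroup.map_sup]; exact hv
    exact d.mem_tenA₀_of_inV ⟨hx, fun h => h1 ⟨x, h, rfl⟩, fun h => h2 ⟨x, h, rfl⟩⟩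
  dade := d.dade

/-- The Dade map preserves the multiplicity of the principal character. -/
theorem tau_one {α : M → ℂ} (hα : d.Supported α) :
    classInner (d.tau α) (fun _ => 1) = classInner α fun _ => 1 := by
  refine classInner_dade d.dade hα.1 (d.supported_vanish hα) (fun _ _ => rfl) _ fun a _ => ?_
  haveI := Fintype.ofFinite (Hd (a : G))
  rw [finsum_mem_eq_toFinset_sum, Finset.sum_const, nsmul_eq_mul, mul_one, Set.toFinset_card]
  rw [show Fintype.card ((Hd (a : G) : Subgroup G) : Set G) = Nat.card (Hd (a : G)) from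
    (Nat.card_eq_fintype_card (α := Hd (a : G))).symm, inv_mul_cancel₀ (Nat.cast_ne_zero.mpr Nat.card_pos.ne')]

theorem not_mem_kernel_of_inV {v : M} (hv : d.InV v) : v ∉ K := fun h =>
  hv.2.2 (d.prime.mem₂_of_mem_kernel hv.1 h)

theorem supported_of_kernel {α : M → ℂ} (hα : IsClassFunction M α) (h1 : α 1 = 0)
    (hK : ∀ x : M, x ∉ K → α x = 0) : d.Supported α := by
  refine ⟨hα, fun a ha => ?_⟩
  by_cases hk : a ∈ K
  · have : a ∈ K ⊓ W₁ := ⟨hk, ha⟩
    rw [d.prime.inf_eq_bot, Subgroup.mem_bot] at this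
    rw [this, h1]
  · exact hK a hk

theorem tau_inV_eq_zero {α : M → ℂ} (hα : IsClassFunction M α) (hK : ∀ x : M, x ∉ K → α x = 0) {v : M}
    (hv : d.InV v) : d.tau α (v : G) = 0 :=
  (d.tau_inV hα hv).trans (hK v (not_mem_kernel_of_inV d hv))

theorem mem_off_kernel {φ : M → ℂ} (hφ : φ ∈ inducedIrrAbove K (⊥ : Subgroup M)) {x : M} (hx : x ∉ K) : φ x = 0 :=
  (primeDade d).apply_notMem_kernel ((primeDade d).inducedIrrAbove_subset_indSet rfl ⊥ hφ) hx

theorem mem_isCharacter {φ : M → ℂ} (hφ : φ ∈ inducedIrrAbove K (⊥ : Subgroup M)) : IsCharacter M φ :=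
  (primeDade d).isCharacter_of_mem ((primeDade d).inducedIrrAbove_subset_indSet rfl ⊥ hφ)

theorem span_supported {S : Set (M → ℂ)} (hS : S ⊆ inducedIrrAbove K (⊥ : Subgroup M)) {α : M → ℂ}
    (hα : α ∈ zspanOn S {1}ᶜ) : d.Supported α ∧ IsGeneralizedCharacter M α ∧ ∀ x : M, x ∉ K → α x = 0 := by
  have hg : IsGeneralizedCharacter M α :=
    zspan_genChar (fun φ hφ => isGenChar_of_char (mem_isCharacter d (hS hφ))) hα.1
  have hK : ∀ x : M, x ∉ K → α x = 0 := fun x hx =>
    zspan_eq_zero (fun φ hφ => mem_off_kernel d (hS hφ) hx) hα.1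
  exact ⟨supported_of_kernel d (isGenChar_iff_coeff_int.mp hg).1 (hα.2 1 (by simp)) hK, hg, hK⟩

/-- The coherence system of the characters induced from `K`. -/
theorem exists_system :
    ∃ R : (M → ℂ) → Finset (G → ℂ), IsCoherenceSystem (inducedIrrAbove K (⊥ : Subgroup M)) d.tau R ∧
      ∀ φ ∈ inducedIrrAbove K (⊥ : Subgroup M), IsIrrCharacter M φ → ∀ α ∈ R φ, ∀ a b,
        classInner α (d.eta a b) = 0 := by
  haveI := d.prime.normal
  haveI := Fintype.ofFinite ((W₁.map M.subtype).subgroupOf M →* ℂˣ)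
  have hK1 : (⊥ : Subgroup M) < K := bot_lt_iff_ne_bot.mpr fun e =>
    d.prime.ne_bot₂ (le_bot_iff.mp (e ▸ d.prime.le_kernel))
  obtain ⟨θ, hθ, hne, hk, -⟩ := exists_linear_above K ⊥ d.solv hK1
  obtain ⟨R, hR, -, horth⟩ := (primeDade d).exists_system d.oddM d.isFam
    ((primeDade d).inducedIrrAbove_subset_indSet rfl ⊥) ⟨_, θ, hθ, hne, hk, rfl⟩
    fun φ hφ => inducedIrrAbove_conj K ⊥ hφ
  exact ⟨R, hR, fun φ hφ hi α hα a b => horth φ hφ hi α hα _⟩

theorem tau_galois (s : ℂ ≃+* ℂ) (α : M → ℂ) : d.tau (fun x => s (α x)) = fun g => s (d.tau α g) :=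
  dade_map (fun z => s z) (map_zero s) α

theorem eta_galois (s : ℂ ≃+* ℂ) (a : W₁ →* ℂˣ) (b : W₂ →* ℂˣ) :
    (fun g => s (d.eta a b g)) = d.eta (wLinMap s a) (wLinMap s b) := by
  rw [TenData.eta, TenData.eta, cycFamily_galois d.self d.oddW d.isFam]
  congr 1
  refine MonoidHom.ext fun x => Units.ext ?_
  simp only [wLinMap_apply, TenData.omegaG, MonoidHom.comp_apply, MonoidHom.mul_apply, Units.val_mul, map_mul,
    IsPrimeTI.row, IsPrimeTI.col, MonoidHom.coe_comp, Function.comp_apply]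

/-- The coherent image of an irreducible member is orthogonal to the family `η`. -/
theorem image_orth_eta {S₁ : Set (M → ℂ)} (hS₁ : S₁ ⊆ inducedIrrAbove K (⊥ : Subgroup M))
    (hirr : ∀ φ ∈ S₁, IsIrrCharacter M φ) (hconj : ∀ φ ∈ S₁, conjFun φ ∈ S₁) {τ₁ : (M → ℂ) → (G → ℂ)}
    (hτ₁ : IsLinearIsometryOn (zspan S₁) τ₁) (hagree : ∀ α ∈ zspanOn S₁ {1}ᶜ, τ₁ α = d.tau α) {χ : M → ℂ}
    (hχ : χ ∈ S₁) (a : W₁ →* ℂˣ) (b : W₂ →* ℂˣ) : classInner (τ₁ χ) (d.eta a b) = 0 := by
  classical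
  obtain ⟨R, hR, -⟩ := exists_system d
  have hχ' := hconj χ hχ
  have hne : χ ≠ conjFun χ := Ne.symm (hR.conj_ne χ (hS₁ hχ))
  have h1 : conjFun χ 1 = χ 1 := conjFun_char_one (mem_isCharacter d (hS₁ hχ))
  have hmem : χ - conjFun χ ∈ zspanOn S₁ {1}ᶜ :=
    ⟨Submodule.sub_mem _ (Submodule.subset_span hχ) (Submodule.subset_span hχ'), fun x hx => by
      rw [not_not.mp hx, Pi.sub_apply, h1, sub_self]⟩
  obtain ⟨hsup, hg, hK⟩ := span_supported d hS₁ hmem
  have hN : classInner (d.tau (χ - conjFun χ)) (d.tau (χ - conjFun χ)) = ((2 : ℤ) : ℂ) := by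
    rw [d.tau_inner hsup hsup, classInner_sub_left, classInner_sub_right, classInner_sub_right,
      classInner_irr_self (hirr _ hχ), classInner_irr_self (hirr _ hχ'),
      classInner_irr_ne (hirr _ hχ) (hirr _ hχ') hne, classInner_irr_ne (hirr _ hχ') (hirr _ hχ) hne.symm]
    norm_num
  have h0 : classInner (d.tau (χ - conjFun χ)) (d.eta a b) = 0 :=
    (primeDade d).classInner_family_eq_zero d.isFam (d.tau_gen hsup hg) hN le_rfl (fun w hw1 hw2 =>
      (tau_inV_eq_zero d hsup.1 hK (d.inV_of_mem hw1 hw2) :)) _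
  rw [← hagree _ hmem, isometryOn_sub hτ₁ (Submodule.subset_span hχ) (Submodule.subset_span hχ'),
    classInner_sub_left, sub_eq_zero] at h0
  by_contra hne0
  have hz : classInner (τ₁ χ) (τ₁ (conjFun χ)) = 0 := by
    rw [hτ₁.2.2.1 _ (Submodule.subset_span hχ) _ (Submodule.subset_span hχ'),
      classInner_irr_ne (hirr _ hχ) (hirr _ hχ') hne]
  obtain ⟨ε, hε, e1⟩ := (signed_cases (signed_image hirr hτ₁ hχ) (d.eta_signed a b)).resolve_left hne0
  obtain ⟨ε', hε', e2⟩ := (signed_cases (signed_image hirr hτ₁ hχ') (d.eta_signed a b)).resolve_left (h0 ▸ hne0)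
  rw [e1, e2, classInner_smul_left, classInner_smul_right, classInner_self_signed (d.eta_signed a b)] at hz
  rcases hε with rfl | rfl <;> rcases hε' with rfl | rfl <;> simp at hz

end CfsgLib.OddOrder.S11
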