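import Cfsg.Agent.Lib.OddOrder.S11.Lattice
import Cfsg.Agent.Lib.OddOrder.S11.Tau
import Cfsg.Agent.Lib.OddOrder.S11.Low
import Cfsg.Agent.Lib.OddOrder.S11.Bridge2
import Cfsg.Agent.S1517

/-!
Peterfalvi section 11: the hypothesis after (11.7), and the lattice frame built from the family `η` and a coherent
extension on `S(H C)`.
-/

set_option autoImplicit false
set_option linter.unusedSectionVars false
set_option linter.style.haveILetI false

namespace CfsgLib.OddOrder.S11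

open Cfsg CfsgLib.CharTheory CfsgLib.OddOrder.Found CfsgLib.OddOrder.Ten

universe u

variable {G : Type u} [Group G] [Fintype G] {M : Subgroup G} [Fintype M]

/-- The situation after (11.7): `S(C)` is not coherent. -/
structure ElevenData (M : Subgroup G) [Fintype M] (K H U C W₁ W₂ : Subgroup M) (p q : ℕ) (Hd : G → Subgroup G) :
    Prop where
  ten : TenData M K W₁ W₂ Hd
  hyp : ElevenHyp K H U C W₁ W₂ p q
  cong : C.relIndex U % q = 1
  u_ne : C.relIndex U ≠ 1
  pq : p ≠ q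
  notCoh : ¬ IsCoherent (inducedIrrAbove K C) {1}ᶜ ten.tau

/-- A coherence system restricted to a subset closed under conjugation. -/
theorem system_mono {L : Type u} [Group L] [Fintype L] {S S' : Set (L → ℂ)} {τ : (L → ℂ) → (G → ℂ)}
    {R : (L → ℂ) → Finset (G → ℂ)} (hS : IsCoherenceSystem S τ R) (hsub : S' ⊆ S) (hne : S'.Nonempty)
    (hconj : ∀ φ ∈ S', conjFun φ ∈ S') : IsCoherenceSystem S' τ R where
  nonempty := hne
  isCharacter := fun φ hφ => hS.isCharacter φ (hsub hφ)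
  conj_mem := hconj
  conj_ne := fun φ hφ => hS.conj_ne φ (hsub hφ)
  isometry := isometryOn_mono (E := zspanOn S {1}ᶜ) (fun _ ha => ⟨Submodule.span_mono hsub ha.1, ha.2⟩) hS.isometry
  map_one := fun α hα => hS.map_one α ⟨Submodule.span_mono hsub hα.1, hα.2⟩
  orthogonal := fun φ hφ ψ hψ h => hS.orthogonal φ (hsub hφ) ψ (hsub hψ) h
  orthonormal := fun φ hφ => hS.orthonormal φ (hsub hφ)
  virtual := fun φ hφ => hS.virtual φ (hsub hφ)
  sum_eq := fun φ hφ => hS.sum_eq φ (hsub hφ)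
  disjoint := fun φ hφ ψ hψ => hS.disjoint φ (hsub hφ) ψ (hsub hψ)

namespace ElevenData

variable {K H U C W₁ W₂ : Subgroup M} {p q : ℕ} {Hd : G → Subgroup G} (D : ElevenData M K H U C W₁ W₂ p q Hd)
include D

/-- The set `S(H C)`. -/
def Low (_D : ElevenData M K H U C W₁ W₂ p q Hd) : Set (M → ℂ) := inducedIrrAbove K (H ⊔ C)

theorem low_sub : D.Low ⊆ inducedIrrAbove K (⊥ : Subgroup M) := inducedIrrAbove_subset K _

theorem low_subC : D.Low ⊆ inducedIrrAbove K C := inducedIrrAbove_mono le_sup_right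

theorem low_irr {φ : M → ℂ} (hφ : φ ∈ D.Low) : IsIrrCharacter M φ := by
  haveI := D.hyp.C_normal
  haveI := Fintype.ofFinite (↥M ⧸ C)
  exact (D.hyp.low_facts D.u_ne hφ).1

theorem low_deg {φ : M → ℂ} (hφ : φ ∈ D.Low) : φ 1 = (q : ℂ) := by
  haveI := D.hyp.C_normal
  haveI := Fintype.ofFinite (↥M ⧸ C)
  exact (D.hyp.low_facts D.u_ne hφ).2

theorem low_conj {φ : M → ℂ} (hφ : φ ∈ D.Low) : conjFun φ ∈ D.Low := inducedIrrAbove_conj K _ hφ

theorem low_ne_mu {φ : M → ℂ} (hφ : φ ∈ D.Low) (ω : WLin W₁ W₂) : φ ≠ D.ten.prime.mu ω := by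
  haveI := D.hyp.C_normal
  haveI := Fintype.ofFinite (↥M ⧸ C)
  obtain ⟨θ, hθ, hne, hk, rfl⟩ := hφ
  refine D.ten.prime.indFun_ne_mu hθ (fun b e => ?_) ω
  by_cases hb : b = 1
  · exact hne (by rw [e, hb, D.ten.prime.colChar_one])
  · have h1 := D.hyp.degree_one_of_HC hθ hk
    rw [e, (D.hyp.colChar_facts hb).1, Nat.cast_eq_one] at h1
    exact D.u_ne h1

theorem low_finite : D.Low.Finite := inducedIrrAbove_finite K _

/-- The number `n` of members of `S(H C)`. -/
noncomputable def nLow : ℕ := D.low_finite.toFinset.card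

theorem nLow_facts : D.nLow * q + 1 = C.relIndex U ∧ Even D.nLow ∧ 2 ≤ D.nLow := by
  haveI := D.hyp.C_normal
  haveI := Fintype.ofFinite (↥M ⧸ C)
  exact D.hyp.low_card D.u_ne

theorem low_nonempty : D.Low.Nonempty := by
  have h : 0 < D.low_finite.toFinset.card := lt_of_lt_of_le Nat.zero_lt_two D.nLow_facts.2.2
  obtain ⟨φ, hφ⟩ := Finset.card_pos.mp h
  exact ⟨φ, D.low_finite.mem_toFinset.mp hφ⟩

theorem card_low [Fintype D.Low] : Fintype.card D.Low = D.nLow := by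
  rw [nLow, ← Set.toFinset_card]
  exact congrArg Finset.card (by ext; simp)

/-- (11.3): `S(H C)` is coherent. -/
theorem exists_ext : ∃ τ₁ : (M → ℂ) → (G → ℂ), IsLinearIsometryOn (zspan D.Low) τ₁ ∧
    ∀ α ∈ zspanOn D.Low {1}ᶜ, τ₁ α = D.ten.tau α := by
  obtain ⟨R, hR, -⟩ := exists_system D.ten
  obtain ⟨-, τ₁, h1, h2⟩ := Cfsg.Agent.S1517.result D.Low D.ten.tau R
    (system_mono hR D.low_sub D.low_nonempty fun φ hφ => D.low_conj hφ)
    fun φ hφ ψ hψ => by rw [D.low_deg hφ, D.low_deg hψ]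
  exact ⟨τ₁, h1, h2⟩

/-- A coherent extension to `S(H C)`. -/
structure Ext (_D : ElevenData M K H U C W₁ W₂ p q Hd) where
  tau1 : (M → ℂ) → (G → ℂ)
  iso : IsLinearIsometryOn (zspan _D.Low) tau1
  agree : ∀ α ∈ zspanOn _D.Low {1}ᶜ, tau1 α = _D.ten.tau α
  zeta : M → ℂ
  zeta_mem : zeta ∈ _D.Low

variable (E : D.Ext)

/-- `η` in the lattice. -/
noncomputable def vEta (a : W₁ →* ℂˣ) (b : W₂ →* ℂˣ) : vChar G := ⟨D.ten.eta a b, D.ten.eta_gen a b⟩

/-- The coherent images in the lattice. -/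
noncomputable def vImg (z : D.Low) : vChar G := ⟨E.tau1 z, E.iso.2.2.2 _ (Submodule.subset_span z.2)⟩

theorem img_inner [DecidableEq D.Low] (z z' : D.Low) :
    classInner (E.tau1 z) (E.tau1 z') = if z = z' then 1 else 0 := by
  classical
  rw [E.iso.2.2.1 _ (Submodule.subset_span z.2) _ (Submodule.subset_span z'.2),
    classInner_irr (D.low_irr z.2) (D.low_irr z'.2)]
  exact if_congr Subtype.ext_iff.symm rfl rfl

theorem img_orth_eta (z : D.Low) (a : W₁ →* ℂˣ) (b : W₂ →* ℂˣ) :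
    classInner (E.tau1 z) (D.ten.eta a b) = 0 :=
  image_orth_eta D.ten D.low_sub (fun _ hφ => D.low_irr hφ) (fun _ hφ => D.low_conj hφ) E.iso E.agree z.2 a b

section Frame

variable [Fintype (W₁ →* ℂˣ)] [Fintype (W₂ →* ℂˣ)] [Fintype D.Low]
  [DecidableEq (W₁ →* ℂˣ)] [DecidableEq (W₂ →* ℂˣ)] [DecidableEq D.Low]

theorem card_I : Fintype.card (W₁ →* ℂˣ) = q := (card_hom_comm D.hyp.prime.comm₁).trans D.hyp.card_W₁

theorem card_J : Fintype.card (W₂ →* ℂˣ) = p := D.hyp.card_hom_W₂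

/-- The frame. -/
noncomputable def frame : Frame (vForm G) (I := W₁ →* ℂˣ) (J := W₂ →* ℂˣ) (Z := D.Low) where
  e := D.vEta
  t := D.vImg E
  i0 := 1
  j0 := 1
  z0 := ⟨E.zeta, E.zeta_mem⟩
  orth := by
    rintro (⟨a, b⟩ | z) (⟨a', b'⟩ | z') <;>
      simp only [Sum.elim_inl, Sum.elim_inr] <;> refine vForm_eq ?_
    · simp [vEta, D.ten.eta_orth, Prod.ext_iff, apply_ite (Int.cast : ℤ → ℂ)]
    · simp only [vEta, vImg, reduceCtorEq, if_false, Int.cast_zero]
      rw [← classInner_comm, D.img_orth_eta, map_zero]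
    · simp only [vEta, vImg, reduceCtorEq, if_false, Int.cast_zero]
      exact D.img_orth_eta E z a' b'
    · simp [vImg, D.img_inner, apply_ite (Int.cast : ℤ → ℂ)]
  q3 := D.ten.three_le_hom₁
  p3 := D.ten.three_le_hom₂
  qodd := by rw [D.card_I, ← D.hyp.card_W₁]; exact D.hyp.prime.odd₁
  podd := by rw [D.card_J, ← D.hyp.card_W₂]; exact D.hyp.prime.odd₂
  pq := by rw [D.card_I, D.card_J]; exact D.pq
  n2 := by rw [D.card_low]; exact D.nLow_facts.2.2
  neven := by rw [D.card_low]; exact D.nLow_facts.2.1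

end Frame

end ElevenData

end CfsgLib.OddOrder.S11
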