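import Cfsg.Agent.Lib.OddOrder.S11.Arith
import Cfsg.Agent.Lib.OddOrder.S10.System
import Cfsg.Agent.Lib.OddOrder.S9a.Model
import Cfsg.Agent.S1517
import Cfsg.Agent.S1519
import Cfsg.Agent.S1520

/-!
Peterfalvi (11.3)-(11.5): `S(H₀ C)` is not coherent, the index bound, and `M'' = H C` for a maximal subgroup of
type III or IV, given that `S(1)` is not coherent.
-/

set_option autoImplicit false
set_option linter.unusedSectionVars false
set_option linter.style.haveILetI false

namespace CfsgLib.OddOrder.S11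

open Subgroup Cfsg CfsgLib.MinSimpleOdd CfsgLib.OddOrder.S9 CfsgLib.OddOrder.Ten CfsgLib.CharTheory
open scoped Pointwise commutatorElement

universe u

/-- Commutators of products of two commuting pairs. -/
theorem commutator_mul_mul {G : Type u} [Group G] {h h' c c' : G} (a : c * h = h * c) (b : c * h' = h' * c)
    (a' : c' * h = h * c') (b' : c' * h' = h' * c') :
    h * c * (h' * c') * (h * c)⁻¹ * (h' * c')⁻¹ = h * h' * h⁻¹ * h'⁻¹ * (c * c' * c⁻¹ * c'⁻¹) := by
  have e1 : Commute (c * c' * c⁻¹) h :=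
    ((show Commute c h from a).mul_left (show Commute c' h from a')).mul_left (show Commute c h from a).inv_left
  have e2 : Commute (c * c' * c⁻¹ * c'⁻¹) h' :=
    (((show Commute c h' from b).mul_left (show Commute c' h' from b')).mul_left
      (show Commute c h' from b).inv_left).mul_left (show Commute c' h' from b').inv_left
  calc h * c * (h' * c') * (h * c)⁻¹ * (h' * c')⁻¹
      = h * (c * h') * c' * c⁻¹ * h⁻¹ * c'⁻¹ * h'⁻¹ := by group
    _ = h * h' * ((c * c' * c⁻¹) * h⁻¹) * c'⁻¹ * h'⁻¹ := by rw [b]; group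
    _ = h * h' * h⁻¹ * ((c * c' * c⁻¹ * c'⁻¹) * h'⁻¹) := by rw [e1.inv_right.eq]; group
    _ = _ := by rw [e2.inv_right.eq]; group

/-- A subgroup generated by two commuting nilpotent subgroups is nilpotent. -/
theorem isNilpotent_sup_of_commute {G : Type u} [Group G] {A B : Subgroup G} (hA : Group.IsNilpotent A)
    (hB : Group.IsNilpotent B) (hc : ∀ a ∈ A, ∀ b ∈ B, b * a = a * b) :
    Group.IsNilpotent ↥(A ⊔ B) := by
  haveI := hA
  haveI := hB
  let f : A × B →* ↥(A ⊔ B) :=
    { toFun := fun p => ⟨(p.1 : G) * p.2, mul_mem_sup p.1.2 p.2.2⟩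
      map_one' := Subtype.ext (by simp)
      map_mul' := fun p p' => Subtype.ext (by
        show ((p.1 : G) * p'.1) * (p.2 * p'.2) = (p.1 : G) * p.2 * (p'.1 * p'.2)
        rw [← mul_assoc, mul_assoc (p.1 : G), ← hc _ p'.1.2 _ p.2.2]
        group) }
  refine Group.nilpotent_of_surjective f fun x => ?_
  have hBA : B ≤ normalizer (A : Set G) := fun b hb =>
    centralizer_le_normalizer _ (mem_centralizer_iff.mpr fun a ha => (hc a ha b hb).symm)
  obtain ⟨a, ha, b, hb, e⟩ := CfsgLib.mem_sup_of_le_normalizer hBA x.2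
  exact ⟨(⟨a, ha⟩, ⟨b, hb⟩), Subtype.ext e⟩

/-- The number of elements of an invariant subgroup is that of its fixed points modulo `q`. -/
theorem card_modEq_fixed {G : Type u} [Group G] [Finite G] {q : ℕ} [Fact q.Prime] {T R : Subgroup G}
    (hT : Nat.card T = q) (hTR : T ≤ normalizer (R : Set G)) :
    Nat.card R ≡ Nat.card ↥(R ⊓ centralizer (T : Set G)) [MOD q] := by
  letI : MulAction T R := MulAction.compHom _ ((normalizerMonoidHom R).comp (inclusion hTR))
  refine ((IsPGroup.of_card (n := 1) (by rw [hT, pow_one])).card_modEq_card_fixedPoints R).trans ?_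
  refine congrArg (· % q) (Nat.card_congr
    { toFun := fun r => ⟨r.1.1, r.1.2, mem_centralizer_iff.mpr fun t ht =>
        mul_inv_eq_iff_eq_mul.mp (congrArg Subtype.val (r.2 ⟨t, ht⟩))⟩
      invFun := fun r => ⟨⟨r.1, r.2.1⟩, fun t => Subtype.ext (by
        show (t : G) * r.1 * (t : G)⁻¹ = r.1
        rw [mem_centralizer_iff.mp r.2.2 t t.2, mul_inv_cancel_right])⟩
      left_inv := fun r => rfl
      right_inv := fun r => rfl })

variable {G : Type u} [Group G] [Fintype G] {M H U W1 W2 H0 : Subgroup G} [Fintype M] {q : ℕ}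
  {Hd : G → Subgroup G}
  (k : IsCoreKernel M H U H0) (d : TypeData M H U W1 W2 q) (hp : (Nat.card W2).Prime)
  (ten : TenData M ((⁅M, M⁆ : Subgroup G).subgroupOf M) (W1.subgroupOf M) (W2.subgroupOf M) Hd)
  (hnc : ¬ IsCoherent (inducedIrrAbove ((⁅M, M⁆ : Subgroup G).subgroupOf M) (⊥ : Subgroup M)) {1}ᶜ ten.tau)

include k d in
theorem layer_facts : kernelC H U H0 ≤ M ∧ H0 ⊔ kernelC H U H0 ≤ H ⊔ kernelC H U H0 ∧
    H ⊔ kernelC H U H0 ≤ ⁅M, M⁆ ∧ H0 ⊔ kernelC H U H0 ≤ M ∧ H ⊔ kernelC H U H0 ≤ M := by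
  obtain ⟨h1, -⟩ := k.kernelC_facts d
  exact ⟨h1.trans d.U_le, sup_le_sup_right k.le _, sup_le d.H_le_der (h1.trans d.U_le_der),
    sup_le (k.le.trans d.H_le) (h1.trans d.U_le), sup_le d.H_le (h1.trans d.U_le)⟩

include k d hp in
theorem kernelC_comm : ∀ a ∈ H, ∀ c ∈ kernelC H U H0, c * a = a * c := by
  obtain ⟨-, -, -, e⟩ := k.of_prime_W2 d hp
  intro a ha c hc
  exact ((mem_inf.mp (e.le hc)).2 a ha).symm

include k d in
theorem relIndex_HC_der : (H ⊔ kernelC H U H0).relIndex ⁅M, M⁆ = (kernelC H U H0).relIndex U ∧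
    Nat.card ↥(H ⊔ kernelC H U H0) = Nat.card H * Nat.card (kernelC H U H0) ∧
    Nat.card ↥(H0 ⊔ kernelC H U H0) = Nat.card H0 * Nat.card (kernelC H U H0) := by
  obtain ⟨-, -, hD, -, -⟩ := layer_facts k d
  obtain ⟨h1, -⟩ := k.kernelC_facts d
  set C := kernelC H U H0
  have hcard : ∀ X : Subgroup G, X ≤ H → C ≤ normalizer (X : Set G) → Nat.card ↥(X ⊔ C) = Nat.card X * Nat.card C :=
    fun X hX hn => by
      have h0 : C ⊓ X = ⊥ := le_bot_iff.mp (le_trans (le_inf (inf_le_right.trans hX) (inf_le_left.trans h1))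
        d.inf_HU.le)
      rw [sup_comm, card_complIn (complIn_sup hn h0), mul_comm]
  have e1 := hcard H le_rfl ((h1.trans d.U_le).trans d.H_normal)
  refine ⟨?_, e1, hcard H0 k.le (h1.trans (k.U_normalizes d))⟩
  refine Nat.eq_of_mul_eq_mul_left (Nat.mul_pos (Nat.card_pos (α := H)) (Nat.card_pos (α := C))) ?_
  rw [← e1]
  rw [← relIndex_bot_left (H ⊔ C), relIndex_mul_relIndex _ _ _ bot_le hD, relIndex_bot_left, relIndex_bot_left,
    card_complIn d.compl_U, e1, mul_assoc, ← relIndex_bot_left C, relIndex_mul_relIndex _ _ _ bot_le h1,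
    relIndex_bot_left]

include k d hp hnc in
/-- (11.3): `S(H₀ C)` is not coherent. -/
theorem not_coherent_H0C : ¬ IsCoherent (inducedIrrAbove ((⁅M, M⁆ : Subgroup G).subgroupOf M)
    ((H0 ⊔ kernelC H U H0).subgroupOf M)) {1}ᶜ ten.tau := by
  classical
  intro hcoh
  obtain ⟨-, hle, hD, hAM, hBM⟩ := layer_facts k d
  obtain ⟨hn0, hn, -⟩ := k.normal_sup d
  obtain ⟨-, hcB, hcA⟩ := relIndex_HC_der k d
  obtain ⟨-, -, hcard, -⟩ := k.of_prime_W2 d hp
  obtain ⟨-, -, hpodd, hne, -⟩ := k.prime_unique d hp hcard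
  haveI := ten.prime.normal
  haveI : ((H0 ⊔ kernelC H U H0).subgroupOf M).Normal := (normal_subgroupOf_iff_le_normalizer hAM).mpr hn0
  haveI : ((H ⊔ kernelC H U H0).subgroupOf M).Normal := (normal_subgroupOf_iff_le_normalizer hBM).mpr hn
  haveI hnil : Group.IsNilpotent ((H ⊔ kernelC H U H0).subgroupOf M) := by
    haveI : Group.IsNilpotent ↥(H ⊔ kernelC H U H0) := by
      haveI := d.U_nil
      exact isNilpotent_sup_of_commute d.H_nil
        (Group.nilpotent_of_mulEquiv (subgroupOfEquivOfLe (k.kernelC_facts d).1)) (kernelC_comm k d hp)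
    exact Group.nilpotent_of_mulEquiv (subgroupOfEquivOfLe hBM).symm
  obtain ⟨R, hR, -⟩ := ten.exists_system
  refine hnc (Cfsg.Agent.S1520.result _ ten.solv ten.tau R hR ⊥ ((H0 ⊔ kernelC H U H0).subgroupOf M)
    ((H ⊔ kernelC H U H0).subgroupOf M) bot_le (subgroupOf_mono _ hle) (subgroupOf_mono _ hD) inferInstance hcoh ?_)
  rw [relIndex_subgroupOf hBM, ten.prime.index_eq, Nat.card_congr (subgroupOfEquivOfLe d.W_le).toEquiv, d.cardW]
  have e : (H0 ⊔ kernelC H U H0).relIndex (H ⊔ kernelC H U H0) = Nat.card W2 ^ q := by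
    refine Nat.eq_of_mul_eq_mul_left (Nat.card_pos (α := ↥(H0 ⊔ kernelC H U H0))) ?_
    rw [← relIndex_bot_left (H0 ⊔ kernelC H U H0), relIndex_mul_relIndex _ _ _ bot_le hle, relIndex_bot_left,
      relIndex_bot_left, hcB, hcA, hcard]
    ring
  rw [e]
  exact lbound_pow hp d.hq hpodd (Odd.of_dvd_nat d.odd (d.cardW ▸ card_dvd_of_le d.W_le)) hne

include k d hp hnc in
/-- (11.4). -/
theorem index_bound {A : Subgroup M} [A.Normal] (hA : A < (⁅M, M⁆ : Subgroup G).subgroupOf M)
    (hcoh : IsCoherent (inducedIrrAbove ((⁅M, M⁆ : Subgroup G).subgroupOf M) A) {1}ᶜ ten.tau) :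
    A.relIndex ((⁅M, M⁆ : Subgroup G).subgroupOf M) ≤ 2 * q * (kernelC H U H0).relIndex U + 1 := by
  classical
  by_contra hlt
  obtain ⟨-, hle, hD, hAM, hBM⟩ := layer_facts k d
  obtain ⟨hn0, hn, hinf⟩ := k.normal_sup d
  obtain ⟨hidx, -, -⟩ := relIndex_HC_der k d
  haveI := ten.prime.normal
  haveI : ((H0 ⊔ kernelC H U H0).subgroupOf M).Normal := (normal_subgroupOf_iff_le_normalizer hAM).mpr hn0
  haveI : ((H ⊔ kernelC H U H0).subgroupOf M).Normal := (normal_subgroupOf_iff_le_normalizer hBM).mpr hn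
  obtain ⟨R, hR, -⟩ := ten.exists_system
  refine not_coherent_H0C k d hp ten hnc (Cfsg.Agent.S1519.result _ ten.solv ten.tau R hR A
    ((H0 ⊔ kernelC H U H0).subgroupOf M) ((H ⊔ kernelC H U H0).subgroupOf M) ((H ⊔ kernelC H U H0).subgroupOf M)
    hA ?_ (subgroupOf_mono _ hle) le_rfl (subgroupOf_mono _ hD) ?_ hcoh ?_)
  · refine lt_of_le_of_ne (subgroupOf_mono _ (hle.trans hD)) fun e => k.ne (le_antisymm k.le fun x hx => ?_)
    have hxM : x ∈ M := d.H_le hx
    have h1 : (⟨x, hxM⟩ : M) ∈ (H0 ⊔ kernelC H U H0).subgroupOf M := e ▸ d.H_le_der hx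
    exact hinf.le (mem_inf.mpr ⟨h1, hx⟩)
  · intro x hx y hy
    have hn' : kernelC H U H0 ≤ normalizer (H : Set G) := ((k.kernelC_facts d).1.trans d.U_le).trans d.H_normal
    rw [mem_subgroupOf] at hx hy ⊢
    obtain ⟨a, ha, c, hc, e⟩ := CfsgLib.mem_sup_of_le_normalizer hn' hx
    obtain ⟨a', ha', c', hc', e'⟩ := CfsgLib.mem_sup_of_le_normalizer hn' hy
    push_cast
    rw [← e, ← e', commutator_mul_mul (kernelC_comm k d hp a ha c hc) (kernelC_comm k d hp a' ha' c hc)
      (kernelC_comm k d hp a ha c' hc') (kernelC_comm k d hp a' ha' c' hc')]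
    exact mul_mem_sup (k.derived (by
      simpa [commutatorElement_def] using commutator_mem_commutator ha ha'))
      (mul_mem (mul_mem (mul_mem hc hc') (inv_mem hc)) (inv_mem hc'))
  · rw [relIndex_self, mul_one, ← relIndex_mul_index (subgroupOf_mono _ hD), relIndex_subgroupOf
      (commutator_le_self M), hidx, ten.prime.index_eq, Nat.card_congr (subgroupOfEquivOfLe d.W_le).toEquiv, d.cardW]
    have h1 : 2 * q * (kernelC H U H0).relIndex U < A.relIndex ((⁅M, M⁆ : Subgroup G).subgroupOf M) - 1 := by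
      omega
    calc 4 * ((kernelC H U H0).relIndex U * q) ^ 2 = (2 * q * (kernelC H U H0).relIndex U) ^ 2 := by ring
      _ < _ := Nat.pow_lt_pow_left h1 two_ne_zero

include k d hp hnc in
/-- (11.5): `M'' = H C`. -/
theorem derived_two_eq : ⁅⁅M, M⁆, ⁅M, M⁆⁆ = H ⊔ kernelC H U H0 := by
  classical
  obtain ⟨-, -, hD, -, hBM⟩ := layer_facts k d
  obtain ⟨hidx, -, -⟩ := relIndex_HC_der k d
  obtain ⟨hC, -, -, -, -, hCU⟩ := k.kernelC_facts d
  obtain ⟨-, -, hcard, -⟩ := k.of_prime_W2 d hp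
  obtain ⟨-, -, -, hne, -⟩ := k.prime_unique d hp hcard
  have hle : ⁅⁅M, M⁆, ⁅M, M⁆⁆ ≤ H ⊔ kernelC H U H0 := le_sup_left.trans (k.derived_two_sup d).le
  set B := H ⊔ kernelC H U H0 with hB
  set D : Subgroup G := ⁅⁅M, M⁆, ⁅M, M⁆⁆ with hDdef
  set K : Subgroup M := (⁅M, M⁆ : Subgroup G).subgroupOf M with hK
  have hM' : (⁅M, M⁆ : Subgroup G) ≤ M := commutator_le_self M
  have hmap : (⁅K, K⁆ : Subgroup M).map M.subtype = D := by
    rw [map_commutator, hK, map_subgroupOf_eq_of_le hM']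
  have hW2 : W2 ≤ D := fun x hx => by
    rw [← hmap]
    exact ⟨⟨x, d.H_le (d.W2_le hx)⟩, ten.le_derived (mem_subgroupOf.mpr hx), rfl⟩
  haveI := ten.prime.normal
  haveI : (⁅K, K⁆ : Subgroup M).Normal := inferInstance
  have hKne : K ≠ ⊥ := fun e => ten.prime.ne_bot₂ (le_bot_iff.mp (e ▸ ten.prime.le_kernel))
  have hlt : (⁅K, K⁆ : Subgroup M) < K := by
    refine lt_of_le_of_ne (commutator_le_self K) fun e => ?_
    haveI : Nontrivial K := (nontrivial_iff_ne_bot K).mpr hKne
    haveI := ten.solv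
    refine (Group.IsSolvable.commutator_lt_top_of_nontrivial K).ne ?_
    refine map_injective K.subtype_injective ?_
    rw [map_subtype_commutator, ← MonoidHom.range_eq_map, range_subtype, e]
  -- `S(M'')` is coherent: all members have degree `q`
  have hdeg : ∀ φ ∈ inducedIrrAbove K (⁅K, K⁆ : Subgroup M), φ 1 = (q : ℂ) := by
    rintro φ ⟨θ, hθ, -, hker, rfl⟩
    rw [indFun_apply_one, ten.prime.index_eq, Nat.card_congr (subgroupOfEquivOfLe d.W_le).toEquiv, d.cardW]
    suffices h1 : θ 1 = 1 by rw [h1, mul_one]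
    haveI := Fintype.ofFinite K
    obtain ⟨ξ, hξ, e⟩ := exists_quotient_irr ((⁅K, K⁆ : Subgroup M).subgroupOf K) hθ fun n hn => hker n hn
    rw [e]
    refine degree_one_of_commutative (fun a b => ?_) hξ
    obtain ⟨a, rfl⟩ := QuotientGroup.mk_surjective a
    obtain ⟨b, rfl⟩ := QuotientGroup.mk_surjective b
    rw [← commutatorElement_eq_one_iff_mul_comm, ← QuotientGroup.mk'_apply, ← QuotientGroup.mk'_apply,
      ← map_commutatorElement, QuotientGroup.mk'_apply, QuotientGroup.eq_one_iff, mem_subgroupOf]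
    exact commutator_mem_commutator a.2 b.2
  have hcoh : IsCoherent (inducedIrrAbove K (⁅K, K⁆ : Subgroup M)) {1}ᶜ ten.tau := by
    obtain ⟨R, hR, -⟩ := ten.exists_system
    obtain ⟨θ, h1, h2, h3, -⟩ := exists_linear_above K (⁅K, K⁆ : Subgroup M) ten.solv hlt
    have hsub := inducedIrrAbove_subset K (⁅K, K⁆ : Subgroup M)
    refine Cfsg.Agent.S1517.result _ ten.tau R ?_ fun φ hφ ψ hψ => by rw [hdeg φ hφ, hdeg ψ hψ]
    exact
      { nonempty := ⟨_, θ, h1, h2, h3, rfl⟩
        isCharacter := fun φ hφ => hR.isCharacter φ (hsub hφ)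
        conj_mem := fun φ hφ => inducedIrrAbove_conj K _ hφ
        conj_ne := fun φ hφ => hR.conj_ne φ (hsub hφ)
        isometry := Found.isometryOn_mono (E := zspanOn (inducedIrrAbove K (⊥ : Subgroup M)) {1}ᶜ)
          (fun _ ha => ⟨Submodule.span_mono hsub ha.1, ha.2⟩) hR.isometry
        map_one := fun α hα => hR.map_one α ⟨Submodule.span_mono hsub hα.1, hα.2⟩
        orthogonal := fun φ hφ ψ hψ h => hR.orthogonal φ (hsub hφ) ψ (hsub hψ) h
        orthonormal := fun φ hφ => hR.orthonormal φ (hsub hφ)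
        virtual := fun φ hφ => hR.virtual φ (hsub hφ)
        sum_eq := fun φ hφ => hR.sum_eq φ (hsub hφ)
        disjoint := fun φ hφ ψ hψ => hR.disjoint φ (hsub hφ) ψ (hsub hψ) }
  have hbound := index_bound k d hp ten hnc hlt hcoh
  have hrel : (⁅K, K⁆ : Subgroup M).relIndex K = D.relIndex ⁅M, M⁆ := by
    have e := relIndex_subgroupOf (H := (⁅K, K⁆ : Subgroup M).map M.subtype) hM'
    rw [show ((⁅K, K⁆ : Subgroup M).map M.subtype).subgroupOf M = ⁅K, K⁆ from
      comap_map_eq_self_of_injective M.subtype_injective _, hmap] at e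
    exact e
  rw [hrel, ← relIndex_mul_relIndex D B _ hle hD, hidx] at hbound
  refine le_antisymm hle ?_
  -- the index of `M''` in `H C` is `1` modulo `q`
  haveI := Fact.mk d.hq
  have hfix : ∀ X : Subgroup G, W2 ≤ X → X ≤ ⁅M, M⁆ → W1 ≤ normalizer (X : Set G) →
      Nat.card X ≡ Nat.card W2 [MOD q] := by
    intro X h1 h2 h3
    obtain ⟨w, hw, hw1⟩ := d.exists_W1
    have e : X ⊓ centralizer (W1 : Set G) = W2 := by
      refine le_antisymm ?_ (le_inf h1 ((d.H_centralizer_W1).ge.trans inf_le_right))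
      rw [← d.W2_eq w hw hw1]
      exact inf_le_inf h2 (centralizer_le (Set.singleton_subset_iff.mpr hw))
    exact e ▸ card_modEq_fixed d.cardW h3
  have hm1 := hfix D hW2 (commutator_le_self _)
    (le_normalizer_derived_self (le_normalizer_derived_self (d.W_le.trans Subgroup.le_normalizer)))
  have hm2 := hfix B (hW2.trans hle) hD (d.W_le.trans (k.normal_sup d).2.1)
  have hprod : Nat.card B = Nat.card D * D.relIndex B := by
    rw [← relIndex_bot_left D, relIndex_mul_relIndex _ _ _ bot_le hle, relIndex_bot_left]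
  set j := D.relIndex B with hj
  have hjq : j % q = 1 := by
    have h1 : Nat.card W2 * j ≡ Nat.card W2 * 1 [MOD q] := by
      rw [mul_one]
      exact ((hm1.mul_right j).symm.trans (hprod ▸ hm2))
    have h2 : Nat.Coprime q (Nat.card W2) := (Nat.coprime_primes d.hq hp).mpr (Ne.symm hne)
    exact Eq.trans (Nat.ModEq.cancel_left_of_coprime h2 h1) (Nat.one_mod_eq_one.mpr d.hq.ne_one)
  have hjodd : Odd j := (Odd.of_dvd_nat d.odd ((relIndex_dvd_card D B).trans (card_dvd_of_le hBM)))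
  rcases Nat.lt_or_ge j 2 with h | h
  · have : j = 1 := by obtain ⟨s, hs⟩ := hjodd; omega
    exact relIndex_eq_one.mp this
  · exfalso
    have h2q : 2 * q + 1 ≤ j := by
      obtain ⟨l, hl⟩ : Odd q := Odd.of_dvd_nat d.odd (d.cardW ▸ card_dvd_of_le d.W_le)
      obtain ⟨s, hs⟩ := hjodd
      have h3 := Nat.div_add_mod j q
      rw [hjq] at h3
      generalize j / q = i at h3
      rcases i with - | - | i
      · omega
      · omega
      · nlinarith
    have h2u : 2 ≤ (kernelC H U H0).relIndex U := by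
      rcases Nat.lt_or_ge ((kernelC H U H0).relIndex U) 2 with h' | h'
      · exfalso
        have h0 : (kernelC H U H0).relIndex U ≠ 0 := fun e => by
          have := (relIndex_dvd_card (kernelC H U H0) U)
          rw [e, zero_dvd_iff] at this
          exact Nat.card_pos.ne' this
        exact hCU (le_antisymm hC (relIndex_eq_one.mp (by omega)))
      · exact h'
    nlinarith

end CfsgLib.OddOrder.S11
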