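import Cfsg.Agent.Lib.OddOrder.S11.Tables
import Cfsg.Agent.Lib.CharTheory.Sibley

/-!
Peterfalvi (11.8): case (i) makes `S(C)` coherent, hence case (ii) holds and `p < q`.
-/

set_option autoImplicit false
set_option linter.unusedSectionVars false
set_option linter.style.haveILetI false

namespace CfsgLib.OddOrder.S11

open Cfsg CfsgLib.CharTheory CfsgLib.OddOrder.Found CfsgLib.OddOrder.Ten

universe u

variable {G : Type u} [Group G] [Fintype G] {M : Subgroup G} [Fintype M]

theorem classInner_conjFun₂ {L : Type u} [Group L] [Fintype L] (a b : L → ℂ) :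
    classInner (conjFun a) (conjFun b) = classInner b a := by
  simp only [classInner, conjFun, Complex.conj_conj]
  congr 1
  exact Finset.sum_congr rfl fun x _ => mul_comm _ _

theorem conjFun_zspan {L : Type u} {S : Set (L → ℂ)} (hS : ∀ φ ∈ S, conjFun φ ∈ S) {f : L → ℂ}
    (hf : f ∈ zspan S) : conjFun f ∈ zspan S := by
  induction hf using Submodule.span_induction with
  | mem y hy => exact Submodule.subset_span (hS y hy)
  | zero => rw [show conjFun (0 : L → ℂ) = 0 by funext x; simp [conjFun]]; exact Submodule.zero_mem _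
  | add a b _ _ ha hb =>
    rw [show conjFun (a + b) = conjFun a + conjFun b by funext x; simp [conjFun]]
    exact Submodule.add_mem _ ha hb
  | smul k a _ ha =>
    rw [show conjFun (k • a) = k • conjFun a by funext x; simp [conjFun]]
    exact Submodule.smul_mem _ k ha

namespace ElevenData

variable {K H U C W₁ W₂ : Subgroup M} {p q : ℕ} {Hd : G → Subgroup G} (D : ElevenData M K H U C W₁ W₂ p q Hd)
include D

variable [Fintype (W₁ →* ℂˣ)] [Fintype (W₂ →* ℂˣ)] [DecidableEq (W₁ →* ℂˣ)] [DecidableEq (W₂ →* ℂˣ)]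
  [Fintype D.Low] [DecidableEq D.Low]

theorem sum_eta_coe (b : W₂ →* ℂˣ) :
    ((∑ a : W₁ →* ℂˣ, D.vEta a b : vChar G) : G → ℂ) = ∑ a : W₁ →* ℂˣ, D.ten.eta a b := by
  rw [AddSubgroup.val_finsetSum]
  rfl

variable (E : D.Ext)

/-- With two members the extension may be twisted by conjugation. -/
theorem exists_twist (h2 : Fintype.card D.Low = 2) {z : D.Low} (hz : z ≠ ⟨E.zeta, E.zeta_mem⟩) :
    ∃ E' : D.Ext, E'.zeta = E.zeta ∧ E'.tau1 E'.zeta = -E.tau1 z := by
  obtain ⟨R, hR, -⟩ := exists_system D.ten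
  set z0 : D.Low := ⟨E.zeta, E.zeta_mem⟩ with hz0
  set zc : D.Low := ⟨conjFun E.zeta, D.low_conj E.zeta_mem⟩ with hzc
  have hne : zc ≠ z0 := fun e => hR.conj_ne _ (D.low_sub E.zeta_mem) (congrArg Subtype.val e)
  have hall : ∀ w : D.Low, w = z0 ∨ w = zc := fun w => by
    by_contra hw
    push Not at hw
    have := Finset.card_le_univ ({z0, zc, w} : Finset D.Low)
    rw [Finset.card_eq_three.mpr ⟨z0, zc, w, hne.symm, Ne.symm hw.1, Ne.symm hw.2, rfl⟩] at this
    omega
  have hzeq : z = zc := (hall z).resolve_left hz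
  have hgen : ∀ f ∈ zspan D.Low, conjFun f ∈ zspan D.Low := fun f hf =>
    conjFun_zspan (fun _ h => D.low_conj h) hf
  refine ⟨⟨fun f => -E.tau1 (conjFun f), ⟨fun α hα β hβ => ?_, fun α hα k => ?_, fun α hα β hβ => ?_,
    fun α hα => isGenChar_neg (E.iso.2.2.2 _ (hgen α hα))⟩, fun α hα => ?_, E.zeta, E.zeta_mem⟩, rfl, ?_⟩
  · show -E.tau1 (conjFun (α + β)) = _
    rw [show conjFun (α + β) = conjFun α + conjFun β by funext x; simp [conjFun],
      E.iso.1 _ (hgen α hα) _ (hgen β hβ), neg_add]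
  · show -E.tau1 (conjFun (k • α)) = _
    rw [show conjFun (k • α) = k • conjFun α by funext x; simp [conjFun], E.iso.2.1 _ (hgen α hα) k, smul_neg]
  · show classInner (-E.tau1 (conjFun α)) (-E.tau1 (conjFun β)) = _
    rw [classInner_neg_left, classInner_neg_right, neg_neg, E.iso.2.2.1 _ (hgen α hα) _ (hgen β hβ),
      classInner_conjFun₂]
    obtain ⟨k, hk⟩ := classInner_genChar_int
      (zspan_genChar (fun φ hφ => isGenChar_of_char (isCharacter_of_irr (D.low_irr hφ))) hα)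
      (zspan_genChar (fun φ hφ => isGenChar_of_char (isCharacter_of_irr (D.low_irr hφ))) hβ)
    rw [← classInner_comm, hk, map_intCast]
  · -- an element of degree zero is a multiple of `ζ - conj ζ`
    show -E.tau1 (conjFun α) = _
    have hpair : α ∈ Submodule.span ℤ ({E.zeta, conjFun E.zeta} : Set (M → ℂ)) := by
      refine Submodule.span_mono (fun w hw => ?_) hα.1
      rcases hall ⟨w, hw⟩ with e | e
      · exact Or.inl (congrArg Subtype.val e)
      · exact Or.inr (congrArg Subtype.val e)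
    obtain ⟨m, k, e⟩ := Submodule.mem_span_pair.mp hpair
    have h0 := hα.2 1 (by simp)
    rw [← e, Pi.add_apply, Pi.smul_apply, Pi.smul_apply, D.low_deg E.zeta_mem,
      D.low_deg (D.low_conj E.zeta_mem), ← add_smul, zsmul_eq_mul, mul_eq_zero] at h0
    have hk : k = -m := by
      rcases h0 with h0 | h0
      · have : m + k = 0 := by exact_mod_cast h0
        omega
      · exact absurd h0 (Nat.cast_ne_zero.mpr D.hyp.hq.ne_zero)
    have hc : conjFun α = (-1 : ℤ) • α := by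
      rw [← e, hk]
      funext x
      simp [conjFun]
      ring
    rw [hc, E.iso.2.1 _ hα.1, neg_one_zsmul, neg_neg, E.agree α hα]
  · show -E.tau1 (conjFun E.zeta) = -E.tau1 z
    rw [hzeq]

/-- The column sums other than the principal one. -/
def Cols (_D : ElevenData M K H U C W₁ W₂ p q Hd) : Set (M → ℂ) :=
  {f | ∃ b, b ≠ 1 ∧ f = _D.ten.prime.muSum b}

/-- The candidate for the coherent extension on column sums. -/
noncomputable def colMap (f : M → ℂ) : G → ℂ :=
  ∑ b : W₂ →* ℂˣ, (classInner f (D.ten.prime.muSum b) / (q : ℂ)) • ∑ a : W₁ →* ℂˣ, D.ten.eta a b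

theorem colMap_muSum (b : W₂ →* ℂˣ) : D.colMap (D.ten.prime.muSum b) = ∑ a : W₁ →* ℂˣ, D.ten.eta a b := by
  rw [colMap, Finset.sum_eq_single b]
  · rw [D.ten.prime.classInner_muSum, if_pos rfl, D.hyp.card_W₁, div_self (Nat.cast_ne_zero.mpr D.hyp.hq.ne_zero),
      one_smul]
  · intro l _ hl
    rw [D.ten.prime.classInner_muSum, if_neg (Ne.symm hl), zero_div, zero_smul]
  · simp

theorem colMap_add (f g : M → ℂ) : D.colMap (f + g) = D.colMap f + D.colMap g := by
  simp only [colMap, classInner_add_left, add_div, add_smul, Finset.sum_add_distrib]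

theorem colMap_zsmul (k : ℤ) (f : M → ℂ) : D.colMap (k • f) = k • D.colMap f := by
  simp only [colMap, ← Int.cast_smul_eq_zsmul ℂ, classInner_smul_left, Finset.smul_sum, smul_smul, mul_div_assoc]

theorem colMap_iso : IsLinearIsometryOn (zspan D.Cols) D.colMap := by
  have hgen : ∀ f ∈ zspan D.Cols, IsGeneralizedCharacter G (D.colMap f) := fun f hf => by
    induction hf using Submodule.span_induction with
    | mem y hy =>
      obtain ⟨b, -, rfl⟩ := hy
      rw [colMap_muSum, ← D.sum_eta_coe]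
      exact (∑ a : W₁ →* ℂˣ, D.vEta a b).2
    | zero => rw [show D.colMap 0 = 0 by simpa using D.colMap_zsmul 0 0]; exact isGenChar_zero
    | add a b _ _ ha hb => rw [colMap_add]; exact isGenChar_add ha hb
    | smul k a _ ha => rw [colMap_zsmul]; exact (AddSubgroup.zsmul_mem (vChar G) ha k :)
  refine ⟨fun a _ b _ => D.colMap_add a b, fun a _ k => D.colMap_zsmul k a, fun a ha b hb => ?_, hgen⟩
  have hone : ∀ b l : W₂ →* ℂˣ, classInner (∑ a : W₁ →* ℂˣ, D.ten.eta a b) (∑ a : W₁ →* ℂˣ, D.ten.eta a l) =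
      if b = l then (q : ℂ) else 0 := fun b l => by
    simp only [classInner_sum_left, classInner_sum_right, D.ten.eta_orth]
    by_cases e : b = l
    · subst e; simp [D.card_I]
    · simp [e]
  induction ha using Submodule.span_induction with
  | mem y hy =>
    obtain ⟨c, -, rfl⟩ := hy
    induction hb using Submodule.span_induction with
    | mem z hz =>
      obtain ⟨l, -, rfl⟩ := hz
      rw [colMap_muSum, colMap_muSum, hone, D.ten.prime.classInner_muSum, D.hyp.card_W₁]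
    | zero => rw [show D.colMap 0 = 0 by simpa using D.colMap_zsmul 0 0, classInner_zero_right, classInner_zero_right]
    | add u v _ _ hu hv => rw [colMap_add, classInner_add_right, classInner_add_right, hu, hv]
    | smul k u _ hu =>
      rw [colMap_zsmul, ← Int.cast_smul_eq_zsmul ℂ, ← Int.cast_smul_eq_zsmul ℂ k u, classInner_smul_right,
        classInner_smul_right, hu]
  | zero => rw [show D.colMap 0 = 0 by simpa using D.colMap_zsmul 0 0, classInner_zero_left, classInner_zero_left]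
  | add u v _ _ hu hv => rw [colMap_add, classInner_add_left, classInner_add_left, hu, hv]
  | smul k u _ hu =>
    rw [colMap_zsmul, ← Int.cast_smul_eq_zsmul ℂ, ← Int.cast_smul_eq_zsmul ℂ k u, classInner_smul_left,
      classInner_smul_left, hu]

/-- In case (i), `μⱼ - u ζ` goes to a column minus `u` times the image of `ζ`. -/
theorem tau_psi (hφ : D.vPhi E = (∑ a : W₁ →* ℂˣ, D.vEta a 1) - D.vImg E ⟨E.zeta, E.zeta_mem⟩)
    {b : W₂ →* ℂˣ} (hb : b ≠ 1) :
    D.ten.tau (D.ten.prime.muSum b - (C.relIndex U : ℂ) • E.zeta) =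
      (∑ a : W₁ →* ℂˣ, D.ten.eta a b) - (C.relIndex U : ℂ) • E.tau1 E.zeta := by
  obtain ⟨h1, h2, h3, h4, h5⟩ := D.psi_facts E hb
  have h := (D.frame E).psi_caseI hφ (D.vAlpha E) (fun l hl => D.isAlpha E hl) (fun l hl => D.alpha_phi E hl) hb
    (ψ := D.vTau E (D.part_psi hb)) (U := (C.relIndex U : ℤ))
    (by rw [D.card_I, D.card_low, ← D.nLow_facts.1]; push_cast; ring)
    (by rw [h1, D.card_I]) h2 h3 h4 h5
  have h' := congrArg (fun v : vChar G => (v : G → ℂ)) h
  simp only [AddSubgroup.coe_sub, AddSubgroup.coe_zsmul] at h'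
  rw [show D.ten.tau (D.ten.prime.muSum b - (C.relIndex U : ℂ) • E.zeta) = _ from h']
  congr 1
  · exact D.sum_eta_coe b
  · rw [← Int.cast_smul_eq_zsmul ℂ, Int.cast_natCast]
    rfl

/-- The glued extension. -/
theorem coherent_base (hφ : D.vPhi E = (∑ a : W₁ →* ℂˣ, D.vEta a 1) - D.vImg E ⟨E.zeta, E.zeta_mem⟩) :
    IsCoherent (D.Low ∪ D.Cols) {1}ᶜ D.ten.tau := by
  haveI := D.hyp.C_normal
  haveI := Fintype.ofFinite (↥M ⧸ C)
  obtain ⟨R, hR, -⟩ := exists_system D.ten
  obtain ⟨b₀, hb₀⟩ := D.exists_ne_one₂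
  have hcolsub : D.Cols ⊆ inducedIrrAbove K (⊥ : Subgroup M) := by
    rintro _ ⟨b, hb, rfl⟩
    exact D.ten.muSum_mem hb
  set u := C.relIndex U with hu
  have hq0 : (q : ℂ) ≠ 0 := Nat.cast_ne_zero.mpr D.hyp.hq.ne_zero
  have hu0 : (u : ℂ) ≠ 0 := by
    rw [Nat.cast_ne_zero, hu]
    have := D.nLow_facts.1
    omega
  have hdegcol : ∀ b : W₂ →* ℂˣ, b ≠ 1 → D.ten.prime.muSum b 1 = (u : ℂ) * q := fun b hb => (D.part_psi hb).deg
  -- the two descriptions of the candidate agree
  have hkey : ∀ f ∈ zspan D.Cols, D.colMap f =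
      D.ten.tau (f - (f 1 / (q : ℂ)) • E.zeta) + (f 1 / (q : ℂ)) • E.tau1 E.zeta := fun f hf => by
    induction hf using Submodule.span_induction with
    | mem y hy =>
      obtain ⟨b, hb, rfl⟩ := hy
      rw [colMap_muSum, hdegcol b hb, mul_div_assoc, div_self hq0, mul_one, D.tau_psi E hφ hb, sub_add_cancel]
    | zero =>
      rw [show D.colMap 0 = 0 by simpa using D.colMap_zsmul 0 0]
      have h0 : D.ten.tau (0 : M → ℂ) = 0 := by
        have := dade_smul (A := tenA₀ M W₁) (L := M) (H := Hd) 0 (0 : M → ℂ)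
        simp only [zero_smul] at this
        exact this
      simp [h0]
    | add a b _ _ ha hb =>
      rw [colMap_add, ha, hb, Pi.add_apply, add_div, add_smul, add_smul]
      rw [show a + b - ((a 1 / (q : ℂ)) • E.zeta + (b 1 / (q : ℂ)) • E.zeta) =
        (a - (a 1 / (q : ℂ)) • E.zeta) + (b - (b 1 / (q : ℂ)) • E.zeta) by abel,
        show D.ten.tau ((a - (a 1 / (q : ℂ)) • E.zeta) + (b - (b 1 / (q : ℂ)) • E.zeta)) = _ from dade_add _ _]
      simp only [TenData.tau]
      abel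
    | smul k a _ ha =>
      rw [colMap_zsmul, ha, show (k • a) 1 / (q : ℂ) = (k : ℂ) * (a 1 / (q : ℂ)) by simp [mul_div_assoc],
        ← Int.cast_smul_eq_zsmul ℂ, ← Int.cast_smul_eq_zsmul ℂ k a, mul_smul, mul_smul, ← smul_sub,
        show D.ten.tau ((k : ℂ) • (a - (a 1 / (q : ℂ)) • E.zeta)) = _ from dade_smul _ _]
      simp only [TenData.tau, smul_add]
  have hagree' : ∀ α ∈ zspanOn D.Cols {1}ᶜ, D.colMap α = D.ten.tau α := fun α hα => by
    rw [hkey α hα.1, hα.2 1 (by simp), zero_div, zero_smul, zero_smul, sub_zero, add_zero]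
  have hunion : D.Low ∪ D.Cols ⊆ inducedIrrAbove K (⊥ : Subgroup M) := Set.union_subset D.low_sub hcolsub
  have hbridge : D.ten.tau ((u : ℤ) • E.zeta - D.ten.prime.muSum b₀) =
      E.tau1 ((u : ℤ) • E.zeta) - D.colMap (D.ten.prime.muSum b₀) := by
    rw [← Int.cast_smul_eq_zsmul ℂ, Int.cast_natCast, ← neg_sub, ← neg_one_smul ℂ, TenData.tau, dade_smul]
    rw [show dadeIsometry (tenA₀ M W₁) M Hd (D.ten.prime.muSum b₀ - (u : ℂ) • E.zeta) = _ from D.tau_psi E hφ hb₀,
      colMap_muSum, neg_one_smul, neg_sub, ← Nat.cast_smul_eq_nsmul ℂ u E.zeta |>.trans (natCast_zsmul _ _).symm |>.symm,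
      E.iso.2.1 _ (Submodule.subset_span E.zeta_mem), natCast_zsmul, Nat.cast_smul_eq_nsmul]
  refine (bridge_coherent (A := {1}ᶜ) (isometryOn_mono (E := zspanOn (inducedIrrAbove K (⊥ : Subgroup M)) {1}ᶜ)
    (fun _ ha => ⟨Submodule.span_mono hunion ha.1, ha.2⟩) hR.isometry) (by simp)
    (fun ξ _ x hx hx1 => absurd (not_not.mp hx) hx1) (fun ξ hξ => ?_) (fun a ha b hb => ?_) E.iso D.colMap_iso
    E.agree hagree' (fun a ha b hb => ?_) (φ := (u : ℤ) • E.zeta) (ψ := D.ten.prime.muSum b₀)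
    (Submodule.smul_mem _ _ (Submodule.subset_span E.zeta_mem)) (Submodule.subset_span ⟨b₀, hb₀, rfl⟩) ?_ ?_
    hbridge ⟨(u : ℤ) • E.zeta - D.ten.prime.muSum b₀, ⟨?_, fun x hx => ?_⟩, fun e => ?_⟩).choose_spec.2.2.2.2
  · obtain ⟨d, hd⟩ := char_one_eq_natCast (mem_isCharacter D.ten (hunion hξ))
    exact ⟨d, by rw [hd, Int.cast_natCast]⟩
  · obtain ⟨l, -, rfl⟩ := hb
    rw [← classInner_comm, D.muSum_orth_low l ha, map_zero]
  · obtain ⟨l, -, rfl⟩ := hb
    rw [colMap_muSum, classInner_sum_right]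
    exact Finset.sum_eq_zero fun i _ => D.img_orth_eta E ⟨a, ha⟩ i l
  · rw [Pi.smul_apply, D.low_deg E.zeta_mem, hdegcol b₀ hb₀, zsmul_eq_mul, Int.cast_natCast]
  · rw [Pi.smul_apply, D.low_deg E.zeta_mem, zsmul_eq_mul, Int.cast_natCast]
    exact mul_ne_zero hu0 hq0
  · exact Submodule.sub_mem _ (Submodule.smul_mem _ _ (Submodule.subset_span (Or.inl E.zeta_mem)))
      (Submodule.subset_span (Or.inr ⟨b₀, hb₀, rfl⟩))
  · rw [not_not.mp hx, Pi.sub_apply, Pi.smul_apply, D.low_deg E.zeta_mem, hdegcol b₀ hb₀, zsmul_eq_mul,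
      Int.cast_natCast, sub_self]
  · have h := congrArg (fun f => classInner f E.zeta) e
    simp only [classInner_sub_left, ← Int.cast_smul_eq_zsmul ℂ, classInner_smul_left,
      D.muSum_orth_low b₀ E.zeta_mem, classInner_irr_self (D.low_irr E.zeta_mem), classInner_zero_left] at h
    simp at h
    exact hu0 (by exact_mod_cast h)

/-- In case (i) everything is coherent. -/
theorem not_caseI_exact (hφ : D.vPhi E = (∑ a : W₁ →* ℂˣ, D.vEta a 1) - D.vImg E ⟨E.zeta, E.zeta_mem⟩) :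
    False := by
  classical
  haveI := D.hyp.C_normal
  haveI := Fintype.ofFinite (↥M ⧸ C)
  obtain ⟨R, hR, -⟩ := exists_system D.ten
  set u := C.relIndex U with hu
  set n : (M → ℂ) → ℕ := fun φ => if IsIrrCharacter M φ then 1 else q with hn
  set Bc : Finset (M → ℂ) := (Finset.univ.erase (1 : W₂ →* ℂˣ)).image D.ten.prime.muSum with hBc
  have hBcset : (↑Bc : Set (M → ℂ)) = D.Cols := by
    ext f
    simp only [hBc, Finset.coe_image, Set.mem_image, Finset.mem_coe, Finset.mem_erase, Finset.mem_univ, and_true]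
    exact ⟨fun ⟨b, hb, e⟩ => ⟨b, hb, e.symm⟩, fun ⟨b, hb, e⟩ => ⟨b, hb, e.symm⟩⟩
  set B : Finset (M → ℂ) := D.low_finite.toFinset ∪ Bc with hB
  have hBset : (↑B : Set (M → ℂ)) = D.Low ∪ D.Cols := by
    rw [hB, Finset.coe_union, Set.Finite.coe_toFinset, hBcset]
  have hBS : (↑B : Set (M → ℂ)) ⊆ inducedIrrAbove K C := by
    rw [hBset]
    refine Set.union_subset D.low_subC ?_
    rintro _ ⟨b, hb, rfl⟩
    exact D.hyp.muSum_mem hb
  have hsys : IsCoherenceSystem (inducedIrrAbove K C) D.ten.tau R :=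
    system_mono hR (inducedIrrAbove_subset K C) ⟨_, D.low_subC E.zeta_mem⟩ fun φ hφ => inducedIrrAbove_conj K C hφ
  have hmuq : ∀ b : W₂ →* ℂˣ, classInner (D.ten.prime.muSum b) (D.ten.prime.muSum b) = (q : ℂ) := fun b => by
    rw [D.ten.prime.classInner_muSum, if_pos rfl, D.hyp.card_W₁]
  have hnotirr : ∀ b : W₂ →* ℂˣ, ¬ IsIrrCharacter M (D.ten.prime.muSum b) := fun b hi => by
    have h1 := (classInner_irr_self hi).symm.trans (hmuq b)
    exact D.hyp.hq.ne_one (by exact_mod_cast h1.symm)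
  have hnorm : ∀ φ ∈ inducedIrrAbove K C, classInner φ φ = (n φ : ℂ) := fun φ hφ => by
    rcases D.hyp.member_facts hφ with ⟨b, -, rfl⟩ | ⟨hi, -⟩
    · rw [hn]
      simp only [if_neg (hnotirr b)]
      exact hmuq b
    · rw [hn]
      simp only [if_pos hi]
      rw [classInner_irr_self hi, Nat.cast_one]
  choose! d hd using fun φ (hφ : φ ∈ inducedIrrAbove K C) => char_one_eq_natCast (hsys.isCharacter φ hφ)
  have hdeg : ∀ φ ∈ inducedIrrAbove K C, φ ∉ D.Cols → ∃ k, 0 < k ∧ k ≤ u ∧ d φ = q * k := fun φ hφ hnc => by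
    rcases D.hyp.member_facts hφ with ⟨b, hb, e⟩ | ⟨-, k, hk0, hku, hk⟩
    · exact absurd ⟨b, hb, e⟩ hnc
    · exact ⟨k, hk0, hku, by rw [hd φ hφ, Nat.cast_inj] at hk; exact hk⟩
  have hdz : d E.zeta = q := by
    have h1 := hd E.zeta (D.low_subC E.zeta_mem)
    rw [D.low_deg E.zeta_mem, Nat.cast_inj] at h1
    exact h1.symm
  have hlarge : ((p - 1 : ℕ) : ℝ) * ((q : ℝ) * (u : ℝ) ^ 2) ≤ ∑ φ ∈ B, ((d φ : ℝ) ^ 2 / (n φ : ℝ)) := by
    refine le_trans (le_of_eq ?_) (Finset.sum_le_sum_of_subset_of_nonneg (s := Bc) Finset.subset_union_right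
      fun i _ _ => by positivity)
    have hterm : ∀ φ ∈ Bc, (d φ : ℝ) ^ 2 / (n φ : ℝ) = (q : ℝ) * (u : ℝ) ^ 2 := fun φ hφ => by
      obtain ⟨b, hb, rfl⟩ := Finset.mem_image.mp hφ
      have hb1 : b ≠ 1 := (Finset.mem_erase.mp hb).1
      have h1 := hd _ (D.hyp.muSum_mem hb1)
      rw [D.hyp.muSum_one hb1, Nat.cast_inj] at h1
      rw [← h1, hn]
      simp only [if_neg (hnotirr b)]
      have : (q : ℝ) ≠ 0 := Nat.cast_ne_zero.mpr D.hyp.hq.ne_zero
      push_cast
      field_simp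
      rw [← hu]
    rw [Finset.sum_congr rfl hterm, Finset.sum_const, nsmul_eq_mul]
    congr 2
    rw [hBc, Finset.card_image_of_injective, Finset.card_erase_of_mem (Finset.mem_univ _), Finset.card_univ, D.card_J]
    intro b l e
    refine D.ten.prime.colChar_injective ?_
    by_contra hne
    have h1 := D.ten.prime.classInner_muSum b l
    rw [e, hmuq, if_neg fun h => hne (by rw [h]), Nat.cast_eq_zero] at h1
    exact D.hyp.hq.ne_zero h1
  refine D.notCoh (coherent_extend_all hsys d n hd hnorm (inducedIrrAbove_finite K C).toFinset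
    (Set.Finite.coe_toFinset _) B hBS (fun φ hφ => ?_) ?_ (χ₁ := E.zeta)
    (Finset.mem_union_left _ (D.low_finite.mem_toFinset.mpr E.zeta_mem)) (fun χ hχ hχB => ?_) fun χ hχ hχB => ?_)
  · rw [← Finset.mem_coe, hBset] at hφ ⊢
    rcases hφ with h | ⟨b, hb, rfl⟩
    · exact Or.inl (D.low_conj h)
    · refine Or.inr ⟨b⁻¹, fun e => hb ?_, ?_⟩
      · exact MonoidHom.ext fun x => inv_eq_one.mp (DFunLike.congr_fun e x)
      · rw [← D.ten.prime.indFun_colChar, ← D.ten.prime.indFun_colChar, ← indFun_conjFun, D.ten.prime.colChar_conj]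
  · rw [hBset]; exact D.coherent_base E hφ
  all_goals
    obtain ⟨k, hk0, hku, hk⟩ := hdeg χ hχ fun h => hχB (by rw [← Finset.mem_coe, hBset]; exact Or.inr h)
    rw [hdz, hk]
  · exact dvd_mul_right q k
  · refine lt_of_lt_of_le ?_ hlarge
    have hq3 : (3 : ℝ) ≤ q := by exact_mod_cast (D.hyp.card_W₁ ▸ D.ten.prime.three_le₁ : 3 ≤ q)
    have hp2 : (2 : ℝ) ≤ ((p - 1 : ℕ) : ℝ) := by
      have : 3 ≤ p := D.hyp.card_W₂ ▸ D.ten.prime.three_le₂
      exact_mod_cast (by omega : 2 ≤ p - 1)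
    have hu2 : 2 * (q : ℝ) + 1 ≤ u := by
      have h1 := D.nLow_facts
      have : 2 * q + 1 ≤ u := by
        rw [hu, ← h1.1]
        exact Nat.add_le_add_right (Nat.mul_le_mul_right q h1.2.2) 1
      exact_mod_cast this
    have hku' : (k : ℝ) ≤ u := by exact_mod_cast hku
    have hu0 : (0 : ℝ) ≤ u := Nat.cast_nonneg _
    push_cast
    calc 2 * ((q : ℝ) * k) * q ≤ 2 * ((q : ℝ) * u) * q := by gcongr
      _ = (2 * q) * ((q : ℝ) * u) := by ring
      _ < (2 * (u : ℝ)) * ((q : ℝ) * u) := by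
          refine mul_lt_mul_of_pos_right (by linarith) (mul_pos (by linarith) (by linarith))
      _ = 2 * ((q : ℝ) * (u : ℝ) ^ 2) := by ring
      _ ≤ ((p - 1 : ℕ) : ℝ) * ((q : ℝ) * (u : ℝ) ^ 2) := by gcongr

/-- **(11.8)** Case (ii) holds, and `p < q`. -/
theorem caseII : (D.frame E).CaseII (D.vPhi E) ∧ p < q := by
  rcases (D.frame E).dichotomy (D.isPhi E) with hI | ⟨hII, hlt⟩
  swap
  · exact ⟨hII, by rwa [D.card_J, D.card_I] at hlt⟩
  exfalso
  rcases (D.frame E).caseI_tail (D.isPhi E) hI with h | ⟨h2, z, hz, h⟩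
  · exact D.not_caseI_exact E h
  · obtain ⟨E', hz', himg⟩ := D.exists_twist E h2 hz
    refine D.not_caseI_exact E' (Subtype.ext ?_)
    have h' := congrArg (fun v : vChar G => (v : G → ℂ)) h
    simp only [frame, AddSubgroup.coe_add] at h'
    rw [AddSubgroup.coe_sub]
    show D.ten.tau (D.ten.prime.muSum 1 - ((1 : ℕ) : ℂ) • E'.zeta) = _ - E'.tau1 E'.zeta
    rw [himg, sub_neg_eq_add, hz']
    exact h'

end ElevenData

end CfsgLib.OddOrder.S11
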