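import Cfsg.Agent.Lib.OddOrder.S9b.Counting
import Cfsg.Agent.Lib.CharTheory.Monomial
import Cfsg.Agent.Lib.CharTheory.CoherenceDescend

/-!
Peterfalvi section 11: the quotient `L = M / C` of a subgroup of type III or IV satisfies the hypothesis of the second
half of section 9; the members of `S(C)` are inflated from it.
-/

set_option autoImplicit false
set_option linter.unusedSectionVars false
set_option linter.style.haveILetI false

namespace CfsgLib.OddOrder.S11

open Cfsg CfsgLib.CharTheory CfsgLib.OddOrder.Found CfsgLib.OddOrder.S9b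
open scoped commutatorElement

universe u

variable {L : Type u} [Group L]

/-- The situation of section 11 inside `M`, after (11.7): `M = (H U) W₁`, `H` elementary abelian, `C = C_U(H)`. -/
structure ElevenHyp (K H U C W₁ W₂ : Subgroup L) (p q : ℕ) : Prop where
  prime : IsPrimeTI K W₁ W₂
  odd : Odd (Nat.card L)
  H_normal : H.Normal
  C_normal : C.Normal
  H_le : H ≤ K
  U_le : U ≤ K
  C_le : C ≤ U
  W₂_le : W₂ ≤ H
  comm_H : ∀ a ∈ H, ∀ b ∈ H, a * b = b * a
  U_der : ∀ a ∈ U, ∀ b ∈ U, ⁅a, b⁆ ∈ C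
  inf_HU : H ⊓ U = ⊥
  sup_HU : H ⊔ U = K
  C_cent : C = U ⊓ Subgroup.centralizer (H : Set L)
  U_inv : W₁ ≤ Subgroup.normalizer (U : Set L)
  hp : p.Prime
  hq : q.Prime
  card_H : Nat.card H = p ^ q
  card_W₁ : Nat.card W₁ = q
  card_W₂ : Nat.card W₂ = p
  fixed : ∀ x ∈ W₁, x ≠ 1 → ∀ k ∈ K, x * k * x⁻¹ * k⁻¹ ∈ C → ∃ c ∈ W₂, k⁻¹ * c ∈ C
  irred : ∀ X : Subgroup L, X ≤ H → U ≤ Subgroup.normalizer (X : Set L) → W₁ ≤ Subgroup.normalizer (X : Set L) →
    X = ⊥ ∨ X = H

namespace ElevenHyp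

variable [Fintype L] {K H U C W₁ W₂ : Subgroup L} {p q : ℕ} (h : ElevenHyp K H U C W₁ W₂ p q)
include h

theorem C_le_K : C ≤ K := h.C_le.trans h.U_le

theorem card_map_eq [C.Normal] {X : Subgroup L} (hX : X ⊓ C = ⊥) :
    Nat.card (X.map (QuotientGroup.mk' C)) = Nat.card X := by
  refine (Nat.card_eq_of_bijective (fun x : X => (⟨_, x, x.2, rfl⟩ : X.map (QuotientGroup.mk' C)))
    ⟨fun a b e => Subtype.ext ?_, ?_⟩).symm
  · have h1 : ((a : L))⁻¹ * b ∈ X ⊓ C :=
      Subgroup.mem_inf.mpr ⟨X.mul_mem (X.inv_mem a.2) b.2, QuotientGroup.eq.mp (congrArg Subtype.val e)⟩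
    rw [hX, Subgroup.mem_bot, inv_mul_eq_one] at h1
    exact h1
  · rintro ⟨-, x, hx, rfl⟩
    exact ⟨⟨x, hx⟩, rfl⟩

theorem inf_HC : H ⊓ C = ⊥ := le_bot_iff.mp (h.inf_HU ▸ inf_le_inf_left H h.C_le)

theorem inf_W₁C : W₁ ⊓ C = ⊥ := le_bot_iff.mp
  (h.prime.inf_eq_bot ▸ le_inf (inf_le_right.trans h.C_le_K) inf_le_left)

theorem inf_W₂C : W₂ ⊓ C = ⊥ := le_bot_iff.mp (h.inf_HC ▸ inf_le_inf_right C h.W₂_le)

theorem comap_map [C.Normal] : (K.map (QuotientGroup.mk' C)).comap (QuotientGroup.mk' C) = K := by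
  rw [Subgroup.comap_map_eq, QuotientGroup.ker_mk', sup_eq_left.mpr h.C_le_K]

theorem comm_mod [C.Normal] {a b : L} (e : (QuotientGroup.mk' C a) * QuotientGroup.mk' C b =
    QuotientGroup.mk' C b * QuotientGroup.mk' C a) : a * b * a⁻¹ * b⁻¹ ∈ C := by
  rw [← QuotientGroup.eq_one_iff]
  show QuotientGroup.mk' C (a * b * a⁻¹ * b⁻¹) = 1
  simp only [map_mul, map_inv, e]
  group

theorem quot_prime [C.Normal] : IsPrimeTI (K.map (QuotientGroup.mk' C)) (W₁.map (QuotientGroup.mk' C))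
    (W₂.map (QuotientGroup.mk' C)) := by
  have hs := QuotientGroup.mk'_surjective C
  have hc1 := h.card_map_eq h.inf_W₁C
  have hc2 := h.card_map_eq h.inf_W₂C
  haveI := Fact.mk h.hq
  haveI := Fact.mk h.hp
  refine
    { normal := h.prime.normal.map _ hs
      inf_eq_bot := ?_
      sup_eq_top := by rw [← Subgroup.map_sup, h.prime.sup_eq_top, Subgroup.map_top_of_surjective _ hs]
      ne_bot₁ := fun e => h.hq.ne_one (by rw [← h.card_W₁, ← hc1, e, Subgroup.card_bot])
      cyclic₁ := isCyclic_of_prime_card (hc1.trans h.card_W₁)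
      hall := ?_
      ne_bot₂ := fun e => h.hp.ne_one (by rw [← h.card_W₂, ← hc2, e, Subgroup.card_bot])
      cyclic₂ := isCyclic_of_prime_card (hc2.trans h.card_W₂)
      le_kernel := Subgroup.map_mono h.prime.le_kernel
      centralizer_eq := ?_
      odd := Odd.of_dvd_nat h.odd ((Subgroup.card_subgroup_dvd_card _).trans (Subgroup.card_quotient_dvd_card C)) }
  · rw [eq_bot_iff]
    rintro z ⟨hzK, w, hw, rfl⟩
    have hw' : w ∈ K := h.comap_map.le hzK
    have := h.prime.inf_eq_bot.le (Subgroup.mem_inf.mpr ⟨hw', hw⟩)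
    rw [Subgroup.mem_bot] at this
    rw [this, map_one]
    exact Subgroup.one_mem _
  · rw [hc1]
    refine h.prime.hall.coprime_dvd_right ?_
    exact (Subgroup.index_map_dvd _ hs).trans dvd_rfl
  · rintro _ ⟨x, hx, rfl⟩ hx1
    have hx1' : x ≠ 1 := fun e => hx1 (by rw [e, map_one])
    refine le_antisymm ?_ ?_
    · rintro z ⟨⟨k, hk, rfl⟩, hz⟩
      obtain ⟨c, hc, hkc⟩ := h.fixed x hx hx1' k hk
        (h.comm_mod (Subgroup.mem_centralizer_singleton_iff.mp hz).symm)
      exact ⟨c, hc, (QuotientGroup.eq.mpr hkc).symm⟩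
    · rintro _ ⟨c, hc, rfl⟩
      have hc' := (h.prime.centralizer_eq x hx hx1').ge hc
      refine ⟨⟨c, h.prime.le_kernel hc, rfl⟩, Subgroup.mem_centralizer_singleton_iff.mpr ?_⟩
      rw [← map_mul, ← map_mul, Subgroup.mem_centralizer_singleton_iff.mp (Subgroup.mem_inf.mp hc').2]

theorem coreHyp [C.Normal] : CoreHyp (K.map (QuotientGroup.mk' C)) (H.map (QuotientGroup.mk' C))
    (U.map (QuotientGroup.mk' C)) (W₁.map (QuotientGroup.mk' C)) (W₂.map (QuotientGroup.mk' C)) p q := by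
  have hs := QuotientGroup.mk'_surjective C
  refine
    { prime := h.quot_prime
      odd := Odd.of_dvd_nat h.odd (Subgroup.card_quotient_dvd_card C)
      P_normal := h.H_normal.map _ hs
      P_le := Subgroup.map_mono h.H_le
      U_le := Subgroup.map_mono h.U_le
      W₂_le := Subgroup.map_mono h.W₂_le
      comm_P := ?_
      comm_U := ?_
      inf_PU := ?_
      sup_PU := by rw [← Subgroup.map_sup, h.sup_HU]
      U_inv := (Subgroup.map_mono h.U_inv).trans (Subgroup.le_normalizer_map _)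
      hp := h.hp
      hq := h.hq
      card_P := (h.card_map_eq h.inf_HC).trans h.card_H
      card_W₁ := (h.card_map_eq h.inf_W₁C).trans h.card_W₁
      card_W₂ := (h.card_map_eq h.inf_W₂C).trans h.card_W₂
      irred := ?_ }
  · rintro _ ⟨a, ha, rfl⟩ _ ⟨b, hb, rfl⟩
    rw [← map_mul, ← map_mul, h.comm_H a ha b hb]
  · rintro _ ⟨a, ha, rfl⟩ _ ⟨b, hb, rfl⟩
    rw [← commutatorElement_eq_one_iff_mul_comm, ← map_commutatorElement]
    exact (QuotientGroup.eq_one_iff _).mpr (h.U_der a ha b hb)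
  · rw [eq_bot_iff]
    rintro z ⟨⟨a, ha, rfl⟩, b, hb, hab⟩
    have hm : b⁻¹ * a ∈ C := QuotientGroup.eq.mp hab
    have : a ∈ H ⊓ U := Subgroup.mem_inf.mpr ⟨ha, by simpa using U.mul_mem hb (h.C_le hm)⟩
    rw [h.inf_HU, Subgroup.mem_bot] at this
    rw [this, map_one]
    exact Subgroup.one_mem _
  · intro X hX hU hW
    set Y := H ⊓ X.comap (QuotientGroup.mk' C) with hY
    have hn : ∀ g : L, QuotientGroup.mk' C g ∈ Subgroup.normalizer (X : Set (L ⧸ C)) →
        g ∈ Subgroup.normalizer (Y : Set L) := fun g hg => Subgroup.mem_normalizer_iff.mpr fun y => by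
      simp only [hY, Subgroup.mem_inf, Subgroup.mem_comap, map_mul, map_inv]
      rw [← Subgroup.mem_normalizer_iff.mp hg]
      exact and_congr_left fun _ => ⟨fun hy => h.H_normal.conj_mem y hy g,
        fun hy => by simpa [mul_assoc] using h.H_normal.conj_mem _ hy g⁻¹⟩
    rcases h.irred Y inf_le_left (fun g hg => hn g (hU ⟨g, hg, rfl⟩)) (fun g hg => hn g (hW ⟨g, hg, rfl⟩)) with e | e
    · left
      rw [eq_bot_iff]
      intro z hz
      obtain ⟨a, ha, rfl⟩ := hX hz
      have : a ∈ Y := Subgroup.mem_inf.mpr ⟨ha, hz⟩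
      rw [e, Subgroup.mem_bot] at this
      rw [this, map_one]
      exact Subgroup.one_mem _
    · right
      refine le_antisymm hX ?_
      rintro _ ⟨a, ha, rfl⟩
      exact (Subgroup.mem_inf.mp (e.ge ha)).2

theorem uBar_eq [C.Normal] : uBar (H.map (QuotientGroup.mk' C)) (U.map (QuotientGroup.mk' C)) = C.relIndex U := by
  have h1 : U.map (QuotientGroup.mk' C) ⊓ Subgroup.centralizer ((H.map (QuotientGroup.mk' C) : Subgroup _) : Set _) =
      ⊥ := by
    rw [eq_bot_iff]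
    rintro _ ⟨⟨u, hu, rfl⟩, hc⟩
    rw [Subgroup.mem_bot]
    refine (QuotientGroup.eq_one_iff u).mpr (h.C_cent.ge (Subgroup.mem_inf.mpr ⟨hu, fun z hz => ?_⟩))
    have hm := h.comm_mod (hc _ ⟨z, hz, rfl⟩)
    have h2 : z * u * z⁻¹ * u⁻¹ ∈ H ⊓ C := Subgroup.mem_inf.mpr ⟨by
      rw [show z * u * z⁻¹ * u⁻¹ = z * (u * z⁻¹ * u⁻¹) by group]
      exact H.mul_mem hz (h.H_normal.conj_mem _ (H.inv_mem hz) u), hm⟩
    rw [h.inf_HC, Subgroup.mem_bot, mul_inv_eq_one, mul_inv_eq_iff_eq_mul] at h2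
    exact h2
  rw [uBar, h1, Subgroup.relIndex_bot_left]
  have h2 := Subgroup.relIndex_map_map (QuotientGroup.mk' C) C U
  rw [QuotientGroup.map_mk'_self, QuotientGroup.ker_mk', Subgroup.relIndex_bot_left, sup_idem,
    sup_eq_left.mpr h.C_le] at h2
  exact h2

/-- Inflation from `L / C` to `L`. -/
def infl (_h : ElevenHyp K H U C W₁ W₂ p q) [C.Normal] (f : L ⧸ C → ℂ) : L → ℂ :=
  fun g => f (QuotientGroup.mk' C g)

theorem infl_injective [C.Normal] : Function.Injective h.infl := fun f g e => funext fun x => by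
  obtain ⟨y, rfl⟩ := QuotientGroup.mk'_surjective C x
  exact congrFun e y

theorem infl_one [C.Normal] (f : L ⧸ C → ℂ) : h.infl f 1 = f 1 := congrArg f (map_one _)

theorem isIrr_infl [C.Normal] {f : L ⧸ C → ℂ} (hf : IsIrrCharacter (L ⧸ C) f) : IsIrrCharacter L (h.infl f) :=
  isIrrCharacter_comp_surjective hf (QuotientGroup.mk' C) (QuotientGroup.mk'_surjective C)

/-- The projection of `K` on `K / C`. -/
def toQ (_h : ElevenHyp K H U C W₁ W₂ p q) [C.Normal] : K →* K.map (QuotientGroup.mk' C) :=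
  (QuotientGroup.mk' C).subgroupMap K

theorem toQ_surjective [C.Normal] : Function.Surjective h.toQ :=
  MonoidHom.subgroupMap_surjective _ K

theorem coe_toQ [C.Normal] (k : K) : ((h.toQ k : K.map (QuotientGroup.mk' C)) : L ⧸ C) = QuotientGroup.mk' C k := rfl

theorem indFun_infl [C.Normal] [Fintype (L ⧸ C)] (θ : K.map (QuotientGroup.mk' C) → ℂ) :
    indFun K (fun k => θ (h.toQ k)) = h.infl (indFun (K.map (QuotientGroup.mk' C)) θ) := by
  have key : ∀ (X : Subgroup L) (e : X = K),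
      indFun K (fun k => θ (h.toQ k)) = indFun X (fun x => θ (h.toQ ⟨x, e.le x.2⟩)) := by
    rintro X rfl; rfl
  rw [key _ h.comap_map]
  funext g
  exact (congrFun (congrArg _ (funext fun x => congrArg θ (Subtype.ext rfl))) g).trans
    (indFun_comap (QuotientGroup.mk' C) (QuotientGroup.mk'_surjective C) _ θ g)

theorem infl_mem [C.Normal] [Fintype (L ⧸ C)] {φ : L ⧸ C → ℂ}
    (hφ : φ ∈ coreSet (K.map (QuotientGroup.mk' C)) (H.map (QuotientGroup.mk' C))) :
    h.infl φ ∈ inducedIrrAbove K C := by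
  obtain ⟨θ, hθ, hk, rfl⟩ := hφ
  refine ⟨fun k => θ (h.toQ k), isIrrCharacter_comp_surjective hθ h.toQ h.toQ_surjective, fun e => hk fun z _ => ?_,
    fun a ha => congrArg θ (Subtype.ext ?_), (h.indFun_infl θ).symm⟩
  · obtain ⟨y, rfl⟩ := h.toQ_surjective z
    rw [← map_one h.toQ]
    exact (congrFun e y).trans (congrFun e 1).symm
  · rw [h.coe_toQ, h.coe_toQ]
    show QuotientGroup.mk' C (a : L) = QuotientGroup.mk' C 1
    rw [map_one]
    exact (QuotientGroup.eq_one_iff _).mpr ha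

/-- A member of `S(C)` has linear inducing character trivial on `H`, or is inflated from a member for `L / C`. -/
theorem member_cases [C.Normal] [Fintype (L ⧸ C)] {φ : L → ℂ} (hφ : φ ∈ inducedIrrAbove K C) :
    (∃ θ : K → ℂ, IsIrrCharacter K θ ∧ θ ≠ (fun _ => 1) ∧ θ 1 = 1 ∧
      (∀ a : K, (a : L) ∈ H ⊔ C → θ a = 1) ∧ φ = indFun K θ) ∨
    ∃ ψ ∈ coreSet (K.map (QuotientGroup.mk' C)) (H.map (QuotientGroup.mk' C)), φ = h.infl ψ := by
  classical
  haveI := Fintype.ofFinite K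
  haveI := Fintype.ofFinite (K.map (QuotientGroup.mk' C))
  obtain ⟨θ, hθ, hne, hC, rfl⟩ := hφ
  haveI : h.toQ.ker.Normal := MonoidHom.normal_ker _
  obtain ⟨ψ, hψ, hψθ⟩ := exists_quotient_irr h.toQ.ker hθ fun n hn => hC n (by
    have := congrArg Subtype.val (MonoidHom.mem_ker.mp hn)
    rw [h.coe_toQ] at this
    exact (QuotientGroup.eq_one_iff _).mp this)
  let e := QuotientGroup.quotientKerEquivOfSurjective h.toQ h.toQ_surjective
  let η : K.map (QuotientGroup.mk' C) → ℂ := fun z => ψ (e.symm z)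
  have hη : IsIrrCharacter _ η := isIrrCharacter_comp_surjective hψ e.symm.toMonoidHom e.symm.surjective
  have hθη : θ = fun k => η (h.toQ k) := funext fun k => by
    rw [hψθ]
    exact congrArg ψ (e.symm_apply_apply (QuotientGroup.mk k)).symm
  by_cases hk : ∀ z : K.map (QuotientGroup.mk' C), (z : L ⧸ C) ∈ H.map (QuotientGroup.mk' C) → η z = η 1
  · left
    have hlin : η 1 = 1 := by
      set P := (H.map (QuotientGroup.mk' C)).subgroupOf (K.map (QuotientGroup.mk' C)) with hP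
      haveI : (H.map (QuotientGroup.mk' C)).Normal := h.coreHyp.P_normal
      obtain ⟨ξ, hξ, hξη⟩ := exists_quotient_irr P hη fun n hn => hk n hn
      have hc : ∀ a b : (K.map (QuotientGroup.mk' C) : Subgroup _) ⧸ P, a * b = b * a := fun a b => by
        obtain ⟨a, rfl⟩ := QuotientGroup.mk_surjective a
        obtain ⟨b, rfl⟩ := QuotientGroup.mk_surjective b
        rw [← commutatorElement_eq_one_iff_mul_comm, ← QuotientGroup.mk'_apply, ← QuotientGroup.mk'_apply,
          ← map_commutatorElement, QuotientGroup.mk'_apply, QuotientGroup.eq_one_iff, hP, Subgroup.mem_subgroupOf]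
        exact h.coreHyp.mem_of_commutator a.2 b.2
      rw [hξη]
      exact degree_one_of_commutative hc hξ
    refine ⟨θ, hθ, hne, by rw [hθη]; simpa using hlin, fun a ha => ?_, rfl⟩
    rw [hθη]
    refine (hk _ ?_).trans hlin
    rw [h.coe_toQ]
    have := Subgroup.mem_map_of_mem (QuotientGroup.mk' C) ha
    rwa [Subgroup.map_sup, QuotientGroup.map_mk'_self, sup_bot_eq] at this
  · right
    refine ⟨_, ⟨η, hη, hk, rfl⟩, ?_⟩
    rw [← h.indFun_infl, hθη]

end ElevenHyp

end CfsgLib.OddOrder.S11
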