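import Cfsg.Agent.Lib.OddOrder.S11.Group
import Cfsg.Agent.Lib.OddOrder.S11.Quot
import Cfsg.Agent.Lib.OddOrder.S9b.Lines

/-!
Peterfalvi (9.7)(a) in the language of section 9b: in the non-Galois case `H` is a product of `q` lines.
-/

set_option autoImplicit false
set_option linter.unusedSectionVars false
set_option linter.style.haveILetI false

namespace CfsgLib.OddOrder.S11

open Cfsg Subgroup CfsgLib.OddOrder.S9b
open scoped Pointwise commutatorElement

universe u

theorem nsmul_eq_self_iff {V : Type u} [AddCommGroup V] {p : ℕ} (hp : p.Prime) {v : V} (hv : v ≠ 0)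
    (hpv : p • v = 0) (z : ZMod p) : z.val • v = v ↔ z = 1 := by
  haveI := Fact.mk hp
  haveI : Fact (1 < p) := ⟨hp.one_lt⟩
  refine ⟨fun e => ?_, fun e => by rw [e, ZMod.val_one, one_nsmul]⟩
  have hord : addOrderOf v = p := addOrderOf_eq_prime hpv hv
  nth_rewrite 2 [← one_nsmul v] at e
  rw [nsmul_eq_nsmul_iff_modEq, hord, ← ZMod.natCast_eq_natCast_iff, ZMod.natCast_zmod_val, Nat.cast_one] at e
  exact e

theorem conj_mem_zpowers_normalizer {X : Type u} [Group X] {U : Subgroup X} {y : X}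
    (h : ∀ g ∈ U, g * y * g⁻¹ ∈ zpowers y) : U ≤ normalizer (zpowers y : Set X) := fun g hg => by
  have key : ∀ g ∈ U, ∀ z ∈ zpowers y, g * z * g⁻¹ ∈ zpowers y := fun g hg z hz => by
    obtain ⟨n, rfl⟩ := mem_zpowers_iff.mp hz
    rw [← conj_zpow]
    exact zpow_mem (h g hg) n
  rw [mem_normalizer_iff]
  refine fun z => ⟨key g hg z, fun hz => ?_⟩
  have := key g⁻¹ (U.inv_mem hg) _ hz
  simpa [mul_assoc] using this

variable {G : Type u} [Group G] [Finite G] {M H U W1 W2 H0 : Subgroup G} [Fintype M] {p q : ℕ}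

open Classical in
/-- The non-Galois case gives a system of lines in `M / C`. -/
theorem exists_lineSystem (k : S9.IsCoreKernel M H U H0) (d : S9.TypeData M H U W1 W2 q) (hb : H0 = ⊥)
    (hp : p.Prime) (hcard : Nat.card H = Nat.card H0 * p ^ q) (hgal : ¬ S9.IsGalois H U H0)
    {K : Subgroup M} [((S9.kernelC H U H0).subgroupOf M).Normal]
    (hE : ElevenHyp K (H.subgroupOf M) (U.subgroupOf M) ((S9.kernelC H U H0).subgroupOf M) (W1.subgroupOf M)
      (W2.subgroupOf M) p q) :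
    ∃ (ℓ : Fin q → Subgroup (↥M ⧸ (S9.kernelC H U H0).subgroupOf M)) (a : ℕ),
      IsLineSystem ((H.subgroupOf M).map (QuotientGroup.mk' ((S9.kernelC H U H0).subgroupOf M)))
        ((U.subgroupOf M).map (QuotientGroup.mk' ((S9.kernelC H U H0).subgroupOf M)))
        ((W1.subgroupOf M).map (QuotientGroup.mk' ((S9.kernelC H U H0).subgroupOf M))) p q ℓ a := by
  obtain ⟨w, hw, hw1⟩ := d.exists_W1
  obtain ⟨V, _, _, A, _, _, f, π, ρ, σ, T, m⟩ := k.exists_model_of_card d hp hcard hw hw1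
  obtain ⟨h, lam, L⟩ := m.lin.exists_lineBasis fun e => hgal ((m.isGalois_iff).mpr e)
  have hodd : Odd (Nat.card A) := m.card_A ▸ (k.index_facts d hp hcard).2.1
  obtain ⟨ha1, ha2, ha3⟩ := L.range_odd m.lin hodd
  set C := (S9.kernelC H U H0).subgroupOf M with hC
  set mk := QuotientGroup.mk' C with hmk
  set P := (H.subgroupOf M).map mk with hP
  have finj : ∀ x ∈ H, ∀ y ∈ H, f x = f y → x = y := fun x hx y hy e => by
    have h1 := (m.f_eq_iff hx hy).mp e
    rw [hb, mem_bot, inv_mul_eq_one] at h1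
    exact h1
  choose x hxH hfx using fun i : Fin q => m.f_surj ((T ^ (i : ℕ)) h)
  set y : Fin q → ↥M ⧸ C := fun i => mk ⟨x i, d.H_le (hxH i)⟩ with hy
  have hinf : ∀ z : ↥M, (z : G) ∈ H → mk z = 1 → z = 1 := fun z hz e => by
    have h1 : z ∈ H.subgroupOf M ⊓ C := ⟨hz, (QuotientGroup.eq_one_iff z).mp e⟩
    rwa [hE.inf_HC, mem_bot] at h1
  have hyP : ∀ i, y i ∈ P := fun i => mem_map_of_mem _ (hxH i)
  have hyne : ∀ i, y i ≠ 1 := fun i e => by
    have h1 : x i = 1 := congrArg Subtype.val (hinf _ (hxH i) e)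
    exact L.line_ne_zero m.lin i (by rw [← hfx i, h1, m.f_one])
  have hyp : ∀ i, y i ^ p = 1 := fun i => by
    rw [hy]
    simp only [← map_pow]
    refine (QuotientGroup.eq_one_iff _).mpr ?_
    have h1 : x i ^ p = 1 := finj _ (H.pow_mem (hxH i) p) _ H.one_mem (by
      rw [m.f_pow (hxH i), m.lin.exp, m.f_one])
    rw [show (⟨x i, d.H_le (hxH i)⟩ : M) ^ p = 1 from Subtype.ext h1]
    exact one_mem _
  have hfconj : ∀ (u : ↥M), (u : G) ∈ U → ∀ i, f ((u : G) * x i * (u : G)⁻¹) =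
      (lam ((σ ^ (i : ℕ))⁻¹ (π u)) : ZMod p).val • f (x i) := fun u hu i => by
    rw [m.act _ hu _ (hxH i), hfx i, L.act]
  have hconjH : ∀ (u : ↥M) i, (u : G) * x i * (u : G)⁻¹ ∈ H := fun u i =>
    (mem_normalizer_iff.mp (d.H_normal u.2) _).mp (hxH i)
  have hcomm : ∀ a ∈ P, ∀ b ∈ P, a * b = b * a := by
    rintro _ ⟨a, ha, rfl⟩ _ ⟨b, hb', rfl⟩
    rw [← map_mul, ← map_mul, hE.comm_H a ha b hb']
  -- the lines
  set ℓ : Fin q → Subgroup (↥M ⧸ C) := fun i => zpowers (y i) with hℓ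
  have hle : ∀ i, ℓ i ≤ P := fun i => zpowers_le.mpr (hyP i)
  have hcardl : ∀ i, Nat.card (ℓ i) = p := fun i => by
    haveI := Fact.mk hp
    rw [Nat.card_zpowers]
    exact orderOf_eq_prime (hyp i) (hyne i)
  have hpw : Pairwise fun i j : Fin q => ∀ a b : ↥M ⧸ C, a ∈ ℓ i → b ∈ ℓ j → Commute a b :=
    fun i j _ a b ha hb' => hcomm a (hle i ha) b (hle j hb')
  let Φ : (∀ i, ℓ i) →* ↥M ⧸ C := Subgroup.noncommPiCoprod hpw
  have hrange : Φ.range = P := by
    rw [Subgroup.noncommPiCoprod_range]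
    refine le_antisymm (iSup_le hle) ?_
    rintro _ ⟨z, hz, rfl⟩
    have hz' : (z : G) ∈ H := hz
    obtain ⟨c, hc⟩ := L.bij.2 (f z)
    have hsum : ∀ s : Finset (Fin q), ∃ z' : ↥M, (z' : G) ∈ H ∧
        f z' = ∑ i ∈ s, (c i).val • (T ^ (i : ℕ)) h ∧ mk z' ∈ ⨆ i, ℓ i := fun s => by
      induction s using Finset.induction_on with
      | empty => exact ⟨1, H.one_mem, by simp [m.f_one], by rw [map_one]; exact one_mem _⟩
      | insert a s has ih =>
        obtain ⟨z', h1, h2, h3⟩ := ih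
        refine ⟨(⟨x a, d.H_le (hxH a)⟩ : M) ^ (c a).val * z', H.mul_mem (H.pow_mem (hxH a) _) h1, ?_, ?_⟩
        · rw [Finset.sum_insert has, ← h2, ← hfx a, ← m.f_pow (hxH a), ← m.f_mul _ (H.pow_mem (hxH a) _) _ h1]
          rfl
        · rw [map_mul, map_pow]
          exact mul_mem (pow_mem (le_iSup ℓ a (mem_zpowers (y a))) _) h3
    obtain ⟨z', h1, h2, h3⟩ := hsum Finset.univ
    rw [show z = z' from Subtype.ext (finj _ hz' _ h1 (by rw [h2]; exact hc.symm))]
    exact h3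
  let Ψ : (∀ i, ℓ i) →* P := Φ.codRestrict P fun z => hrange.le ⟨z, rfl⟩
  have hΨ : Function.Bijective Ψ := by
    refine (Nat.bijective_iff_surjective_and_card _).mpr ⟨fun z => ?_, ?_⟩
    · obtain ⟨w', hw'⟩ := hrange.ge z.2
      exact ⟨w', Subtype.ext hw'⟩
    · rw [Nat.card_pi, Finset.prod_congr rfl (fun i _ => hcardl i), Finset.prod_const, Finset.card_univ,
        Fintype.card_fin, hP, hE.card_map_eq hE.inf_HC, hE.card_H]
  refine ⟨ℓ, Nat.card lam.range, ?_⟩
  refine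
    { le := hle
      card := hcardl
      U_norm := fun i => conj_mem_zpowers_normalizer ?_
      prod := ⟨MulEquiv.ofBijective Ψ hΨ, fun i z => Subgroup.noncommPiCoprod_mulSingle i z⟩
      index := fun i => ?_
      trans := fun i j => ?_
      odd := ha1
      three_le := ha2
      two_mul := ha3 (k.prime_unique d hp hcard).2.2.1
      bound := ?_ }
  · rintro _ ⟨u, hu, rfl⟩
    set n := (lam ((σ ^ (i : ℕ))⁻¹ (π u)) : ZMod p).val with hn
    have h1 : (u : G) * x i * (u : G)⁻¹ = x i ^ n := finj _ (hconjH u i) _ (H.pow_mem (hxH i) n) (by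
      rw [hfconj u hu i, m.f_pow (hxH i)])
    rw [hy]
    simp only [← map_mul, ← map_inv]
    rw [show u * ⟨x i, d.H_le (hxH i)⟩ * u⁻¹ = (⟨x i, d.H_le (hxH i)⟩ : M) ^ n from Subtype.ext h1, map_pow]
    exact pow_mem (mem_zpowers _) n
  · rw [← relIndex_comap]
    set g : ↥(U.subgroupOf M) →* (ZMod p)ˣ :=
      { toFun := fun u => lam ((σ ^ (i : ℕ))⁻¹ (π (u : M)))
        map_one' := by simp [m.π_map_one]
        map_mul' := fun u v => by
          show lam ((σ ^ (i : ℕ))⁻¹ (π (((u : M) : G) * ((v : M) : G)))) = _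
          rw [m.π_mul ((u : M) : G) (u.2 :) ((v : M) : G) (v.2 :), map_mul, map_mul] } with hg
    have hker : (((U.subgroupOf M).map mk ⊓ centralizer (ℓ i : Set _)).comap mk).subgroupOf (U.subgroupOf M) =
        g.ker := by
      ext u
      rw [mem_subgroupOf, mem_comap, mem_inf, MonoidHom.mem_ker]
      have hiff : (lam ((σ ^ (i : ℕ))⁻¹ (π (u : M))) = 1) ↔ f ((u : M) * x i * ((u : M) : G)⁻¹) = f (x i) := by
        rw [hfconj u u.2 i, nsmul_eq_self_iff hp (hfx i ▸ L.line_ne_zero m.lin i) (m.lin.exp _), Units.val_eq_one]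
      constructor
      · rintro ⟨-, h2⟩
        refine hiff.mpr (congrArg f ?_)
        have h3 := h2 (y i) (mem_zpowers _)
        have h4 : mk ((u : M) * ⟨x i, d.H_le (hxH i)⟩ * (u : M)⁻¹ * (⟨x i, d.H_le (hxH i)⟩ : M)⁻¹) = 1 := by
          rw [map_mul, map_mul, map_mul, map_inv, map_inv, ← h3, mul_inv_cancel_right]
          exact mul_inv_cancel (y i)
        have h5 := congrArg Subtype.val (hinf _ (H.mul_mem (hconjH (u : M) i) (H.inv_mem (hxH i))) h4)
        exact mul_inv_eq_one.mp h5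
      · intro e
        refine ⟨mem_map_of_mem _ u.2, fun z hz => ?_⟩
        obtain ⟨n, rfl⟩ := mem_zpowers_iff.mp hz
        have h1 : Commute ((u : M) : G) (x i) := by
          have := finj _ (hconjH (u : M) i) _ (hxH i) (hiff.mp e)
          rw [mul_inv_eq_iff_eq_mul] at this
          exact this
        have h2 : Commute (mk (u : M)) (y i) := by
          show mk _ * mk _ = mk _ * mk _
          rw [← map_mul, ← map_mul]
          exact congrArg mk (Subtype.ext h1.eq)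
        exact (h2.zpow_right n).eq.symm
    rw [relIndex, hker, index_ker]
    congr 1
    have : g.range = lam.range := by
      ext z
      constructor
      · rintro ⟨u, rfl⟩; exact ⟨_, rfl⟩
      · rintro ⟨a, rfl⟩
        obtain ⟨u, hu, hua⟩ := m.π_surj ((σ ^ (i : ℕ)) a)
        refine ⟨⟨⟨u, d.U_le hu⟩, hu⟩, ?_⟩
        show lam ((σ ^ (i : ℕ))⁻¹ (π u)) = lam a
        rw [hua]
        exact congrArg lam ((σ ^ (i : ℕ)).symm_apply_apply a)
    rw [this]
  · set n := (j : ℕ) + q - i with hn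
    have hwn : ∀ n : ℕ, ∀ z ∈ H, w ^ n * z * (w ^ n)⁻¹ ∈ H ∧ f (w ^ n * z * (w ^ n)⁻¹) = (T ^ n) (f z) := by
      intro n
      induction n with
      | zero => exact fun z hz => ⟨by simpa using hz, by simp⟩
      | succ n ih =>
        intro z hz
        obtain ⟨e1, e2⟩ := ih z hz
        have e : w ^ (n + 1) * z * (w ^ (n + 1))⁻¹ = w * (w ^ n * z * (w ^ n)⁻¹) * w⁻¹ := by
          rw [pow_succ']; group
        refine ⟨e ▸ (mem_normalizer_iff.mp m.w_norm _).mp e1, ?_⟩
        rw [e, m.act_w _ e1, e2, pow_succ']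
        rfl
    refine ⟨mk ⟨w ^ n, d.W_le (W1.pow_mem hw n)⟩, mem_map_of_mem _ (W1.pow_mem hw n), ?_⟩
    show zpowers (y j) = (zpowers (y i)).map _
    rw [MonoidHom.map_zpowers]
    congr 1
    show mk _ = mk _ * mk _ * (mk _)⁻¹
    rw [← map_inv, ← map_mul, ← map_mul]
    refine congrArg mk (Subtype.ext ?_)
    refine finj _ (hxH j) _ (hwn n _ (hxH i)).1 ?_
    refine Eq.trans ?_ (hwn n _ (hxH i)).2.symm
    rw [hfx, hfx, ← S9.mul_apply', ← pow_add, show n + (i : ℕ) = (j : ℕ) + q by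
      have := i.2; omega, pow_add, m.lin.T_pow, mul_one]
  · rw [hE.uBar_eq, relIndex_subgroupOf d.U_le, ← m.card_A]
    exact Nat.le_of_dvd (pow_pos Nat.card_pos _) (L.card_dvd m.lin)

end CfsgLib.OddOrder.S11
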