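import Cfsg.Agent.Lib.OddOrder.S11.Eight
import Cfsg.Agent.S1531

/-!
Peterfalvi (11.9): `p < q`, and `H` has no system of lines: the Galois case holds.
-/

set_option autoImplicit false
set_option linter.unusedSectionVars false
set_option linter.style.haveILetI false

namespace CfsgLib.OddOrder.S11

open Cfsg CfsgLib.CharTheory CfsgLib.OddOrder.Found CfsgLib.OddOrder.Ten CfsgLib.OddOrder.S9b

universe u

variable {G : Type u} [Group G] [Fintype G] {M : Subgroup G} [Fintype M]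

namespace ElevenData

variable {K H U C W₁ W₂ : Subgroup M} {p q : ℕ} {Hd : G → Subgroup G} (D : ElevenData M K H U C W₁ W₂ p q Hd)
include D

/-- The irreducible members of `S(C)` of degree `q a`. -/
def Mid (_D : ElevenData M K H U C W₁ W₂ p q Hd) (a : ℕ) : Set (M → ℂ) :=
  {φ | φ ∈ inducedIrrAbove K C ∧ IsIrrCharacter M φ ∧ φ 1 = ((q * a : ℕ) : ℂ)}

theorem mid_sub (a : ℕ) : D.Mid a ⊆ inducedIrrAbove K (⊥ : Subgroup M) :=
  fun _ hφ => inducedIrrAbove_subset K C hφ.1

theorem mid_conj {a : ℕ} {φ : M → ℂ} (hφ : φ ∈ D.Mid a) : conjFun φ ∈ D.Mid a :=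
  ⟨inducedIrrAbove_conj K C hφ.1, isIrrCharacter_conjChar hφ.2.1, by
    show (starRingEnd ℂ) (φ 1) = _
    rw [hφ.2.2, map_natCast]⟩

theorem mid_galois {a : ℕ} (s : ℂ ≃+* ℂ) {φ : M → ℂ} (hφ : φ ∈ D.Mid a) : (fun x => s (φ x)) ∈ D.Mid a :=
  ⟨galois_mem s hφ.1, isIrr_galois s hφ.2.1, by rw [show (fun x => s (φ x)) 1 = s (φ 1) from rfl, hφ.2.2, map_natCast]⟩

theorem irr_ne_mu {φ : M → ℂ} (hφ : φ ∈ inducedIrrAbove K (⊥ : Subgroup M)) (hi : IsIrrCharacter M φ)
    (ω : WLin W₁ W₂) : φ ≠ D.ten.prime.mu ω := by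
  classical
  haveI := Fintype.ofFinite (W₁ →* ℂˣ)
  obtain ⟨θ, hθ, -, -, rfl⟩ := hφ
  refine D.ten.prime.indFun_ne_mu hθ (fun b e => ?_) ω
  have h1 := classInner_irr_self hi
  rw [e, D.ten.prime.indFun_colChar, D.ten.prime.classInner_muSum, if_pos rfl, Nat.cast_eq_one,
    D.hyp.card_W₁] at h1
  exact D.hyp.hq.ne_one h1

variable [Fintype (W₁ →* ℂˣ)] [Fintype (W₂ →* ℂˣ)] [DecidableEq (W₁ →* ℂˣ)] [DecidableEq (W₂ →* ℂˣ)]

theorem part_mid {a : ℕ} (ha : a ≠ 1) {φ : M → ℂ} (hφ : φ ∈ D.Mid a) : D.Part φ a where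
  gen := isGenChar_of_char (isCharacter_of_irr hφ.2.1)
  orth := fun z hz => classInner_irr_ne hφ.2.1 (D.low_irr hz) fun e => ha (by
    have h1 := D.low_deg hz
    rw [← e, hφ.2.2, Nat.cast_inj] at h1
    exact Nat.eq_of_mul_eq_mul_left D.hyp.hq.pos (h1.trans (mul_one q).symm))
  deg := by rw [hφ.2.2, Nat.cast_mul, mul_comm]
  row := fun x hx hx1 => mem_off_kernel D.ten (D.mid_sub a hφ) fun hk => hx1 (Subgroup.mem_bot.mp
    (D.ten.prime.inf_eq_bot ▸ Subgroup.mem_inf.mpr ⟨hk, hx⟩))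

theorem mid_alpha {a : ℕ} {φ : M → ℂ} (hφ : φ ∈ D.Mid a) (b : W₂ →* ℂˣ) :
    classInner (D.ten.prime.mu (D.ten.prime.col b) - D.ten.prime.mu 1) φ = 0 := by
  rw [classInner_sub_left,
    classInner_irr_ne (D.ten.prime.isIrr_mu _) hφ.2.1 (D.irr_ne_mu (D.mid_sub a hφ) hφ.2.1 _).symm,
    classInner_irr_ne (D.ten.prime.isIrr_mu _) hφ.2.1 (D.irr_ne_mu (D.mid_sub a hφ) hφ.2.1 _).symm, sub_zero]

theorem p_lt_q : p < q := by
  classical
  haveI : Fintype D.Low := D.low_finite.fintype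
  obtain ⟨τ₁, h1, h2⟩ := D.exists_ext
  exact (D.caseII ⟨τ₁, h1, h2, _, D.low_nonempty.choose_spec⟩).2

variable [Fintype D.Low] [DecidableEq D.Low]

/-- The images of the members of degree `q a` in the lattice. -/
noncomputable def vMid {a : ℕ} {τ : (M → ℂ) → (G → ℂ)} (hτ : IsLinearIsometryOn (zspan (D.Mid a)) τ)
    (k : D.Mid a) : vChar G := ⟨τ k, hτ.2.2.2 _ (Submodule.subset_span k.2)⟩

theorem fam'_orth (E : D.Ext) {a : ℕ} [Fintype (D.Mid a)] [DecidableEq (D.Mid a)] {τ : (M → ℂ) → (G → ℂ)}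
    (hτ : IsLinearIsometryOn (zspan (D.Mid a)) τ) (hagree : ∀ α ∈ zspanOn (D.Mid a) {1}ᶜ, τ α = D.ten.tau α)
    (hcross : ∀ (z : D.Low) (k : D.Mid a), classInner (E.tau1 z) (τ k) = 0) :
    ∀ x y, (vForm G).B ((D.frame E).fam' (D.vMid hτ) x) ((D.frame E).fam' (D.vMid hτ) y) =
      if x = y then 1 else 0 := by
  have heta : ∀ (k : D.Mid a) (i : W₁ →* ℂˣ) (l : W₂ →* ℂˣ), classInner (τ k) (D.ten.eta i l) = 0 :=
    fun k i l => image_orth_eta D.ten (D.mid_sub a) (fun _ hφ => hφ.2.1) (fun _ hφ => D.mid_conj hφ) hτ hagree k.2 i l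
  rintro (x | k) (y | k')
  · simp only [Frame.fam', Sum.elim_inl, Sum.inl.injEq]
    exact (D.frame E).fam_orth x y
  · simp only [Frame.fam', Sum.elim_inl, Sum.elim_inr, reduceCtorEq, if_false]
    refine vForm_eq ?_
    rw [Int.cast_zero]
    rcases x with ⟨i, l⟩ | z
    · show classInner (D.ten.eta i l) (τ k') = 0
      rw [← classInner_comm, heta, map_zero]
    · exact hcross z k'
  · simp only [Frame.fam', Sum.elim_inl, Sum.elim_inr, reduceCtorEq, if_false]
    refine vForm_eq ?_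
    rw [Int.cast_zero]
    rcases y with ⟨i, l⟩ | z
    · exact heta k i l
    · show classInner (τ k) (E.tau1 z) = 0
      rw [← classInner_comm, hcross, map_zero]
  · simp only [Frame.fam', Sum.elim_inr, Sum.inr.injEq]
    refine vForm_eq ?_
    show classInner (τ k) (τ k') = _
    rw [hτ.2.2.1 _ (Submodule.subset_span k.2) _ (Submodule.subset_span k'.2), classInner_irr k.2.2.1 k'.2.2.1]
    by_cases e : k = k'
    · rw [if_pos e, if_pos (congrArg Subtype.val e), Int.cast_one]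
    · rw [if_neg e, if_neg (fun h => e (Subtype.ext h)), Int.cast_zero]

theorem alpha_x (E : D.Ext) {b : W₂ →* ℂˣ} (hb : b ≠ 1) (z : D.Low) :
    (vForm G).B (D.vAlpha E b) ((D.frame E).t z) =
      if z = (D.frame E).z0 then 1 - (Fintype.card D.Low : ℤ) else 1 :=
  (D.frame E).caseII_x (D.isPhi E) (D.caseII E).1 (D.isAlpha E hb) (D.alpha_phi E hb) z

/-- **(11.9)(c)** No system of lines. -/
theorem no_lineSystem [C.Normal] [Fintype (↥M ⧸ C)] {ℓ : Fin q → Subgroup (↥M ⧸ C)} {a : ℕ}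
    (hL : IsLineSystem (H.map (QuotientGroup.mk' C)) (U.map (QuotientGroup.mk' C))
      (W₁.map (QuotientGroup.mk' C)) p q ℓ a) : False := by
  classical
  set u := C.relIndex U with hu
  obtain ⟨hnq, hneven, hn2⟩ := D.nLow_facts
  have hpq := D.p_lt_q
  have hp3 : 3 ≤ p := D.hyp.card_W₂ ▸ D.ten.prime.three_le₂
  have hap : 2 * a ≤ p - 1 := Nat.le_of_dvd (by omega) hL.two_mul
  have ha3 := hL.three_le
  have hau : a ≠ u := by
    intro e
    have : q ≤ D.nLow * q := Nat.le_mul_of_pos_left q (by omega)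
    omega
  obtain ⟨Y₀, hY₀, hYcard⟩ := D.hyp.exists_low hL hau
  have hfin : (D.Mid a).Finite := (inducedIrrAbove_finite K C).subset fun φ hφ => hφ.1
  haveI : Fintype (D.Mid a) := hfin.fintype
  have hcard : 2 * u ≤ Fintype.card (D.Mid a) * a := by
    refine hYcard.trans (Nat.mul_le_mul_right a ?_)
    rw [← Fintype.card_coe]
    exact Fintype.card_le_of_injective (fun y => ⟨y.1, (hY₀ _ y.2).1, (hY₀ _ y.2).2.1, (hY₀ _ y.2).2.2.1⟩)
      fun x y e => Subtype.ext (Subtype.ext_iff.mp e :)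
  have hN : D.nLow < Fintype.card (D.Mid a) := by
    by_contra hle
    push Not at hle
    have h1 : Fintype.card (D.Mid a) * a ≤ D.nLow * q := Nat.mul_le_mul hle (by omega)
    omega
  obtain ⟨k₀⟩ : Nonempty (D.Mid a) := Fintype.card_pos_iff.mp (by omega)
  obtain ⟨b, hb⟩ := D.exists_ne_one₂
  obtain ⟨R, hR, -⟩ := exists_system D.ten
  obtain ⟨ζ, hζ⟩ := D.low_nonempty
  have hdisj : Disjoint D.Low (D.Mid a) := Set.disjoint_left.mpr fun φ h1 h2 => by
    have e := D.low_deg h1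
    rw [h2.2.2, Nat.cast_inj] at e
    have := Nat.eq_of_mul_eq_mul_left D.hyp.hq.pos (e.trans (mul_one q).symm)
    omega
  have hone : a ≠ 1 := by omega
  -- the inner products with `α`
  have hinner : ∀ (E : D.Ext) (φ : M → ℂ) (hφ : φ ∈ D.Mid a),
      (vForm G).B (D.vAlpha E b) (D.vTau E (D.part_mid hone hφ)) = (Fintype.card D.Low : ℤ) * a := fun E φ hφ => by
    rw [vAlpha, dif_neg hb, D.inner_vTau E (D.part_alpha hb) (D.part_mid hone hφ) (k := 0)
      (by rw [D.mid_alpha hφ, Int.cast_zero]), zero_add, D.card_low]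
  have hsub : D.Low ∪ D.Mid a ⊆ inducedIrrAbove K (⊥ : Subgroup M) := Set.union_subset D.low_sub (D.mid_sub a)
  have hirrU : ∀ φ ∈ D.Low ∪ D.Mid a, IsIrrCharacter M φ := fun φ hφ =>
    hφ.elim (fun h => D.low_irr h) fun h => h.2.1
  by_cases hbig : 2 * a < D.nLow
  · -- one coherent set
    have hsysU := system_mono hR hsub ⟨ζ, Or.inl hζ⟩
      fun φ hφ => hφ.imp (fun h => D.low_conj h) fun h => D.mid_conj h
    have hUfin : (D.Low ∪ D.Mid a).Finite := D.low_finite.union hfin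
    obtain ⟨τ₀, h₀, h₀'⟩ := D.exists_ext
    have hlowcoh : IsCoherent (↑D.low_finite.toFinset : Set (M → ℂ)) {1}ᶜ D.ten.tau := by
      rw [Set.Finite.coe_toFinset]
      refine ⟨⟨ζ - conjFun ζ, cs_sub_conj_mem (system_mono hR D.low_sub ⟨ζ, hζ⟩ fun φ hφ => D.low_conj hφ) hζ,
        sub_ne_zero.mpr (hR.conj_ne ζ (D.low_sub hζ)).symm⟩, τ₀, h₀, h₀'⟩
    choose! dd hdd using fun φ (hφ : φ ∈ D.Low ∪ D.Mid a) => char_one_eq_natCast (hsysU.isCharacter φ hφ)
    have hddlow : ∀ φ ∈ D.Low, dd φ = q := fun φ hφ => by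
      have h1 := hdd φ (Or.inl hφ)
      rw [D.low_deg hφ, Nat.cast_inj] at h1
      exact h1.symm
    obtain ⟨-, τ, hτ, hτa⟩ := coherent_extend_all hsysU dd (fun _ => 1) hdd
      (fun φ hφ => by rw [classInner_irr_self (hirrU φ hφ), Nat.cast_one]) hUfin.toFinset hUfin.coe_toFinset
      D.low_finite.toFinset (by rw [Set.Finite.coe_toFinset]; exact Set.subset_union_left)
      (fun φ hφ => D.low_finite.mem_toFinset.mpr (D.low_conj (D.low_finite.mem_toFinset.mp hφ))) hlowcoh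
      (χ₁ := ζ) (D.low_finite.mem_toFinset.mpr hζ)
      (fun χ hχ hχB => by
        have hm : χ ∈ D.Mid a := hχ.resolve_left fun h => hχB (D.low_finite.mem_toFinset.mpr h)
        have h1 := hdd χ hχ
        rw [hm.2.2, Nat.cast_inj] at h1
        rw [← h1, hddlow ζ hζ]
        exact dvd_mul_right q a)
      (fun χ hχ hχB => by
        have hm : χ ∈ D.Mid a := hχ.resolve_left fun h => hχB (D.low_finite.mem_toFinset.mpr h)
        have h1 := hdd χ hχ
        rw [hm.2.2, Nat.cast_inj] at h1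
        rw [← h1, hddlow ζ hζ, Finset.sum_congr rfl fun φ hφ => by
          rw [hddlow φ (D.low_finite.mem_toFinset.mp hφ)], Finset.sum_const, nsmul_eq_mul]
        have h2 : (2 * a : ℝ) < (D.low_finite.toFinset.card : ℝ) := by exact_mod_cast hbig
        have hq0 : (0 : ℝ) < (q : ℝ) ^ 2 := by have := D.hyp.hq.pos; positivity
        push_cast
        calc 2 * ((q : ℝ) * a) * q = (2 * a) * (q : ℝ) ^ 2 := by ring
          _ < (D.low_finite.toFinset.card : ℝ) * (q : ℝ) ^ 2 := mul_lt_mul_of_pos_right h2 hq0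
          _ = _ := by rw [div_one])
    let E : D.Ext := ⟨τ, isometryOn_mono (Submodule.span_mono Set.subset_union_left) hτ,
      fun α hα => hτa α ⟨Submodule.span_mono Set.subset_union_left hα.1, hα.2⟩, ζ, hζ⟩
    have hτY : IsLinearIsometryOn (zspan (D.Mid a)) τ :=
      isometryOn_mono (Submodule.span_mono Set.subset_union_right) hτ
    have horth := D.fam'_orth E hτY (fun α hα => hτa α ⟨Submodule.span_mono Set.subset_union_right hα.1, hα.2⟩)
      fun z k => by
        show classInner (τ z) (τ k) = 0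
        rw [hτ.2.2.1 _ (Submodule.subset_span (Or.inl z.2)) _ (Submodule.subset_span (Or.inr k.2))]
        exact classInner_irr_ne (D.low_irr z.2) k.2.2.1 (hdisj.ne_of_mem z.2 k.2)
    refine (D.frame E).no_large_extension (D.isAlpha E hb) (D.alpha_x E hb) (D.vMid hτY) horth (a : ℤ)
      (fun k => ?_) ?_
    · rw [← hinner E k k.2]
      congr 1
      refine Subtype.ext ?_
      rw [AddSubgroup.coe_sub, AddSubgroup.coe_zsmul]
      show τ k - (a : ℤ) • τ ζ = D.ten.tau ((k : M → ℂ) - (a : ℂ) • ζ)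
      rw [← hτ.2.1 ζ (Submodule.subset_span (Or.inl hζ)) (a : ℤ),
        ← isometryOn_sub hτ (Submodule.subset_span (Or.inr k.2))
          (Submodule.smul_mem _ _ (Submodule.subset_span (Or.inl hζ)))]
      have hmem : (k : M → ℂ) - (a : ℤ) • ζ ∈ zspanOn (D.Low ∪ D.Mid a) {1}ᶜ :=
        ⟨Submodule.sub_mem _ (Submodule.subset_span (Or.inr k.2))
          (Submodule.smul_mem _ _ (Submodule.subset_span (Or.inl hζ))), fun x hx => by
            rw [not_not.mp hx, Pi.sub_apply, Pi.smul_apply, k.2.2.2, D.low_deg hζ, zsmul_eq_mul]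
            push_cast
            ring⟩
      rw [hτa _ hmem, natCast_zsmul, Nat.cast_smul_eq_nsmul]
    · rw [D.card_low]
      have h1 : 2 * u * a ≤ Fintype.card (D.Mid a) * a ^ 2 := by
        rw [sq, ← mul_assoc]
        exact Nat.mul_le_mul_right a hcard
      have h2 : D.nLow + 1 ≤ D.nLow * q + 1 :=
        Nat.add_le_add_right (Nat.le_mul_of_pos_right _ D.hyp.hq.pos) 1
      have h3 : 2 * u ≤ 2 * u * a := Nat.le_mul_of_pos_right _ (by omega)
      have h4 : D.nLow + 1 < Fintype.card (D.Mid a) * a ^ 2 := by omega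
      exact_mod_cast h4
  · -- two coherent sets
    obtain ⟨τ₁, h1, h2⟩ := D.exists_ext
    set E : D.Ext := ⟨τ₁, h1, h2, ζ, hζ⟩
    have hsysY := system_mono hR (D.mid_sub a) ⟨_, k₀.2⟩ fun φ hφ => D.mid_conj hφ
    obtain ⟨-, τ, hτ, hτa⟩ := Cfsg.Agent.S1517.result (D.Mid a) D.ten.tau R hsysY
      fun φ hφ ψ hψ => by rw [hφ.2.2, hψ.2.2]
    have hcross := (Cfsg.Agent.S1531.result M (D.Low ∪ D.Mid a) D.Low (D.Mid a) hirrU Set.subset_union_left
      Set.subset_union_right hdisj ⟨ζ, hζ, _, D.low_conj hζ, (hR.conj_ne _ (D.low_sub hζ)).symm⟩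
      ⟨_, k₀.2, _, D.mid_conj k₀.2, (hR.conj_ne _ (D.mid_sub a k₀.2)).symm⟩ D.ten.tau
      (isometryOn_mono (E := zspanOn (inducedIrrAbove K (⊥ : Subgroup M)) {1}ᶜ)
        (fun _ ha => ⟨Submodule.span_mono hsub ha.1, ha.2⟩) hR.isometry)
      (fun θ hθ => hR.map_one θ ⟨Submodule.span_mono hsub hθ.1, hθ.2⟩) τ₁ τ h1 h2 hτ hτa).1
    have horth := D.fam'_orth E hτ hτa fun z k => hcross z z.2 k k.2
    have hdiff : ∀ k : D.Mid a, (k : M → ℂ) - k₀ ∈ zspanOn (D.Mid a) {1}ᶜ := fun k =>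
      ⟨Submodule.sub_mem _ (Submodule.subset_span k.2) (Submodule.subset_span k₀.2), fun x hx => by
        rw [not_not.mp hx, Pi.sub_apply, k.2.2.2, k₀.2.2.2, sub_self]⟩
    have hpair : ∀ {P : M → ℂ} {c : ℕ} (hP : D.Part P c) (k : D.Mid a),
        (((vForm G).B (D.vTau E hP) (D.vMid hτ k) : ℤ) : ℂ) - (((vForm G).B (D.vTau E hP) (D.vMid hτ k₀) : ℤ) : ℂ) =
          classInner P (k : M → ℂ) - classInner P (k₀ : M → ℂ) := fun {P c} hP k => by
      rw [vForm_cast, vForm_cast]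
      show classInner (D.ten.tau (P - (c : ℂ) • ζ)) (τ k) - classInner (D.ten.tau (P - (c : ℂ) • ζ)) (τ k₀) = _
      rw [← classInner_sub_right, ← isometryOn_sub hτ (Submodule.subset_span k.2) (Submodule.subset_span k₀.2),
        hτa _ (hdiff k), D.ten.tau_inner (D.diff_supported E hP) (span_supported D.ten (D.mid_sub a) (hdiff k)).1,
        classInner_sub_left, classInner_sub_right, classInner_sub_right, classInner_smul_left, classInner_smul_left,
        classInner_irr_ne (D.low_irr hζ) k.2.2.1 (hdisj.ne_of_mem hζ k.2),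
        classInner_irr_ne (D.low_irr hζ) k₀.2.2.1 (hdisj.ne_of_mem hζ k₀.2)]
      ring
    set hk := D.part_mid hone k₀.2
    refine (D.frame E).no_small_extension (D.isAlpha E hb) (D.alpha_x E hb) (Γ := D.vTau E hk)
      (by rw [D.card_I, D.card_J]; exact hpq) (a : ℤ) (by omega) (Int.odd_coe_nat a |>.mpr hL.odd)
      (by rw [D.card_J]; omega) (by rw [D.card_low]; omega) (D.vMid hτ) k₀ horth (by rw [D.card_low]; exact hN)
      ?_ ?_ ?_ ?_ ?_ (hinner E _ k₀.2)
    · refine ⟨(vForm G).B (D.vAlpha E b) (D.vMid hτ k₀), fun k => ?_⟩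
      rw [vAlpha, dif_neg hb]
      refine Int.cast_injective (α := ℂ) (sub_eq_zero.mp ?_)
      rw [hpair (D.part_alpha hb) k, D.mid_alpha k.2, D.mid_alpha k₀.2, sub_zero]
    · rw [D.inner_vTau E hk hk (k := 1) (by rw [classInner_irr_self k₀.2.2.1, Int.cast_one])]
      ring
    · obtain ⟨a₀, ha₀⟩ := D.exists_ne_one₁
      obtain ⟨b₀, hb₀⟩ := D.exists_ne_one₂
      have hne1 : ((k₀ : D.Mid a) : M → ℂ) ≠ fun _ => 1 := by
        rw [← D.ten.prime.mu_one.1]
        exact D.irr_ne_mu (D.mid_sub a k₀.2) k₀.2.2.1 1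
      have h11 : D.tab E hk 1 1 = 0 := D.tab_one E _ (by
        rw [classInner_irr_ne k₀.2.2.1 isIrrCharacter_one hne1, Int.cast_zero])
      have hfix : ∀ s : ℂ ≃+* ℂ, FixRoots s (Nat.card K) →
          (fun x => s ((k₀ : M → ℂ) x)) = (k₀ : M → ℂ) := fun s hs => by
        haveI := Fintype.ofFinite K
        obtain ⟨θ, hθ, -, -, e⟩ := k₀.2.1
        rw [e, indFun_galois]
        congr 1
        funext x
        exact fix_char hs dvd_rfl (isCharacter_of_irr hθ) x
      have hcol : ∀ l, l ≠ 1 → D.tab E hk 1 l = D.tab E hk 1 b₀ := fun l hl => by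
        obtain ⟨s, hs, e⟩ := D.exists_moving_col hb₀ hl
        refine Int.cast_injective (α := ℂ) ?_
        rw [tab_cast, tab_cast, ← D.table_galois E hk s (fun i j => ?_) 1 b₀, e, wLinMap_one]
        rw [← hτa _ (hdiff ⟨_, D.mid_galois s k₀.2⟩),
          isometryOn_sub hτ (Submodule.subset_span (D.mid_galois s k₀.2)) (Submodule.subset_span k₀.2),
          classInner_sub_left,
          image_orth_eta D.ten (D.mid_sub a) (fun _ hφ => hφ.2.1) (fun _ hφ => D.mid_conj hφ) hτ hτa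
            (D.mid_galois s k₀.2) i j,
          image_orth_eta D.ten (D.mid_sub a) (fun _ hφ => hφ.2.1) (fun _ hφ => D.mid_conj hφ) hτ hτa k₀.2 i j,
          sub_zero]
      refine ⟨D.tab E hk a₀ 1, D.tab E hk 1 b₀, fun i l => ?_⟩
      show D.tab E hk i l = (if i = 1 then 0 else _) + if l = 1 then 0 else _
      have hadd := D.tab_additive E hk (fun x hx => mem_off_kernel D.ten (D.mid_sub a k₀.2) hx) i l
      rw [h11, add_zero] at hadd
      rw [hadd]
      congr 1
      · by_cases hi : i = 1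
        · rw [if_pos hi, hi, h11]
        · rw [if_neg hi, D.tab_rows E hk hfix ha₀ hi 1]
      · by_cases hl : l = 1
        · rw [if_pos hl, hl, h11]
        · rw [if_neg hl, hcol l hl]
    · obtain ⟨x, hx⟩ := D.tcoef E hk
      exact ⟨x, fun z => (hx z).trans (by simp only [frame]; congr)⟩
    · refine ⟨(vForm G).B (D.vTau E hk) (D.vMid hτ k₀) - 1, fun k => ?_⟩
      by_cases e : k = k₀
      · rw [if_pos e, e, sub_add_cancel]
      · rw [if_neg e]
        refine Int.cast_injective (α := ℂ) ?_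
        have h := hpair hk k
        rw [classInner_irr_self k₀.2.2.1,
          classInner_irr_ne k₀.2.2.1 k.2.2.1 (fun h' => e (Subtype.ext h'.symm))] at h
        push_cast
        linear_combination h

end ElevenData

end CfsgLib.OddOrder.S11
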