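import Cfsg.Agent.Lib.OddOrder.S9a.Linear

/-!
Peterfalvi (11.7): the action of `U` on `H/H'` leaves no non-zero alternating bilinear map invariant.
-/

set_option autoImplicit false

universe u v

namespace CfsgLib.OddOrder.S11

open CfsgLib.OddOrder.S9

variable {p q : ℕ} {V : Type u} [AddCommGroup V] {A : Type u} [CommGroup A] [Finite V] [Finite A]
  {ρ : A →* AddMonoid.End V} {σ : MulAut A} {T : AddMonoid.End V}

theorem form_zero_lines (d : LinearData p q ρ σ T) {h : V} {lam : A →* (ZMod p)ˣ}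
    (L : IsLineBasis p q ρ σ T h lam) (hqodd : Odd q) {Z : Type v} [AddCommGroup Z] (B : V →+ V →+ Z)
    (halt : ∀ x, B x x = 0) (hinv : ∀ a x y, B (ρ a x) (ρ a y) = B x y) (x y : V) : B x y = 0 := by
  haveI := Fact.mk d.hp
  set g : ℕ → A → (ZMod p)ˣ := fun m a => lam ((σ ^ m)⁻¹ a) with hg
  have hmod : ∀ m a, g m a = g (m % q) a := fun m a => by
    have : σ ^ m = σ ^ (m % q) := by
      conv_lhs => rw [← Nat.div_add_mod m q, pow_add, pow_mul, d.sigma_pow, one_pow, one_mul]
    simp only [hg, this]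
  have hshift : ∀ m s a, g (m + s) a = g m ((σ ^ s)⁻¹ a) := fun m s a => by
    simp only [hg, ← MulAut.mul_apply, ← mul_inv_rev, ← pow_add, Nat.add_comm s m]
  have hbasis : ∀ i k : Fin q, B ((T ^ (i : ℕ)) h) ((T ^ (k : ℕ)) h) = 0 := by
    intro i k
    by_contra hne
    have hik : i ≠ k := fun e => hne (by rw [e, halt])
    have hprod : ∀ a, g i a * g k a = 1 := by
      intro a
      set z := B ((T ^ (i : ℕ)) h) ((T ^ (k : ℕ)) h) with hz
      set m := (g i a : ZMod p).val with hm
      set m' := (g k a : ZMod p).val with hm'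
      have h1 : (m' * m) • z = z := by
        have e := hinv a ((T ^ (i : ℕ)) h) ((T ^ (k : ℕ)) h)
        rw [L.act, L.act] at e
        simp only [map_nsmul, AddMonoidHom.coe_smul, Pi.smul_apply] at e
        rw [smul_smul] at e
        exact e
      have hpz : p • z = 0 := by
        have e : B (p • (T ^ (i : ℕ)) h) ((T ^ (k : ℕ)) h) = p • z := by
          simp only [map_nsmul, AddMonoidHom.coe_smul, Pi.smul_apply, hz]
        rw [← e, d.exp, map_zero, AddMonoidHom.zero_apply]
      have hord : addOrderOf z = p := addOrderOf_eq_prime hpz hne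
      have h2 : m' * m ≡ 1 [MOD p] := by
        rw [← hord]
        exact nsmul_eq_nsmul_iff_modEq.mp (by rw [h1, one_nsmul])
      have h3 := (ZMod.natCast_eq_natCast_iff _ _ _).mpr h2
      rw [Nat.cast_mul, Nat.cast_one, hm, hm', ZMod.natCast_zmod_val, ZMod.natCast_zmod_val, mul_comm] at h3
      exact Units.ext (by simpa using h3)
    obtain ⟨s, hs⟩ : ∃ s, ((i : ℕ) + s) % q = k := by
      refine ⟨(k : ℕ) + q - i, ?_⟩
      rw [show (i : ℕ) + ((k : ℕ) + q - i) = k + q by omega, Nat.add_mod_right, Nat.mod_eq_of_lt k.2]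
    have hdist := L.distinct i ⟨((k : ℕ) + s) % q, Nat.mod_lt _ d.hq.pos⟩ fun a => by
      have e1 : g i a * g k a = 1 := hprod a
      have e2 : g ((i : ℕ) + s) a * g ((k : ℕ) + s) a = 1 := by rw [hshift, hshift]; exact hprod _
      rw [hmod ((i : ℕ) + s), hs, hmod ((k : ℕ) + s)] at e2
      show g i a = g (((k : ℕ) + s) % q) a
      rw [eq_inv_of_mul_eq_one_left e1, eq_inv_of_mul_eq_one_right e2]
    have hval : ((k : ℕ) + s) % q = i := (congrArg Fin.val hdist).symm
    have h1 : ((i : ℕ) + s) ≡ k [MOD q] := by rw [Nat.ModEq, hs, Nat.mod_eq_of_lt k.2]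
    have h2 : ((k : ℕ) + s) ≡ i [MOD q] := by rw [Nat.ModEq, hval, Nat.mod_eq_of_lt i.2]
    have h3 : (q : ℤ) ∣ 2 * ((k : ℤ) - i) := by
      have h4 := Int.dvd_sub ((Nat.modEq_iff_dvd).mp h1) ((Nat.modEq_iff_dvd).mp h2)
      convert h4 using 1
      push_cast; ring
    have h5 : (q : ℤ) ∣ (k : ℤ) - i := by
      refine Int.dvd_of_dvd_mul_right_of_gcd_one h3 ?_
      show Int.gcd (q : ℤ) ((2 : ℕ) : ℤ) = 1
      rw [Int.gcd_natCast_natCast]
      exact Nat.Coprime.gcd_eq_one (Nat.coprime_two_right.mpr hqodd)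
    have h6 := Int.eq_zero_of_abs_lt_dvd h5 (by
      rw [abs_lt]; constructor <;> [have := i.2; have := k.2] <;> omega)
    exact hik (Fin.ext (by omega))
  obtain ⟨c, rfl⟩ := L.bij.2 x
  obtain ⟨c', rfl⟩ := L.bij.2 y
  simp only [map_sum, map_nsmul, AddMonoidHom.finsetSum_apply, AddMonoidHom.coe_smul, Pi.smul_apply, hbasis,
    smul_zero, Finset.sum_const_zero]

/-- In odd dimension an alternating form has a radical. -/
theorem exists_radical [Module (ZMod p) V] (hp : p.Prime) (hp2 : Odd p) (hq : Odd q)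
    (hcard : Nat.card V = p ^ q) (B : V →+ V →+ ZMod p) (halt : ∀ x, B x x = 0) :
    ∃ x, x ≠ 0 ∧ ∀ y, B x y = 0 := by
  classical
  haveI := Fact.mk hp
  haveI := Fintype.ofFinite V
  have hrank : Module.finrank (ZMod p) V = q := by
    have h := Module.card_eq_pow_finrank (K := ZMod p) (V := V)
    rw [← Nat.card_eq_fintype_card, hcard, ZMod.card] at h
    exact (Nat.pow_right_injective hp.two_le h).symm
  let b := Module.finBasisOfFinrankEq (ZMod p) V hrank
  let Mx : Matrix (Fin q) (Fin q) (ZMod p) := Matrix.of fun i k => B (b k) (b i)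
  have hskew : ∀ x y, B x y = -B y x := fun x y => by
    have h := halt (x + y)
    simp only [map_add, AddMonoidHom.add_apply, halt, zero_add, add_zero] at h
    exact eq_neg_of_add_eq_zero_right (by rw [add_comm]; rw [add_comm] at h; exact h)
  have hT : Mx.transpose = -Mx := by
    ext i k
    simp only [Matrix.transpose_apply, Matrix.neg_apply, Mx, Matrix.of_apply]
    exact hskew _ _
  have hdet : Mx.det = 0 := by
    have h := congrArg Matrix.det hT
    rw [Matrix.det_transpose, Matrix.det_neg, Fintype.card_fin, hq.neg_one_pow, neg_one_mul] at h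
    have h2 : (2 : ZMod p) * Mx.det = 0 := by linear_combination h
    refine (mul_eq_zero.mp h2).resolve_left ?_
    intro e
    have : ((2 : ℕ) : ZMod p) = 0 := by exact_mod_cast e
    rw [ZMod.natCast_eq_zero_iff] at this
    have := (Nat.prime_dvd_prime_iff_eq hp Nat.prime_two).mp this
    subst this
    exact absurd hp2 (by decide)
  obtain ⟨c, hc, hMc⟩ := Matrix.exists_mulVec_eq_zero_iff.mpr hdet
  refine ⟨∑ k, c k • b k, fun e => hc ?_, ?_⟩
  · funext k
    exact Fintype.linearIndependent_iff.mp b.linearIndependent c e k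
  · intro y
    let Bl : V →ₗ[ZMod p] ZMod p := (B (∑ k, c k • b k)).toZModLinearMap p
    have : Bl = 0 := b.ext fun i => by
      have e := congrFun hMc i
      simp only [Matrix.mulVec, dotProduct, Mx, Matrix.of_apply, Pi.zero_apply] at e
      show B (∑ k, c k • b k) (b i) = 0
      rw [map_sum, AddMonoidHom.finsetSum_apply, ← e]
      refine Finset.sum_congr rfl fun k _ => ?_
      rw [← ZMod.natCast_zmod_val (c k), Nat.cast_smul_eq_nsmul, map_nsmul, AddMonoidHom.coe_smul, Pi.smul_apply,
        nsmul_eq_mul, mul_comm]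
    exact LinearMap.congr_fun this y

/-- (11.7): no non-zero alternating invariant bilinear map on `H/H'`. -/
theorem form_zero (d : LinearData p q ρ σ T) (hpodd : Odd p) (hqodd : Odd q) (hA : ∃ a : A, a ≠ 1)
    {Z : Type v} [AddCommGroup Z] (B : V →+ V →+ Z)
    (halt : ∀ x, B x x = 0) (hinv : ∀ a x y, B (ρ a x) (ρ a y) = B x y) (x y : V) : B x y = 0 := by
  classical
  by_cases hgal : IsGaloisAction ρ
  swap
  · obtain ⟨h, lam, L⟩ := d.exists_lineBasis hgal
    exact form_zero_lines d L hqodd B halt hinv x y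
  by_contra hne
  haveI := Fact.mk d.hp
  letI : Module (ZMod p) V := AddCommGroup.zmodModule d.exp
  set Zp : AddSubgroup Z := (nsmulAddMonoidHom p : Z →+ Z).ker with hZp
  letI : Module (ZMod p) Zp := AddCommGroup.zmodModule fun z => Subtype.ext z.2
  have hmem : ∀ x y, B x y ∈ Zp := fun x y => by
    show p • B x y = 0
    rw [← AddMonoidHom.nsmul_apply, ← map_nsmul, d.exp, map_zero, AddMonoidHom.zero_apply]
  set z : Zp := ⟨B x y, hmem x y⟩
  have hz : z ≠ 0 := fun e => hne (congrArg Subtype.val e)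
  obtain ⟨f, hf⟩ : ∃ f : Zp →+ ZMod p, f z ≠ 0 := by
    let b := Module.Free.chooseBasis (ZMod p) Zp
    by_contra hall
    push Not at hall
    exact hz (b.repr.map_eq_zero_iff.mp (Finsupp.ext fun i => hall (LinearMap.toAddMonoidHom (b.coord i))))
  let B' : V →+ V →+ ZMod p := AddMonoidHom.mk' (fun x => AddMonoidHom.mk' (fun y => f ⟨B x y, hmem x y⟩)
    fun y y' => by rw [← map_add]; exact congrArg f (Subtype.ext (map_add (B x) y y'))) fun x x' => by
      ext y
      show f _ = f _ + f _
      rw [← map_add]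
      exact congrArg f (Subtype.ext (by simp))
  have halt' : ∀ x, B' x x = 0 := fun x => by
    show f _ = 0
    rw [show (⟨B x x, hmem x x⟩ : Zp) = 0 from Subtype.ext (halt x), map_zero]
  have hinv' : ∀ a x y, B' (ρ a x) (ρ a y) = B' x y := fun a x y => congrArg f (Subtype.ext (hinv a x y))
  obtain ⟨x₀, hx₀, hrad⟩ := exists_radical d.hp hpodd hqodd d.card B' halt'
  rcases hgal B'.ker (fun a v hv => by
      rw [AddMonoidHom.mem_ker] at hv ⊢
      ext w
      have e : ρ a (ρ a⁻¹ w) = w := by rw [← rho_mul_apply, mul_inv_cancel, rho_one_apply]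
      rw [← e, hinv' a, hv, AddMonoidHom.zero_apply, AddMonoidHom.zero_apply]) with h | h
  · exact hx₀ (AddSubgroup.mem_bot.mp (h.le (AddMonoidHom.ext hrad : x₀ ∈ B'.ker)))
  · exact hf (by
      have e : B' x y = 0 := by rw [AddMonoidHom.mem_ker.mp (h.ge (AddSubgroup.mem_top x))]; rfl
      exact e)

end CfsgLib.OddOrder.S11
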