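import Cfsg.Agent.Lib.OddOrder.S9a.Model
import Cfsg.Agent.Lib.OddOrder.S11.FormZero

/-!
Peterfalvi (11.6), (11.7): the structure of a maximal subgroup of type III or IV, given `M'' = H C`.
-/

set_option autoImplicit false
set_option linter.unusedSectionVars false
set_option linter.style.haveILetI false

namespace CfsgLib.OddOrder.S11

open Subgroup Cfsg CfsgLib.MinSimpleOdd CfsgLib.OddOrder.S9
open scoped Pointwise commutatorElement

universe u

variable {G : Type u} [Group G] [Finite G] {M H U W1 W2 H0 : Subgroup G} {q : ℕ}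

/-- In a finite nilpotent group, a normal subgroup inside its commutator with the whole group is trivial. -/
theorem eq_bot_of_le_commutator {H D : Subgroup G} (hn : Group.IsNilpotent H) (hD : D ≤ H)
    (hle : D ≤ ⁅D, H⁆) : D = ⊥ := by
  obtain ⟨n, hn⟩ := Subgroup.nilpotent_iff_lowerCentralSeries.mp hn
  have hk : ∀ k, D.subgroupOf H ≤ Subgroup.lowerCentralSeries (⊤ : Subgroup H) k := by
    intro k
    induction k with
    | zero => simp
    | succ k ih =>
      intro x hx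
      have e : ⁅D, H⁆ = (⁅D.subgroupOf H, (⊤ : Subgroup H)⁆).map H.subtype := by
        rw [map_commutator, map_subgroupOf_eq_of_le hD, ← MonoidHom.range_eq_map, range_subtype]
      obtain ⟨y, hy, hyx⟩ := e.le (hle (mem_subgroupOf.mp hx))
      rw [← H.subtype_injective hyx, Subgroup.lowerCentralSeries_succ]
      exact commutator_mono ih le_rfl hy
  have h := hk n
  rw [hn, le_bot_iff, subgroupOf_eq_bot, disjoint_iff, inf_of_le_left hD] at h
  exact h

/-- Elements fixed by a coprime group lie in `H'` if `H' [H, U] = H`. -/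
theorem fixed_le_derived {H U : Subgroup G} (hU : U ≤ normalizer (H : Set G))
    (hcop : (Nat.card H).Coprime (Nat.card U)) (hgen : H ≤ ⁅H, H⁆ ⊔ ⁅H, U⁆) :
    H ⊓ centralizer (U : Set G) ≤ ⁅H, H⁆ := by
  classical
  letI := Fintype.ofFinite U
  let c : U → H →* H := fun u =>
    { toFun := fun h => ⟨u * h * (u : G)⁻¹, (mem_normalizer_iff.mp (hU u.2) h).mp h.2⟩
      map_one' := Subtype.ext (by simp)
      map_mul' := fun a b => Subtype.ext (by simp [mul_assoc]) }
  let N : H →* Abelianization H := ∏ u : U, Abelianization.of.comp (c u)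
  have hN : ∀ h, N h = ∏ u : U, Abelianization.of (c u h) := fun h => by
    simp only [N, MonoidHom.finsetProd_apply, MonoidHom.comp_apply]
  have hinv : ∀ (v : U) h, N (c v h) = N h := fun v h => by
    rw [hN, hN]
    refine Fintype.prod_equiv (Equiv.mulRight v) _ _ fun u => congrArg Abelianization.of (Subtype.ext ?_)
    simp [c, mul_assoc]
  have hd : ⁅H, H⁆ ≤ N.ker.map H.subtype := by
    rw [← map_subtype_commutator H]
    exact map_mono (Abelianization.commutator_subset_ker N)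
  have hc : ⁅H, U⁆ ≤ N.ker.map H.subtype := by
    rw [commutator_le]
    intro h hh v hv
    refine ⟨⟨h, hh⟩ * (c ⟨v, hv⟩ ⟨h, hh⟩)⁻¹, ?_, ?_⟩
    · rw [SetLike.mem_coe, MonoidHom.mem_ker, map_mul, map_inv, hinv, mul_inv_cancel]
    · simp [c, commutatorElement_def, mul_assoc]
  intro x hx
  obtain ⟨y, hy, hyx⟩ := (hgen.trans (sup_le hd hc)) hx.1
  have e1 : y = ⟨x, hx.1⟩ := Subtype.ext hyx
  subst e1
  rw [SetLike.mem_coe, MonoidHom.mem_ker, hN, Finset.prod_eq_pow_card (b := Abelianization.of ⟨x, hx.1⟩),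
    Finset.card_univ, ← Nat.card_eq_fintype_card] at hy
  · have h1 : Abelianization.of (⟨x, hx.1⟩ : H) = 1 := by
      rw [← orderOf_eq_one_iff]
      refine Nat.eq_one_of_dvd_coprimes hcop ?_ (orderOf_dvd_of_pow_eq_one hy)
      exact (orderOf_map_dvd _ _).trans (orderOf_dvd_natCard _)
    rw [← map_subtype_commutator H]
    refine ⟨⟨x, hx.1⟩, ?_, rfl⟩
    rw [← Abelianization.ker_of H]
    exact h1
  · intro u _
    refine congrArg Abelianization.of (Subtype.ext ?_)
    show (u : G) * x * (u : G)⁻¹ = x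
    rw [(mem_inf.mp hx).2 u u.2, mul_inv_cancel_right]

variable (k : IsCoreKernel M H U H0) (d : TypeData M H U W1 W2 q)
include k d

/-- (11.6). -/
theorem derived_facts (hp : (Nat.card W2).Prime)
    (h5 : ⁅⁅M, M⁆, ⁅M, M⁆⁆ = H ⊔ kernelC H U H0) :
    kernelC H U H0 = ⁅U, U⁆ ∧ H ≤ ⁅H, H⁆ ⊔ ⁅H, U⁆ ∧ H0 = ⁅H, H⁆ := by
  obtain ⟨e0, -, -, -⟩ := k.of_prime_W2 d hp
  obtain ⟨hC, -, -, hUC, -⟩ := k.kernelC_facts d
  have hUH : U ≤ normalizer (H : Set G) := d.U_le.trans d.H_normal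
  -- the subgroup `X = H' [H, U]`
  set X : Subgroup G := ⁅H, H⁆ ⊔ ⁅H, U⁆ with hX
  have hXH : X ≤ H := sup_le (commutator_le_self H) (commutator_le_of_le_normalizer hUH)
  have hXn : H ≤ normalizer (X : Set G) :=
    (le_inf (le_normalizer_derived_self Subgroup.le_normalizer) (left_le_normalizer_commutator U H)).trans
      (normalizer_inf_normalizer_le_normalizer_sup _ _)
  have hUX : U ≤ normalizer (X : Set G) :=
    (le_inf (le_normalizer_derived_self hUH) (right_le_normalizer_commutator U H)).trans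
      (normalizer_inf_normalizer_le_normalizer_sup _ _)
  set Y : Subgroup G := X ⊔ ⁅U, U⁆ with hY
  have hY5 : ⁅⁅M, M⁆, ⁅M, M⁆⁆ ≤ Y := by
    rw [hY]
    have hXM : X ≤ ⁅M, M⁆ := hXH.trans d.H_le_der
    have hN : H ⊔ U ≤ normalizer (X : Set G) := sup_le hXn hUX
    -- modulo `X` the group `H U` is `H × U` with `H` abelian
    have hcomm : ⁅H ⊔ U, H ⊔ U⁆ ≤ X ⊔ ⁅U, U⁆ := by
      have hXUU : H ⊔ U ≤ normalizer ((X ⊔ ⁅U, U⁆ : Subgroup G) : Set G) := by
        refine sup_le (fun h hh => mem_normalizer_of_conj fun y hy => ?_)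
          ((le_inf hUX (le_normalizer_derived_self Subgroup.le_normalizer)).trans
            (normalizer_inf_normalizer_le_normalizer_sup _ _))
        obtain ⟨a, ha, b, hb, rfl⟩ :=
          CfsgLib.mem_sup_of_le_normalizer ((commutator_le_self U).trans hUX) hy
        have e : h * (a * b) * h⁻¹ = (h * a * h⁻¹) * ⁅h, b⁆ * b := by rw [commutatorElement_def]; group
        rw [e]
        exact mul_mem (mul_mem (mem_sup_left ((mem_normalizer_iff.mp (hXn hh) a).mp ha))
          (mem_sup_left (mem_sup_right (commutator_mem_commutator hh (commutator_le_self U hb))))) (mem_sup_right hb)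
      refine (derived_le_of_sup hXUU (sup_le (hXH.trans le_sup_left) ((commutator_le_self U).trans le_sup_right))
        le_rfl le_sup_right).trans (sup_le le_rfl ?_)
      rw [commutator_le]
      intro a ha b hb
      obtain ⟨a1, ha1, a2, ha2, rfl⟩ := CfsgLib.mem_sup_of_le_normalizer hUH ha
      obtain ⟨b1, hb1, b2, hb2, rfl⟩ := CfsgLib.mem_sup_of_le_normalizer hUH hb
      set Z : Subgroup G := X ⊔ ⁅U, U⁆
      have hZn : ∀ g ∈ H ⊔ U, ∀ z ∈ Z, g * z * g⁻¹ ∈ Z := fun g hg z hz => (mem_normalizer_iff.mp (hXUU hg) z).mp hz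
      have c1 : ⁅a2, b1⁆ ∈ Z := mem_sup_left (mem_sup_right (by
        rw [commutator_comm]; exact commutator_mem_commutator ha2 hb1))
      have c2 : ⁅a2, b2⁆ ∈ Z := mem_sup_right (commutator_mem_commutator ha2 hb2)
      have c3 : ⁅a1, b1⁆ ∈ Z := mem_sup_left (mem_sup_left (commutator_mem_commutator ha1 hb1))
      have c4 : ⁅a1, b2⁆ ∈ Z := mem_sup_left (mem_sup_right (commutator_mem_commutator ha1 hb2))
      have e : ⁅a1 * a2, b1 * b2⁆ = (a1 * (⁅a2, b1⁆ * (b1 * ⁅a2, b2⁆ * b1⁻¹)) * a1⁻¹) *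
          (⁅a1, b1⁆ * (b1 * ⁅a1, b2⁆ * b1⁻¹)) := by
        simp only [commutatorElement_def]; group
      rw [e]
      exact mul_mem (hZn a1 (mem_sup_left ha1) _ (mul_mem c1 (hZn b1 (mem_sup_left hb1) _ c2)))
        (mul_mem c3 (hZn b1 (mem_sup_left hb1) _ c4))
    refine le_trans (commutator_mono ?_ ?_) hcomm <;>
    · intro m hm
      obtain ⟨a, ha, b, hb, rfl⟩ := d.compl_U.2.2.2 m hm
      exact mul_mem_sup ha hb
  have hsplit : ∀ y ∈ Y, ∃ a ∈ X, ∃ b ∈ ⁅U, U⁆, a * b = y := fun y hy =>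
    CfsgLib.mem_sup_of_le_normalizer ((commutator_le_self U).trans hUX) hy
  have hbot : ∀ g ∈ H, g ∈ U → g = 1 := fun g h1 h2 => mem_bot.mp (d.inf_HU ▸ mem_inf.mpr ⟨h1, h2⟩)
  have hH : H ≤ X := fun h hh => by
    obtain ⟨a, ha, b, hb, rfl⟩ := hsplit h (hY5 (h5 ▸ mem_sup_left hh))
    have : b = 1 := hbot b (by simpa using H.mul_mem (H.inv_mem (hXH ha)) hh) (commutator_le_self U hb)
    rwa [this, mul_one]
  refine ⟨le_antisymm (fun c hc => ?_) hUC, hH, le_antisymm (e0 ▸ fixed_le_derived hUH d.copHU hH) k.derived⟩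
  obtain ⟨a, ha, b, hb, he⟩ := hsplit c (hY5 (h5 ▸ mem_sup_right hc))
  have : a = 1 := hbot a (hXH ha) (by
    rw [show a = c * b⁻¹ by rw [← he]; group]
    exact mul_mem (hC hc) (inv_mem (commutator_le_self U hb)))
  rw [this, one_mul] at he
  exact he ▸ hb

/-- (11.7): `H' = 1`. -/
theorem derived_eq_bot (hp : (Nat.card W2).Prime) (h5 : ⁅⁅M, M⁆, ⁅M, M⁆⁆ = H ⊔ kernelC H U H0) :
    (⁅H, H⁆ : Subgroup G) = ⊥ := by
  classical
  obtain ⟨-, -, e0'⟩ := derived_facts k d hp h5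
  obtain ⟨e0, -, hcard, -⟩ := k.of_prime_W2 d hp
  obtain ⟨-, -, hpodd, -, -⟩ := k.prime_unique d hp hcard
  obtain ⟨w, hw, hw1⟩ := d.exists_W1
  obtain ⟨V, _, _, A, _, _, f, π, ρ, σ, T, m⟩ := k.exists_model_of_card d hp hcard hw hw1
  refine eq_bot_of_le_commutator d.H_nil (commutator_le_self H) ?_
  set D : Subgroup G := ⁅H, H⁆ with hD
  set K3 : Subgroup G := ⁅D, H⁆ with hK3
  haveI : (K3.subgroupOf H).Normal := by
    rw [normal_subgroupOf_iff_le_normalizer ((commutator_mono (commutator_le_self H) le_rfl).trans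
      (commutator_le_self H))]
    exact right_le_normalizer_commutator H D
  -- the quotient `H / [H', H]`, where commutators are central
  let Q := ↥H ⧸ K3.subgroupOf H
  let π' : ↥H →* Q := QuotientGroup.mk' _
  have hcent : ∀ a b c : ↥H, π' ⁅a, b⁆ * π' c = π' c * π' ⁅a, b⁆ := fun a b c => by
    rw [← commutatorElement_eq_one_iff_mul_comm, ← map_commutatorElement]
    refine (QuotientGroup.eq_one_iff _).mpr ?_
    rw [mem_subgroupOf]
    exact commutator_mem_commutator (commutator_mem_commutator a.2 b.2) c.2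
  let Zc : Subgroup Q := center Q
  letI : CommGroup Zc := { mul_comm := fun a b => Subtype.ext (mem_center_iff.mp b.2 (a : Q)) }
  have hzc : ∀ a b : ↥H, π' ⁅a, b⁆ ∈ Zc := fun a b => mem_center_iff.mpr fun g => by
    obtain ⟨c, rfl⟩ := QuotientGroup.mk'_surjective _ g
    exact (hcent a b c).symm
  let β : ↥H → ↥H → Additive Zc := fun a b => Additive.ofMul ⟨π' ⁅a, b⁆, hzc a b⟩
  have hmulr : ∀ a b b' : ↥H, β a (b * b') = β a b + β a b' := fun a b b' => by
    refine congrArg Additive.ofMul (Subtype.ext ?_)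
    show π' ⁅a, b * b'⁆ = π' ⁅a, b⁆ * π' ⁅a, b'⁆
    rw [show ⁅a, b * b'⁆ = ⁅a, b⁆ * (b * ⁅a, b'⁆ * b⁻¹) by simp only [commutatorElement_def]; group, map_mul]
    congr 1
    rw [map_mul, map_mul, map_inv, ← hcent, mul_inv_cancel_right]
  have hmull : ∀ a a' b : ↥H, β (a * a') b = β a b + β a' b := fun a a' b => by
    refine congrArg Additive.ofMul (Subtype.ext ?_)
    show π' ⁅a * a', b⁆ = π' ⁅a, b⁆ * π' ⁅a', b⁆
    rw [show ⁅a * a', b⁆ = a * ⁅a', b⁆ * a⁻¹ * ⁅a, b⁆ by simp only [commutatorElement_def]; group, map_mul,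
      map_mul, map_mul, map_inv, ← hcent a' b a, mul_inv_cancel_right, hcent]
  have hzero : ∀ a b : ↥H, (a : G) ∈ D → β a b = 0 ∧ β b a = 0 := fun a b ha => by
    constructor <;> refine congrArg Additive.ofMul (Subtype.ext ((QuotientGroup.eq_one_iff _).mpr ?_)) <;>
      rw [mem_subgroupOf]
    · exact commutator_mem_commutator ha b.2
    · have h := inv_mem (commutator_mem_commutator ha b.2 : _ ∈ K3)
      rw [commutatorElement_inv] at h
      exact h
  have hwd : ∀ a a' b : ↥H, f a = f a' → β a b = β a' b ∧ β b a = β b a' := fun a a' b h => by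
    have hd : ((a⁻¹ * a' : ↥H) : G) ∈ D := by
      rw [← e0']
      exact (m.f_eq_iff a.2 a'.2).mp h
    rw [← mul_inv_cancel_left a a', hmull, hmulr, (hzero _ b hd).1, (hzero _ b hd).2, add_zero, add_zero]
    exact ⟨rfl, rfl⟩
  choose s hs hfs using m.f_surj
  let S : V → ↥H := fun v => ⟨s v, hs v⟩
  have hSadd : ∀ v v', f (S (v + v') : G) = f ((S v * S v' : ↥H) : G) := fun v v' => by
    show f (s (v + v')) = f (s v * s v')
    rw [m.f_mul _ (hs v) _ (hs v'), hfs, hfs, hfs]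
  let B : V →+ V →+ Additive Zc := AddMonoidHom.mk'
    (fun v => AddMonoidHom.mk' (fun v' => β (S v) (S v'))
      fun a b => by rw [(hwd _ _ (S v) (hSadd a b)).2, hmulr])
    fun a b => by
      refine AddMonoidHom.ext fun v => ?_
      show β (S (a + b)) (S v) = β (S a) (S v) + β (S b) (S v)
      rw [(hwd _ _ (S v) (hSadd a b)).1, hmull]
  have halt : ∀ v, B v v = 0 := fun v => congrArg Additive.ofMul (Subtype.ext (by
    show π' ⁅S v, S v⁆ = 1
    rw [commutatorElement_self, map_one]))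
  have hinv : ∀ a v v', B (ρ a v) (ρ a v') = B v v' := by
    intro a v v'
    obtain ⟨x, hx, rfl⟩ := m.π_surj a
    have hxH : ∀ y ∈ H, x * y * x⁻¹ ∈ H := fun y hy => (mem_normalizer_iff.mp (m.U_norm hx) y).mp hy
    have e : ∀ v, f (S (ρ (π x) v) : G) = f ((⟨x * s v * x⁻¹, hxH _ (hs v)⟩ : ↥H) : G) := fun v => by
      show f (s _) = f (x * s v * x⁻¹)
      rw [hfs, m.act x hx _ (hs v), hfs]
    show β _ _ = β _ _
    rw [(hwd _ _ _ (e v)).1, (hwd _ _ _ (e v')).2]
    refine congrArg Additive.ofMul (Subtype.ext ?_)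
    show π' _ = π' _
    refine (QuotientGroup.eq).mpr ?_
    rw [mem_subgroupOf]
    show (⁅x * s v * x⁻¹, x * s v' * x⁻¹⁆ : G)⁻¹ * ⁅s v, s v'⁆ ∈ K3
    have hcD : ⁅s v, s v'⁆ ∈ H ⊓ centralizer (U : Set G) := by
      rw [← e0, e0']
      exact commutator_mem_commutator (hs v) (hs v')
    rw [show ⁅x * s v * x⁻¹, x * s v' * x⁻¹⁆ = x * ⁅s v, s v'⁆ * x⁻¹ by simp only [commutatorElement_def]; group,
      (mem_inf.mp hcD).2 x hx, mul_inv_cancel_right, inv_mul_cancel]
    exact K3.one_mem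
  haveI := m.lin.nontriv
  have hB := form_zero m.lin hpodd (Odd.of_dvd_nat d.odd (d.cardW ▸ card_dvd_of_le d.W_le)) (exists_ne 1) B halt hinv
  rw [commutator_le]
  intro a ha b hb
  have h0 : B (f a) (f b) = 0 := hB _ _
  have ea : f (S (f a) : G) = f ((⟨a, ha⟩ : ↥H) : G) := hfs _
  have eb : f (S (f b) : G) = f ((⟨b, hb⟩ : ↥H) : G) := hfs _
  change β (S (f a)) (S (f b)) = 0 at h0
  rw [(hwd _ _ _ ea).1, (hwd _ _ _ eb).2] at h0
  have h1 : π' ⁅(⟨a, ha⟩ : ↥H), ⟨b, hb⟩⁆ = 1 := congrArg (fun z : Additive Zc => ((Additive.toMul z : Zc) : Q)) h0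
  exact mem_subgroupOf.mp ((QuotientGroup.eq_one_iff _).mp h1)

/-- (11.6), (11.7) together. -/
theorem type_three_four_facts (hp : (Nat.card W2).Prime) (h5 : ⁅⁅M, M⁆, ⁅M, M⁆⁆ = H ⊔ kernelC H U H0) :
    H0 = ⊥ ∧ IsElementaryAbelian (Nat.card W2) H ∧ Nat.card H = Nat.card W2 ^ q ∧
      kernelC H U H0 = ⁅U, U⁆ ∧ H ⊓ centralizer (U : Set G) = ⊥ := by
  obtain ⟨hC, -, e0'⟩ := derived_facts k d hp h5
  obtain ⟨e0, -⟩ := k.of_prime_W2 d hp
  have hb : H0 = ⊥ := e0'.trans (derived_eq_bot k d hp h5)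
  obtain ⟨-, hcard, hexp⟩ := k.eq_bot_of_prime_W2 d hp (e0.symm.trans hb)
  refine ⟨hb, ⟨⟨⟨fun a b => Subtype.ext ?_⟩⟩, fun x hx => hexp x hx⟩, hcard, hC, e0.symm.trans hb⟩
  have h := commutator_mem_commutator a.2 b.2 (H₁ := H) (H₂ := H)
  rw [derived_eq_bot k d hp h5, mem_bot, commutatorElement_eq_one_iff_mul_comm] at h
  exact h

end CfsgLib.OddOrder.S11
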