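import Cfsg.Agent.Lib.OddOrder.S11.Derived
import Cfsg.Agent.Lib.OddOrder.S11.Group
import Cfsg.Agent.Lib.OddOrder.S10.FromS8
import Cfsg.Agent.Lib.MinSimpleOdd.TypeFive
import Cfsg.Agent.S1382
import Cfsg.Agent.S1437

/-!
Peterfalvi section 11: every factorisation of a maximal subgroup of type III or IV satisfies the hypothesis of
section 10 and the conclusions of (11.3)-(11.7).
-/

set_option autoImplicit false
set_option linter.unusedSectionVars false
set_option linter.style.haveILetI false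

namespace CfsgLib.OddOrder.S11

open Subgroup Cfsg CfsgLib.MinSimpleOdd CfsgLib.OddOrder.S8 CfsgLib.OddOrder.S9 CfsgLib.OddOrder.Ten
open scoped Pointwise commutatorElement

universe u

variable {G : Type u} [Group G] [Fintype G] {M W1 U W2 : Subgroup G}

/-- The hypothesis of section 11 for a given factorisation of a subgroup of type III or IV. -/
theorem exists_three_data [Fintype M] (hG : IsMinSimpleOddOrder G) (hM : IsCoatom M)
    (hP : IsTypePWith M W1 U W2) (h34 : IsOfTypeIII M ∨ IsOfTypeIV M) :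
    TypeData M (fittingHallOf M) U W1 W2 (Nat.card W1) ∧ (Nat.card W2).Prime ∧
      sigmaCore M = ⁅M, M⁆ ∧ fixedCore M W1 = W2 ∧
      ∃ Hd : G → Subgroup G, ∃ ten : TenData M ((⁅M, M⁆ : Subgroup G).subgroupOf M) (W1.subgroupOf M)
        (W2.subgroupOf M) Hd,
        ¬ IsCoherent (inducedIrrAbove ((⁅M, M⁆ : Subgroup G).subgroupOf M) (⊥ : Subgroup M)) {1}ᶜ ten.tau := by
  obtain ⟨K₀, hK₀⟩ := CfsgLib.exists_isPiHallOf (kappa M) (M := M) (solvable_of_ne_top hG hM.1)
  obtain ⟨U₀, hd₀⟩ := exists_sigmaDecomposition hG hM (kappaHall_cyclic hG hM hK₀) hK₀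
  have hc : Nat.card W1 = Nat.card K₀ := (typeP_facts hG hM hP hd₀).2.1
  have hW1M : W1 ≤ M := hP.W₁_compl.2.1
  have hidx : W1.relIndex M = K₀.relIndex M := by
    refine Nat.eq_of_mul_eq_mul_left (Nat.card_pos (α := W1)) ?_
    conv_rhs => rw [hc]
    rw [← relIndex_bot_left W1, relIndex_mul_relIndex _ _ _ bot_le hW1M, relIndex_bot_left,
      ← relIndex_bot_left K₀, relIndex_mul_relIndex _ _ _ bot_le hK₀.1, relIndex_bot_left]
  have hK : IsPiHallOf (kappa M) W1 M := ⟨hW1M, hc ▸ hK₀.2.1, hidx ▸ hK₀.2.2⟩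
  obtain ⟨U₁, hd⟩ := exists_sigmaDecomposition hG hM (kappaHall_cyclic hG hM hK) hK
  obtain ⟨hW1, hU₁, hne⟩ := (Cfsg.Agent.S1382.result hG M hM W1 U₁ hd).mp h34
  obtain ⟨-, hder, hq, hp, -⟩ := Cfsg.Agent.S1437.result hG M hM W1 U₁ hd hne
  have hU : U ≠ ⊥ := by
    rintro rfl
    refine hne (le_antisymm ?_ ?_)
    · rw [hder]; exact hP.U_compl.1
    · rw [hder]
      intro x hx
      obtain ⟨a, ha, b, hb, rfl⟩ := hP.U_compl.2.2.2 x hx
      rw [mem_bot.mp hb, mul_one]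
      exact ha
  have d := typeData_of_typePWith hG hM hP hU hq
  have hW2 : fixedCore M W1 = W2 := by
    obtain ⟨w, hw, hw1⟩ := d.exists_W1
    show sigmaCore M ⊓ centralizer (W1 : Set G) = W2
    rw [hder]
    refine le_antisymm ?_ fun y hy => ⟨d.H_le_der (d.W2_le hy), (d.H_centralizer_W1.ge hy).2⟩
    rw [← d.W2_eq w hw hw1]
    exact inf_le_inf_left _ (centralizer_le (Set.singleton_subset_iff.mpr hw))
  obtain ⟨L, pr⟩ := (kappaData_of_hall hG hM hK hW1).exists_pair hG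
  refine ⟨d, ?_, hder, hW2, ?_⟩
  · rw [← hW2]
    exact hp
  have ten := tenData_of_pair hG pr hd hU₁
  obtain ⟨V, V₀, hpar⟩ := tenPartner_of_pair hG pr hd hU₁
  have hnc := (tenData_of_pair hG pr hd hU₁).not_coherent hpar
  clear hpar
  refine ⟨supportR M, ?_⟩
  revert ten hnc
  rw [hder, hW2]
  exact fun ten hnc => ⟨ten, hnc⟩

/-- **(11.3), (11.5)-(11.7)** for a given factorisation of a subgroup of type III or IV. -/
theorem exists_three_facts [Fintype M] (hG : IsMinSimpleOddOrder G) (hM : IsCoatom M)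
    (hP : IsTypePWith M W1 U W2) (h34 : IsOfTypeIII M ∨ IsOfTypeIV M) :
    TypeData M (fittingHallOf M) U W1 W2 (Nat.card W1) ∧ (Nat.card W2).Prime ∧
      IsCoreKernel M (fittingHallOf M) U ⊥ ∧ IsElementaryAbelian (Nat.card W2) (fittingHallOf M) ∧
      Nat.card (fittingHallOf M) = Nat.card W2 ^ Nat.card W1 ∧
      kernelC (fittingHallOf M) U ⊥ = ⁅U, U⁆ ∧ fittingHallOf M ⊓ centralizer (U : Set G) = ⊥ ∧
      ⁅⁅M, M⁆, ⁅M, M⁆⁆ = fittingHallOf M ⊔ kernelC (fittingHallOf M) U ⊥ ∧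
      ∃ Hd : G → Subgroup G, ∃ ten : TenData M ((⁅M, M⁆ : Subgroup G).subgroupOf M) (W1.subgroupOf M)
        (W2.subgroupOf M) Hd,
        ¬ IsCoherent (inducedIrrAbove ((⁅M, M⁆ : Subgroup G).subgroupOf M)
          ((kernelC (fittingHallOf M) U ⊥).subgroupOf M)) {1}ᶜ ten.tau := by
  obtain ⟨d, hp, -, -, Hd, ten, hnc⟩ := exists_three_data hG hM hP h34
  obtain ⟨H0, k⟩ := d.exists_coreKernel
  have h5 := derived_two_eq k d hp ten hnc
  obtain ⟨rfl, hel, hcard, hC, hfix⟩ := type_three_four_facts k d hp h5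
  refine ⟨d, hp, k, hel, hcard, hC, hfix, h5, Hd, ten, ?_⟩
  have h3 := not_coherent_H0C k d hp ten hnc
  rwa [bot_sup_eq] at h3

end CfsgLib.OddOrder.S11
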