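import Cfsg.Agent.Lib.OddOrder.S11.Instance
import Cfsg.Agent.Lib.OddOrder.S11.Lines
import Cfsg.Agent.Lib.OddOrder.S11.Nine
import Cfsg.Agent.Lib.OddOrder.S11.Three
import Cfsg.Agent.Lib.OddOrder.Imports

/-!
Peterfalvi (11.9): the structure of the maximal subgroups of types III and IV, for every minimal simple group of odd
order.
-/

set_option autoImplicit false
set_option linter.unusedSectionVars false
set_option linter.style.haveILetI false

namespace CfsgLib.OddOrder.S11

open Subgroup Cfsg CfsgLib.OddOrder.S9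
open scoped Pointwise commutatorElement

universe u

/-- A nilpotent group with cyclic quotient by the derived subgroup inside a field is cyclic. -/
theorem isCyclic_of_galois {G : Type u} [Group G] [Finite G] {M H U W1 W2 H0 : Subgroup G} {q p : ℕ}
    (k : IsCoreKernel M H U H0) (d : TypeData M H U W1 W2 q) (hp : p.Prime)
    (hcard : Nat.card H = Nat.card H0 * p ^ q) (hgal : IsGalois H U H0)
    (hC : kernelC H U H0 = ⁅U, U⁆) : IsCyclic U := by
  obtain ⟨w, hw, hw1⟩ := d.exists_W1
  obtain ⟨F, _, _, f, ψ, s, -, -, -, -, -, -, hψ, hmul, hker, -⟩ := k.galois_field d hp hcard hgal hw hw1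
  let φ : U →* Fˣ :=
    { toFun := fun u => Units.mk0 (ψ u) (hψ u u.2).1
      map_one' := Units.ext (show ψ ((1 : U) : G) = 1 from
        (hker _ U.one_mem).mpr (kernelC H U H0).one_mem)
      map_mul' := fun a b => Units.ext (hmul a a.2 b b.2) }
  obtain ⟨⟨g, u, rfl⟩, hg⟩ := IsCyclic.exists_generator (α := φ.range)
  have hle : U ≤ zpowers (u : G) := by
    refine eq_of_derived_sup d.U_nil (zpowers_le.mpr u.2) fun x hx => ?_
    obtain ⟨i, hi⟩ := mem_zpowers_iff.mp (hg ⟨φ ⟨x, hx⟩, _, rfl⟩)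
    have h1 : φ ((⟨x, hx⟩ : U) * (u ^ i)⁻¹) = 1 := by
      rw [map_mul, map_inv, map_zpow, show φ u ^ i = φ ⟨x, hx⟩ from congrArg Subtype.val hi, mul_inv_cancel]
    have h2 : x * ((u : G) ^ i)⁻¹ ∈ kernelC H U H0 :=
      (hker _ (U.mul_mem hx (U.inv_mem (U.zpow_mem u.2 i)))).mp (congrArg Units.val h1)
    rw [hC] at h2
    have e : x = x * ((u : G) ^ i)⁻¹ * (u : G) ^ i := by group
    rw [e]
    exact mul_mem_sup h2 (zpow_mem (mem_zpowers _) i)
  exact isCyclic_of_injective (inclusion hle) (inclusion_injective hle)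

/-- **(11.9)**, for a given factorisation of a subgroup of type III or IV. -/
theorem three_four_structure {G : Type u} [Group G] [Finite G] (hG : IsMinSimpleOddOrder G)
    {M W1 U W2 : Subgroup G} (hM : IsCoatom M) (hP : IsTypePWith M W1 U W2)
    (h34 : IsOfTypeIII M ∨ IsOfTypeIV M) :
    Nat.card W2 < Nat.card W1 ∧ (Nat.card W2).Prime ∧
      IsElementaryAbelian (Nat.card W2) (fittingHallOf M) ∧
      Nat.card (fittingHallOf M) = Nat.card W2 ^ Nat.card W1 ∧ IsCyclic U ∧
      fittingHallOf M ⊓ centralizer (U : Set G) = ⊥ := by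
  classical
  haveI := Fintype.ofFinite G
  haveI := Fintype.ofFinite M
  obtain ⟨d, hp, k, hel, hcard, hC, hfix, h5, Hd, ten, hnc⟩ := exists_three_facts hG hM hP h34
  have hnc' : ¬ IsCoherent (inducedIrrAbove ((⁅M, M⁆ : Subgroup G).subgroupOf M)
      (((⊥ : Subgroup G) ⊔ kernelC (fittingHallOf M) U ⊥).subgroupOf M)) {1}ᶜ ten.tau := by
    rwa [bot_sup_eq]
  have D := elevenData_of_typeData k d hp ten h5 hnc'
  haveI := Fintype.ofFinite ((W1.subgroupOf M) →* ℂˣ)
  haveI := Fintype.ofFinite ((W2.subgroupOf M) →* ℂˣ)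
  refine ⟨D.p_lt_q, hp, hel, hcard, ?_, hfix⟩
  have hcard' : Nat.card (fittingHallOf M) = Nat.card (⊥ : Subgroup G) * Nat.card W2 ^ Nat.card W1 := by
    rw [card_bot, one_mul, hcard]
  by_cases hgal : IsGalois (fittingHallOf M) U (⊥ : Subgroup G)
  · exact isCyclic_of_galois k d hp hcard' hgal hC
  · exfalso
    haveI := D.hyp.C_normal
    obtain ⟨ℓ, a, hL⟩ := exists_lineSystem k d rfl hp hcard' hgal D.hyp
    haveI := D.low_finite.fintype
    haveI := Fintype.ofFinite (↥M ⧸ (kernelC (fittingHallOf M) U ⊥).subgroupOf M)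
    exact D.no_lineSystem hL

/-- **(11.9)**: the export used by the later sections. -/
theorem elevenNine {G : Type u} [Group G] [Finite G] (hG : IsMinSimpleOddOrder G) : ElevenNine G where
  lt := fun _ _ _ _ hM hP h => (three_four_structure hG hM hP h).1
  elem := fun _ _ _ _ hM hP h =>
    ⟨(three_four_structure hG hM hP h).2.1, (three_four_structure hG hM hP h).2.2.1,
      (three_four_structure hG hM hP h).2.2.2.1⟩
  cyclic := fun _ _ _ _ hM hP h => (three_four_structure hG hM hP h).2.2.2.2.1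
  fpf := fun _ _ _ _ hM hP h => (three_four_structure hG hM hP h).2.2.2.2.2

end CfsgLib.OddOrder.S11
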