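import Mathlib

/-! A positive definite integral bilinear form: Bessel and Cauchy-Schwarz. -/

set_option autoImplicit false

universe u

namespace CfsgLib.OddOrder.S11

/-- An integral positive definite symmetric form. -/
structure IntForm (V : Type u) [AddCommGroup V] where
  B : V →ₗ[ℤ] V →ₗ[ℤ] ℤ
  symm : ∀ x y, B x y = B y x
  pos : ∀ x, 0 ≤ B x x
  defin : ∀ x, B x x = 0 → x = 0

namespace IntForm

variable {V : Type u} [AddCommGroup V] (F : IntForm V)

theorem norm_sub (x y : V) : F.B (x - y) (x - y) = F.B x x - 2 * F.B x y + F.B y y := by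
  simp only [map_sub, LinearMap.sub_apply, F.symm y x]
  ring

/-- The projection of `v` to an orthonormal family. -/
noncomputable def proj {ι : Type*} [Fintype ι] (f : ι → V) (v : V) : V := ∑ i, F.B v (f i) • f i

theorem inner_proj {ι : Type*} [Fintype ι] (f : ι → V) (v w : V) :
    F.B w (F.proj f v) = ∑ i, F.B v (f i) * F.B w (f i) := by
  simp [proj, map_sum, map_zsmul]

theorem proj_coef {ι : Type*} [Fintype ι] [DecidableEq ι] (f : ι → V)
    (hf : ∀ i j, F.B (f i) (f j) = if i = j then 1 else 0) (v : V) (k : ι) :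
    F.B (F.proj f v) (f k) = F.B v (f k) := by
  rw [F.symm, inner_proj, Finset.sum_eq_single k]
  · simp [hf]
  · intro i _ hi
    simp [hf, Ne.symm hi]
  · simp

theorem residual_norm {ι : Type*} [Fintype ι] [DecidableEq ι] (f : ι → V)
    (hf : ∀ i j, F.B (f i) (f j) = if i = j then 1 else 0) (v : V) :
    F.B (v - F.proj f v) (v - F.proj f v) = F.B v v - ∑ i, F.B v (f i) ^ 2 := by
  rw [norm_sub, inner_proj, inner_proj]
  have h : ∀ i, F.B v (f i) * F.B (F.proj f v) (f i) = F.B v (f i) ^ 2 := fun i => by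
    rw [proj_coef F f hf, sq]
  simp only [h]
  simp only [sq]
  ring

/-- Bessel's inequality. -/
theorem bessel {ι : Type*} [Fintype ι] [DecidableEq ι] (f : ι → V)
    (hf : ∀ i j, F.B (f i) (f j) = if i = j then 1 else 0) (v : V) :
    ∑ i, F.B v (f i) ^ 2 ≤ F.B v v := by
  have := F.pos (v - F.proj f v)
  rw [residual_norm F f hf] at this
  omega

theorem eq_proj {ι : Type*} [Fintype ι] [DecidableEq ι] (f : ι → V)
    (hf : ∀ i j, F.B (f i) (f j) = if i = j then 1 else 0) (v : V)
    (h : F.B v v ≤ ∑ i, F.B v (f i) ^ 2) : v = F.proj f v := by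
  refine sub_eq_zero.1 (F.defin _ ?_)
  have h1 := F.pos (v - F.proj f v)
  rw [residual_norm F f hf] at h1 ⊢
  omega

theorem inner_residual {ι : Type*} [Fintype ι] [DecidableEq ι] (f : ι → V)
    (hf : ∀ i j, F.B (f i) (f j) = if i = j then 1 else 0) (v w : V) :
    F.B (v - F.proj f v) (w - F.proj f w) = F.B v w - ∑ i, F.B v (f i) * F.B w (f i) := by
  have h1 : F.B (F.proj f v) (F.proj f w) = ∑ i, F.B v (f i) * F.B w (f i) := by
    rw [inner_proj]
    exact Finset.sum_congr rfl fun i _ => by rw [proj_coef F f hf]; ring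
  have h2 : F.B v (F.proj f w) = ∑ i, F.B v (f i) * F.B w (f i) := by
    rw [inner_proj]; exact Finset.sum_congr rfl fun i _ => by ring
  have h3 : F.B (F.proj f v) w = ∑ i, F.B v (f i) * F.B w (f i) := by
    rw [F.symm, inner_proj]
  simp only [map_sub, LinearMap.sub_apply, h1, h2, h3]
  ring

/-- Cauchy-Schwarz. -/
theorem cauchy (x y : V) : F.B x y ^ 2 ≤ F.B x x * F.B y y := by
  rcases eq_or_ne (F.B y y) 0 with h | h
  · rw [F.defin y h]; simp
  have hy : 0 < F.B y y := lt_of_le_of_ne (F.pos y) (Ne.symm h)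
  have h1 := F.pos (F.B y y • x - F.B x y • y)
  rw [norm_sub] at h1
  simp only [map_zsmul, LinearMap.smul_apply, smul_eq_mul] at h1
  have h2 : 0 ≤ F.B y y * (F.B y y * F.B x x - F.B x y ^ 2) := by
    refine h1.trans_eq ?_
    ring
  have h3 := nonneg_of_mul_nonneg_right h2 hy
  nlinarith

end IntForm

end CfsgLib.OddOrder.S11
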