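import Cfsg.Agent.Lib.OddOrder.S11.Data

/-!
Peterfalvi section 11: images under the Dade map of `P - c ζ`, for `P` orthogonal to `S(H C)` of degree `c q`.
-/

set_option autoImplicit false
set_option linter.unusedSectionVars false
set_option linter.style.haveILetI false

namespace CfsgLib.OddOrder.S11

open Cfsg CfsgLib.CharTheory CfsgLib.OddOrder.Found CfsgLib.OddOrder.Ten

universe u

variable {G : Type u} [Group G] [Fintype G] {M : Subgroup G} [Fintype M]

namespace ElevenData

variable {K H U C W₁ W₂ : Subgroup M} {p q : ℕ} {Hd : G → Subgroup G} (D : ElevenData M K H U C W₁ W₂ p q Hd)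
include D

/-- What is needed of `P`. -/
structure Part (_D : ElevenData M K H U C W₁ W₂ p q Hd) (P : M → ℂ) (c : ℕ) : Prop where
  gen : IsGeneralizedCharacter M P
  orth : ∀ z ∈ _D.Low, classInner P z = 0
  deg : P 1 = (c : ℂ) * (q : ℂ)
  row : ∀ a ∈ W₁, a ≠ 1 → P a = 0

variable (E : D.Ext) {P P' : M → ℂ} {c c' : ℕ}

theorem zeta_gen : IsGeneralizedCharacter M E.zeta := isGenChar_of_char (isCharacter_of_irr (D.low_irr E.zeta_mem))

theorem diff_gen (h : D.Part P c) : IsGeneralizedCharacter M (P - (c : ℂ) • E.zeta) := by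
  refine isGenChar_sub h.gen ?_
  have hz : IsGeneralizedCharacter M ((c : ℤ) • E.zeta) :=
    zspan_genChar (S := {E.zeta}) (fun φ hφ => by rw [Set.mem_singleton_iff.mp hφ]; exact D.zeta_gen E)
      (Submodule.smul_mem _ _ (Submodule.subset_span rfl))
  rwa [natCast_zsmul, ← Nat.cast_smul_eq_nsmul ℂ] at hz

theorem diff_supported (h : D.Part P c) : D.ten.Supported (P - (c : ℂ) • E.zeta) := by
  refine ⟨(isGenChar_iff_coeff_int.mp (D.diff_gen E h)).1, fun a ha => ?_⟩
  rw [Pi.sub_apply, Pi.smul_apply, smul_eq_mul]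
  by_cases h1 : a = 1
  · rw [h1, h.deg, D.low_deg E.zeta_mem, sub_self]
  · rw [h.row a ha h1, mem_off_kernel D.ten (D.low_sub E.zeta_mem) fun hk => h1 (Subgroup.mem_bot.mp
      (D.hyp.prime.inf_eq_bot ▸ Subgroup.mem_inf.mpr ⟨hk, ha⟩)), mul_zero, sub_zero]

/-- The image in the lattice. -/
noncomputable def vTau (h : D.Part P c) : vChar G :=
  ⟨D.ten.tau (P - (c : ℂ) • E.zeta), D.ten.tau_gen (D.diff_supported E h) (D.diff_gen E h)⟩

theorem coe_vTau (h : D.Part P c) : (D.vTau E h : G → ℂ) = D.ten.tau (P - (c : ℂ) • E.zeta) := rfl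

theorem orth_zeta (h : D.Part P c) : classInner E.zeta P = 0 := by
  rw [← classInner_comm, h.orth _ E.zeta_mem, map_zero]

theorem tau_inner_diff (h : D.Part P c) (h' : D.Part P' c') :
    classInner (D.ten.tau (P - (c : ℂ) • E.zeta)) (D.ten.tau (P' - (c' : ℂ) • E.zeta)) =
      classInner P P' + (c : ℂ) * c' := by
  rw [D.ten.tau_inner (D.diff_supported E h) (D.diff_supported E h'), classInner_sub_left, classInner_sub_right,
    classInner_sub_right, classInner_smul_left, classInner_smul_left, classInner_smul_right, classInner_smul_right,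
    h.orth _ E.zeta_mem, D.orth_zeta E h', classInner_irr_self (D.low_irr E.zeta_mem), map_natCast]
  ring

theorem inner_vTau (h : D.Part P c) (h' : D.Part P' c') {k : ℤ} (hk : classInner P P' = k) :
    (vForm G).B (D.vTau E h) (D.vTau E h') = k + (c : ℤ) * c' := by
  refine vForm_eq ?_
  rw [coe_vTau, coe_vTau, D.tau_inner_diff E h h', hk]
  push_cast
  ring

/-- The coefficients on the coherent images are known up to one integer. -/
theorem tcoef (h : D.Part P c) [Fintype (W₁ →* ℂˣ)] [Fintype (W₂ →* ℂˣ)] [Fintype D.Low] [DecidableEq D.Low] :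
    ∃ x : ℤ, ∀ z : D.Low, (vForm G).B (D.vTau E h) (D.vImg E z) =
      if z = ⟨E.zeta, E.zeta_mem⟩ then x - (c : ℤ) else x := by
  classical
  set z0 : D.Low := ⟨E.zeta, E.zeta_mem⟩ with hz0
  refine ⟨(vForm G).B (D.vTau E h) (D.vImg E z0) + c, fun z => ?_⟩
  by_cases hz : z = z0
  · rw [if_pos hz, hz]; ring
  rw [if_neg hz]
  refine vForm_eq ?_
  push_cast
  rw [vForm_cast]
  show classInner (D.ten.tau (P - (c : ℂ) • E.zeta)) (E.tau1 (z : M → ℂ)) =
    classInner (D.ten.tau (P - (c : ℂ) • E.zeta)) (E.tau1 E.zeta) + c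
  have hmem : (z : M → ℂ) - E.zeta ∈ zspanOn D.Low {1}ᶜ :=
    ⟨Submodule.sub_mem _ (Submodule.subset_span z.2) (Submodule.subset_span E.zeta_mem), fun x hx => by
      rw [not_not.mp hx, Pi.sub_apply, D.low_deg z.2, D.low_deg E.zeta_mem, sub_self]⟩
  rw [← sub_eq_iff_eq_add', ← classInner_sub_right,
    ← isometryOn_sub E.iso (Submodule.subset_span z.2) (Submodule.subset_span E.zeta_mem), E.agree _ hmem,
    D.ten.tau_inner (D.diff_supported E h) (span_supported D.ten D.low_sub hmem).1, classInner_sub_left,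
    classInner_sub_right, classInner_sub_right, classInner_smul_left, classInner_smul_left, h.orth _ z.2,
    h.orth _ E.zeta_mem, classInner_irr_self (D.low_irr E.zeta_mem),
    classInner_irr_ne (D.low_irr E.zeta_mem) (D.low_irr z.2) fun e => hz (Subtype.ext e.symm)]
  ring

theorem mem_sub_galois (s : ℂ ≃+* ℂ) : E.zeta - (fun x => s (E.zeta x)) ∈ zspanOn D.Low {1}ᶜ :=
  ⟨Submodule.sub_mem _ (Submodule.subset_span E.zeta_mem) (Submodule.subset_span (galois_mem s E.zeta_mem)),
    fun x hx => by
      rw [not_not.mp hx, Pi.sub_apply, D.low_deg E.zeta_mem]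
      rw [map_natCast, sub_self]⟩

/-- Invariance of the coefficients on `η` under automorphisms that move `P` by a part orthogonal to `η`. -/
theorem table_galois (h : D.Part P c) (s : ℂ ≃+* ℂ)
    (hs : ∀ a b, classInner (D.ten.tau ((fun x => s (P x)) - P)) (D.ten.eta a b) = 0)
    (a : W₁ →* ℂˣ) (b : W₂ →* ℂˣ) :
    classInner (D.ten.tau (P - (c : ℂ) • E.zeta)) (D.ten.eta (wLinMap s a) (wLinMap s b)) =
      classInner (D.ten.tau (P - (c : ℂ) • E.zeta)) (D.ten.eta a b) := by
  set f := P - (c : ℂ) • E.zeta with hf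
  have hgal := classInner_galois s (D.vTau E h).2 (D.ten.eta_gen a b)
  rw [coe_vTau] at hgal
  rw [eta_galois D.ten, ← tau_galois D.ten] at hgal
  have hdiff : (fun x => s (f x)) =
      f + (((fun x => s (P x)) - P) + (c : ℂ) • (E.zeta - fun x => s (E.zeta x))) := by
    funext x
    simp only [hf, Pi.sub_apply, Pi.add_apply, Pi.smul_apply, smul_eq_mul, map_sub, map_mul, map_natCast]
    ring
  rw [hdiff] at hgal
  simp only [TenData.tau, dade_add, dade_smul] at hgal
  rw [classInner_add_left, classInner_add_left, classInner_smul_left] at hgal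
  have h0 : classInner (D.ten.tau (E.zeta - fun x => s (E.zeta x))) (D.ten.eta (wLinMap s a) (wLinMap s b)) = 0 := by
    rw [← E.agree _ (D.mem_sub_galois E s),
      isometryOn_sub E.iso (Submodule.subset_span E.zeta_mem) (Submodule.subset_span (galois_mem s E.zeta_mem)),
      classInner_sub_left, D.img_orth_eta E ⟨_, E.zeta_mem⟩, D.img_orth_eta E ⟨_, galois_mem s E.zeta_mem⟩, sub_zero]
  change classInner (D.ten.tau f) _ + (classInner (D.ten.tau ((fun x => s (P x)) - P)) _ +
    (c : ℂ) * classInner (D.ten.tau (E.zeta - fun x => s (E.zeta x))) _) = classInner (D.ten.tau f) _ at hgal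
  rw [hs, h0, mul_zero, add_zero, add_zero] at hgal
  exact hgal

theorem table_galois_fix (h : D.Part P c) (s : ℂ ≃+* ℂ) (hs : (fun x => s (P x)) = P)
    (a : W₁ →* ℂˣ) (b : W₂ →* ℂˣ) :
    classInner (D.ten.tau (P - (c : ℂ) • E.zeta)) (D.ten.eta (wLinMap s a) (wLinMap s b)) =
      classInner (D.ten.tau (P - (c : ℂ) • E.zeta)) (D.ten.eta a b) :=
  D.table_galois E h s (fun a b => by
    rw [hs, sub_self, show D.ten.tau (0 : M → ℂ) = 0 by
      have := dade_smul (A := tenA₀ M W₁) (L := M) (H := Hd) 0 (0 : M → ℂ)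
      simp only [zero_smul] at this
      exact this]
    simp [classInner]) a b

/-- The image of `P - c ζ` keeps the multiplicity of the principal character. -/
theorem coef_one (h : D.Part P c) :
    classInner (D.ten.tau (P - (c : ℂ) • E.zeta)) (D.ten.eta 1 1) = classInner P fun _ => 1 := by
  rw [D.ten.eta_one_one, tau_one D.ten (D.diff_supported E h), classInner_sub_left, classInner_smul_left]
  have hne : E.zeta ≠ fun _ : M => (1 : ℂ) := fun e => by
    refine D.low_ne_mu E.zeta_mem 1 (e.trans D.ten.prime.mu_one.1.symm)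
  rw [classInner_irr_ne (D.low_irr E.zeta_mem) isIrrCharacter_one hne, mul_zero, sub_zero]

end ElevenData

end CfsgLib.OddOrder.S11
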