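import Cfsg.Agent.Lib.OddOrder.S11.Group
import Cfsg.Agent.Lib.OddOrder.S11.Data

/-!
Peterfalvi section 11: the hypotheses of the character argument for a maximal subgroup of type III or IV, given
`M'' = H C` and the incoherence of `S(H₀ C)`.
-/

set_option autoImplicit false
set_option linter.unusedSectionVars false
set_option linter.style.haveILetI false

namespace CfsgLib.OddOrder.S11

open Cfsg Subgroup CfsgLib.OddOrder.Found CfsgLib.OddOrder.Ten
open scoped Pointwise commutatorElement

universe u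

variable {G : Type u} [Group G] [Fintype G] {M H U W1 W2 H0 : Subgroup G} [Fintype M] {q : ℕ}
  {Hd : G → Subgroup G}

theorem card_subgroupOf_eq {X M : Subgroup G} (h : X ≤ M) : Nat.card (X.subgroupOf M) = Nat.card X :=
  Nat.card_congr (subgroupOfEquivOfLe h).toEquiv

theorem le_normalizer_subgroupOf {X Y M : Subgroup G} (h : Y ≤ normalizer (X : Set G)) :
    Y.subgroupOf M ≤ normalizer ((X.subgroupOf M : Subgroup M) : Set M) := fun y hy => by
  rw [mem_normalizer_iff]
  intro x
  exact mem_normalizer_iff.mp (h hy) (x : G)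

/-- The data of (11.7) inside `M`. -/
theorem elevenData_of_typeData (k : S9.IsCoreKernel M H U H0) (d : S9.TypeData M H U W1 W2 q)
    (hp : (Nat.card W2).Prime)
    (t : TenData M ((⁅M, M⁆ : Subgroup G).subgroupOf M) (W1.subgroupOf M) (W2.subgroupOf M) Hd)
    (h5 : ⁅⁅M, M⁆, ⁅M, M⁆⁆ = H ⊔ S9.kernelC H U H0)
    (hnc : ¬ IsCoherent (inducedIrrAbove ((⁅M, M⁆ : Subgroup G).subgroupOf M)
      ((H0 ⊔ S9.kernelC H U H0).subgroupOf M)) {1}ᶜ t.tau) :
    ElevenData M ((⁅M, M⁆ : Subgroup G).subgroupOf M) (H.subgroupOf M) (U.subgroupOf M)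
      ((S9.kernelC H U H0).subgroupOf M) (W1.subgroupOf M) (W2.subgroupOf M) (Nat.card W2) q Hd := by
  obtain ⟨hb, hel, hcard, hCU, hfix⟩ := type_three_four_facts k d hp h5
  have hcard' : Nat.card H = Nat.card H0 * Nat.card W2 ^ q := by rw [hb, card_bot, one_mul, hcard]
  obtain ⟨-, -, hmod, hlt, -⟩ := k.index_facts d hp hcard'
  obtain ⟨-, -, -, hpq, -⟩ := k.prime_unique d hp hcard'
  obtain ⟨hCle, hUC, hWC, -, -, -⟩ := k.kernelC_facts d
  set C := S9.kernelC H U H0 with hC
  have hDM : (⁅M, M⁆ : Subgroup G) ≤ M := commutator_le_self M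
  have hCM : C ≤ M := hCle.trans d.U_le
  have hW2M : W2 ≤ M := d.W2_le.trans d.H_le
  have hcent : ∀ x ∈ C, ∀ h ∈ H, x * h = h * x := fun x hx h hh => by
    have h1 := ((k.mem_kernelC d).mp hx).2 h hh
    rw [hb, mem_bot, mul_inv_eq_one, mul_inv_eq_iff_eq_mul] at h1
    exact h1
  have hHC : H ≤ normalizer (C : Set G) := fun h hh => S9.mem_normalizer_of_conj fun x hx => by
    rw [← hcent x hx h hh, mul_inv_cancel_right]
    exact hx
  have hrel : (C.subgroupOf M).relIndex (U.subgroupOf M) = C.relIndex U := relIndex_subgroupOf d.U_le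
  refine ⟨t, ?_, ?_, ?_, hpq, ?_⟩
  · refine
      { prime := t.prime
        odd := d.odd
        H_normal := (normal_subgroupOf_iff_le_normalizer d.H_le).mpr d.H_normal
        C_normal := (normal_subgroupOf_iff_le_normalizer hCM).mpr (d.le_normalizer hHC hUC hWC)
        H_le := fun x hx => d.H_le_der hx
        U_le := fun x hx => d.U_le_der hx
        C_le := fun x hx => hCle hx
        W₂_le := fun x hx => d.W2_le hx
        comm_H := ?_
        U_der := ?_
        inf_HU := ?_
        sup_HU := ?_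
        C_cent := ?_
        U_inv := le_normalizer_subgroupOf d.U_norm
        hp := hp
        hq := d.hq
        card_H := by rw [card_subgroupOf_eq d.H_le, hcard]
        card_W₁ := by rw [card_subgroupOf_eq d.W_le, d.cardW]
        card_W₂ := card_subgroupOf_eq hW2M
        fixed := ?_
        irred := ?_ }
    · haveI := hel.1
      intro a ha b hb
      exact Subtype.ext (congrArg Subtype.val (mul_comm' (⟨(a : G), ha⟩ : H) ⟨(b : G), hb⟩) :)
    · intro a ha b hb
      show ((⁅a, b⁆ : M) : G) ∈ C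
      rw [hCU]
      exact commutator_mem_commutator (ha : (a : G) ∈ U) (hb : (b : G) ∈ U)
    · rw [eq_bot_iff]
      rintro x ⟨h1, h2⟩
      have : (x : G) ∈ H ⊓ U := ⟨h1, h2⟩
      rw [d.inf_HU, mem_bot] at this
      exact mem_bot.mpr (Subtype.ext this)
    · rw [← subgroupOf_sup d.H_le d.U_le]
      congr 1
      refine le_antisymm (sup_le d.H_le_der d.U_le_der) fun x hx => ?_
      obtain ⟨a, ha, b, hb', rfl⟩ := d.compl_U.2.2.2 x hx
      exact mul_mem_sup ha hb'
    · ext x
      simp only [mem_inf, mem_subgroupOf, mem_centralizer_iff, SetLike.mem_coe]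
      refine ⟨fun hx => ⟨hCle hx, fun h hh => Subtype.ext (hcent x hx h hh).symm⟩, fun ⟨h1, h2⟩ =>
        (k.mem_kernelC d).mpr ⟨h1, fun h hh => ?_⟩⟩
      have := congrArg Subtype.val (h2 ⟨h, d.H_le hh⟩ hh)
      rw [hb, mem_bot, mul_inv_eq_one, mul_inv_eq_iff_eq_mul]
      exact (this.symm :)
    · intro x hx hx1 a ha hxa
      have h1 : (x : G) * a * (x : G)⁻¹ * (a : G)⁻¹ ∈ H0 ⊔ C := by
        rw [hb, bot_sup_eq]
        exact hxa
      obtain ⟨c, hc, hc'⟩ := k.fixed_W_derived d hx (fun e => hx1 (Subtype.ext e)) ha h1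
      exact ⟨⟨c, hW2M hc⟩, hc, (sup_eq_right.mpr (hb.le.trans bot_le) : H0 ⊔ C = C).le hc'⟩
    · intro X hX hU hW
      have hXM : X.map M.subtype ≤ H := by
        rintro _ ⟨y, hy, rfl⟩
        exact hX hy
      have hn : ∀ g : M, g ∈ normalizer (X : Set M) → (g : G) ∈ normalizer ((X.map M.subtype : Subgroup G) : Set G) :=
        fun g hg => S9.mem_normalizer_of_conj fun y hy => by
          obtain ⟨z, hz, rfl⟩ := hy
          exact ⟨g * z * g⁻¹, (mem_normalizer_iff.mp hg z).mp hz, rfl⟩
      rcases k.eq_or_eq d (N := X.map M.subtype) (by rw [hb]; exact bot_le) hXM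
        (fun g hg => hn ⟨g, d.U_le hg⟩ (hU hg)) (fun g hg => hn ⟨g, d.W_le hg⟩ (hW hg)) with e | e
      · exact Or.inl ((map_eq_bot_iff_of_injective X M.subtype_injective).mp (e.trans hb))
      · exact Or.inr (map_injective M.subtype_injective (e.trans (map_subgroupOf_eq_of_le d.H_le).symm))
  · rw [hrel, hmod]
  · rw [hrel]
    have := d.hq.two_le
    omega
  · have e : H0 ⊔ C = C := by rw [hb, bot_sup_eq]
    rwa [e] at hnc

end CfsgLib.OddOrder.S11
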