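import Cfsg.Agent.Lib.OddOrder.S11.Form
import Cfsg.Agent.Lib.CharTheory.CoherenceExt

/-!
The integral lattice of the generalized characters of a finite group.
-/

set_option autoImplicit false

namespace CfsgLib.OddOrder.S11

open Cfsg CfsgLib.CharTheory

universe u

variable (G : Type u) [Group G] [Fintype G]

/-- The generalized characters, as an additive subgroup of the functions. -/
def vChar : AddSubgroup (G → ℂ) where
  carrier := {f | IsGeneralizedCharacter G f}
  zero_mem' := isGenChar_zero
  add_mem' := fun ha hb => isGenChar_add ha hb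
  neg_mem' := fun ha => isGenChar_neg ha

variable {G}

theorem vChar_mem {f : G → ℂ} (hf : IsGeneralizedCharacter G f) : f ∈ vChar G := hf

/-- The integer inner product. -/
noncomputable def vInner (a b : vChar G) : ℤ := (classInner_genChar_int a.2 b.2).choose

theorem vInner_cast (a b : vChar G) : (vInner a b : ℂ) = classInner (a : G → ℂ) b :=
  (classInner_genChar_int a.2 b.2).choose_spec.symm

theorem vInner_eq_iff {a b : vChar G} {k : ℤ} : vInner a b = k ↔ classInner (a : G → ℂ) b = k := by
  rw [← vInner_cast, Int.cast_inj]

theorem vInner_symm (a b : vChar G) : vInner a b = vInner b a := by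
  rw [vInner_eq_iff, ← classInner_comm, ← vInner_cast b a, map_intCast]

theorem vInner_add_left (a a' b : vChar G) : vInner (a + a') b = vInner a b + vInner a' b := by
  rw [vInner_eq_iff, AddSubgroup.coe_add, classInner_add_left]
  push_cast
  rw [vInner_cast, vInner_cast]

/-- The form. -/
noncomputable def vForm (G : Type u) [Group G] [Fintype G] : IntForm (vChar G) where
  B := (AddMonoidHom.mk' (fun a : vChar G => (AddMonoidHom.mk' (fun b => vInner a b) fun b b' => by
      simp only [vInner_symm a, vInner_add_left]).toIntLinearMap) fun a a' =>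
    LinearMap.ext fun b => vInner_add_left a a' b).toIntLinearMap
  symm := vInner_symm
  pos := fun a => by
    obtain ⟨r, hr, e, -⟩ := classInner_self_nonneg_real (a : G → ℂ)
    have h : ((vInner a a : ℤ) : ℝ) = r := by
      have := (vInner_cast a a).trans e
      exact_mod_cast this
    exact_mod_cast (h ▸ hr : (0 : ℝ) ≤ ((vInner a a : ℤ) : ℝ))
  defin := fun a h => by
    obtain ⟨r, -, e, h0⟩ := classInner_self_nonneg_real (a : G → ℂ)
    have h' : vInner a a = 0 := h
    rw [← vInner_cast, h', Int.cast_zero] at e
    exact Subtype.ext (h0 (by exact_mod_cast e.symm))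

theorem vForm_cast (a b : vChar G) : (((vForm G).B a b : ℤ) : ℂ) = classInner (a : G → ℂ) b := vInner_cast a b

theorem vForm_eq {a b : vChar G} {k : ℤ} (h : classInner (a : G → ℂ) b = k) : (vForm G).B a b = k :=
  vInner_eq_iff.mpr h

end CfsgLib.OddOrder.S11
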