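import Cfsg.Agent.Lib.OddOrder.S11.Nine
import Cfsg.Agent.Lib.OddOrder.S11.Instance
import Cfsg.Agent.Lib.OddOrder.S11.Lines

/-!
Peterfalvi (11.9): a maximal subgroup of type III or IV has `U` cyclic, `M_F` elementary abelian of order `p ^ q`
and `p < q`, given `M'' = H C` and the incoherence of `S(H₀ C)`.
-/

set_option autoImplicit false
set_option linter.unusedSectionVars false
set_option linter.style.haveILetI false

namespace CfsgLib.OddOrder.S11

open Cfsg Subgroup CfsgLib.OddOrder.Found CfsgLib.OddOrder.Ten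
open scoped Pointwise commutatorElement

universe u

variable {G : Type u} [Group G] [Fintype G] {M H U W1 W2 H0 : Subgroup G} [Fintype M] {q : ℕ}
  {Hd : G → Subgroup G}

/-- **(11.9)** -/
theorem eleven_nine_core (k : S9.IsCoreKernel M H U H0) (d : S9.TypeData M H U W1 W2 q)
    (hp : (Nat.card W2).Prime)
    (t : TenData M ((⁅M, M⁆ : Subgroup G).subgroupOf M) (W1.subgroupOf M) (W2.subgroupOf M) Hd)
    (h5 : ⁅⁅M, M⁆, ⁅M, M⁆⁆ = H ⊔ S9.kernelC H U H0)
    (hnc : ¬ IsCoherent (inducedIrrAbove ((⁅M, M⁆ : Subgroup G).subgroupOf M)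
      ((H0 ⊔ S9.kernelC H U H0).subgroupOf M)) {1}ᶜ t.tau) :
    Nat.card W2 < q ∧ IsElementaryAbelian (Nat.card W2) H ∧ Nat.card H = Nat.card W2 ^ q ∧ IsCyclic U ∧
      H ⊓ centralizer (U : Set G) = ⊥ := by
  classical
  obtain ⟨hb, hel, hcard, hCU, hfix⟩ := type_three_four_facts k d hp h5
  have hcard' : Nat.card H = Nat.card H0 * Nat.card W2 ^ q := by rw [hb, card_bot, one_mul, hcard]
  have D := elevenData_of_typeData k d hp t h5 hnc
  haveI := Fintype.ofFinite (W1.subgroupOf M →* ℂˣ)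
  haveI := Fintype.ofFinite (W2.subgroupOf M →* ℂˣ)
  refine ⟨D.p_lt_q, hel, hcard, ?_, hfix⟩
  haveI := D.hyp.C_normal
  haveI : Fintype (↥M ⧸ (S9.kernelC H U H0).subgroupOf M) := Fintype.ofFinite _
  haveI : Fintype D.Low := D.low_finite.fintype
  have hgal : S9.IsGalois H U H0 := by
    by_contra hgal
    obtain ⟨ℓ, a, hL⟩ := exists_lineSystem k d hb hp hcard' hgal D.hyp
    exact D.no_lineSystem hL
  obtain ⟨w, hw, hw1⟩ := d.exists_W1
  obtain ⟨V, _, _, A, _, _, f, π, ρ, σ, T, m⟩ := k.exists_model_of_card d hp hcard' hw hw1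
  haveI := m.lin.galois_cyclic ((m.isGalois_iff).mp hgal)
  obtain ⟨a, ha⟩ := IsCyclic.exists_generator (α := A)
  obtain ⟨x, hx, hxa⟩ := m.π_surj a
  have hpow : ∀ n : ℕ, π (x ^ n) = a ^ n := fun n => by
    induction n with
    | zero => rw [pow_zero, pow_zero, m.π_map_one]
    | succ n ih => rw [pow_succ, pow_succ, m.π_mul _ (U.pow_mem hx n) _ hx, ih, hxa]
  have hle : U ≤ zpowers x := S9.eq_of_derived_sup d.U_nil (zpowers_le.mpr hx) fun u hu => by
    obtain ⟨n, hn⟩ : ∃ n : ℕ, a ^ n = π u := by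
      obtain ⟨z, hz⟩ := mem_zpowers_iff.mp (ha (π u))
      exact Submonoid.mem_powers_iff _ _ |>.mp (mem_powers_iff_mem_zpowers.mpr ⟨z, hz⟩)
    have h1 : u * (x ^ n)⁻¹ ∈ S9.kernelC H U H0 := (m.π_one _ (U.mul_mem hu (U.inv_mem (U.pow_mem hx n)))).mp (by
      rw [m.π_mul _ hu _ (U.inv_mem (U.pow_mem hx n)), m.π_inv (U.pow_mem hx n), hpow, hn, mul_inv_cancel])
    rw [hCU] at h1
    rw [show u = u * (x ^ n)⁻¹ * x ^ n by group]
    exact mul_mem_sup h1 (pow_mem (mem_zpowers x) n)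
  exact isCyclic_of_injective (inclusion hle) (inclusion_injective hle)

end CfsgLib.OddOrder.S11
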