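import Cfsg.Agent.Lib.OddOrder.S11.Images

/-!
Peterfalvi section 11: the images `φ`, `α`, `ψ` in the lattice and their coefficient tables.
-/

set_option autoImplicit false
set_option linter.unusedSectionVars false
set_option linter.style.haveILetI false

namespace CfsgLib.OddOrder.S11

open Cfsg CfsgLib.CharTheory CfsgLib.OddOrder.Found CfsgLib.OddOrder.Ten

universe u

variable {G : Type u} [Group G] [Fintype G] {M : Subgroup G} [Fintype M]

namespace ElevenData

variable {K H U C W₁ W₂ : Subgroup M} {p q : ℕ} {Hd : G → Subgroup G} (D : ElevenData M K H U C W₁ W₂ p q Hd)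
include D

theorem mu_orth_low (ω : WLin W₁ W₂) {z : M → ℂ} (hz : z ∈ D.Low) : classInner (D.ten.prime.mu ω) z = 0 :=
  classInner_irr_ne (D.ten.prime.isIrr_mu ω) (D.low_irr hz) (D.low_ne_mu hz ω).symm

theorem mu_gen (ω : WLin W₁ W₂) : IsGeneralizedCharacter M (D.ten.prime.mu ω) :=
  isGenChar_of_char (isCharacter_of_irr (D.ten.prime.isIrr_mu ω))

theorem delta_one (b : W₂ →* ℂˣ) : D.ten.prime.delta (D.ten.prime.col b) = 1 := by
  haveI := D.hyp.C_normal
  haveI := Fintype.ofFinite (↥M ⧸ C)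
  exact D.hyp.delta_col D.cong b

theorem mu_col_one {b : W₂ →* ℂˣ} (hb : b ≠ 1) : D.ten.prime.mu (D.ten.prime.col b) 1 = (C.relIndex U : ℂ) := by
  haveI := D.hyp.C_normal
  haveI := Fintype.ofFinite (↥M ⧸ C)
  exact (D.hyp.colChar_facts hb).1

theorem mu_trivial_apply (x : M) : D.ten.prime.mu 1 x = 1 := congrFun D.ten.prime.mu_one.1 x

theorem mu_col_row {b : W₂ →* ℂˣ} {a : M} (ha : a ∈ W₁) (ha1 : a ≠ 1) :
    D.ten.prime.mu (D.ten.prime.col b) a = 1 := by
  have hw : ((⟨a, Subgroup.mem_sup_left ha⟩ : ↥(W₁ ⊔ W₂)) : M) ∉ W₂ := D.ten.prime.notMem₂ ha ha1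
  rw [show D.ten.prime.mu (D.ten.prime.col b) a = _ from D.ten.prime.mu_apply _ hw, D.delta_one,
    D.ten.prime.col_apply₁ b ha, Units.val_one, one_mul]

variable [Fintype (W₁ →* ℂˣ)] [Fintype (W₂ →* ℂˣ)]

theorem muSum_gen (b : W₂ →* ℂˣ) : IsGeneralizedCharacter M (D.ten.prime.muSum b) := by
  have h : D.ten.prime.muSum b ∈ zspan (Set.range D.ten.prime.mu) :=
    Submodule.sum_mem _ fun a _ => Submodule.subset_span ⟨_, rfl⟩
  exact zspan_genChar (S := Set.range D.ten.prime.mu) (fun φ hφ => by obtain ⟨ω, rfl⟩ := hφ; exact D.mu_gen ω) h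

theorem muSum_off (b : W₂ →* ℂˣ) {x : M} (hx : x ∉ K) : D.ten.prime.muSum b x = 0 := by
  haveI := D.ten.prime.normal
  rw [← D.ten.prime.indFun_colChar]
  exact indFun_normal_apply_not_mem K _ hx

theorem muSum_orth_low (b : W₂ →* ℂˣ) {z : M → ℂ} (hz : z ∈ D.Low) : classInner (D.ten.prime.muSum b) z = 0 := by
  rw [IsPrimeTI.muSum, classInner_sum_left]
  exact Finset.sum_eq_zero fun a _ => D.mu_orth_low _ hz

theorem part_phi : D.Part (D.ten.prime.muSum 1) 1 where
  gen := D.muSum_gen 1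
  orth := fun _ hz => D.muSum_orth_low 1 hz
  deg := by
    haveI := Fintype.ofFinite K
    rw [← D.ten.prime.indFun_colChar, indFun_apply_one, D.ten.prime.colChar_one, D.ten.prime.index_eq,
      D.hyp.card_W₁, Nat.cast_one, one_mul, mul_one]
  row := fun a ha ha1 => D.muSum_off 1 fun hk => ha1 (Subgroup.mem_bot.mp
    (D.ten.prime.inf_eq_bot ▸ Subgroup.mem_inf.mpr ⟨hk, ha⟩))

theorem part_psi {b : W₂ →* ℂˣ} (hb : b ≠ 1) : D.Part (D.ten.prime.muSum b) (C.relIndex U) where
  gen := D.muSum_gen b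
  orth := fun _ hz => D.muSum_orth_low b hz
  deg := by
    haveI := D.hyp.C_normal
    haveI := Fintype.ofFinite (↥M ⧸ C)
    rw [D.hyp.muSum_one hb, Nat.cast_mul, mul_comm]
  row := fun a ha ha1 => D.muSum_off b fun hk => ha1 (Subgroup.mem_bot.mp
    (D.ten.prime.inf_eq_bot ▸ Subgroup.mem_inf.mpr ⟨hk, ha⟩))

theorem part_alpha {b : W₂ →* ℂˣ} (hb : b ≠ 1) :
    D.Part (D.ten.prime.mu (D.ten.prime.col b) - D.ten.prime.mu 1) D.nLow where
  gen := isGenChar_sub (D.mu_gen _) (D.mu_gen _)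
  orth := fun z hz => by rw [classInner_sub_left, D.mu_orth_low _ hz, D.mu_orth_low _ hz, sub_zero]
  deg := by
    rw [Pi.sub_apply, D.mu_col_one hb, D.mu_trivial_apply, ← D.nLow_facts.1]
    push_cast
    ring
  row := fun a ha ha1 => by rw [Pi.sub_apply, D.mu_col_row ha ha1, D.mu_trivial_apply, sub_self]

theorem wLinMap_row_col (s : ℂ ≃+* ℂ) (a : W₁ →* ℂˣ) (b : W₂ →* ℂˣ) :
    wLinMap s (D.ten.prime.row a * D.ten.prime.col b) =
      D.ten.prime.row (wLinMap s a) * D.ten.prime.col (wLinMap s b) := by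
  refine MonoidHom.ext fun w => Units.ext ?_
  simp only [wLinMap_apply, MonoidHom.mul_apply, Units.val_mul, map_mul, IsPrimeTI.row, IsPrimeTI.col,
    MonoidHom.coe_comp, Function.comp_apply]

theorem muSum_one_galois (s : ℂ ≃+* ℂ) : (fun x => s (D.ten.prime.muSum 1 x)) = D.ten.prime.muSum 1 := by
  rw [← D.ten.prime.indFun_colChar, indFun_galois, D.ten.prime.colChar_one]
  simp

theorem muSum_fix {s : ℂ ≃+* ℂ} (hs : FixRoots s (Nat.card K)) (b : W₂ →* ℂˣ) :
    (fun x => s (D.ten.prime.muSum b x)) = D.ten.prime.muSum b := by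
  haveI := Fintype.ofFinite K
  rw [← D.ten.prime.indFun_colChar, indFun_galois]
  congr 1
  funext k
  exact fix_char hs dvd_rfl (isCharacter_of_irr (D.ten.prime.isIrr_colChar b)) k

theorem col_fix {s : ℂ ≃+* ℂ} (hs : FixRoots s (Nat.card K)) (b : W₂ →* ℂˣ) :
    wLinMap s b = b :=
  wLinMap_eq_self hs (Subgroup.card_dvd_of_le D.ten.prime.le_kernel) b

theorem alpha_fix {s : ℂ ≃+* ℂ} (hs : FixRoots s (Nat.card K)) (b : W₂ →* ℂˣ) :
    (fun x => s ((D.ten.prime.mu (D.ten.prime.col b) - D.ten.prime.mu 1) x)) =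
      D.ten.prime.mu (D.ten.prime.col b) - D.ten.prime.mu 1 := by
  funext x
  rw [Pi.sub_apply, map_sub, D.mu_trivial_apply, map_one]
  congr 1
  have e := congrFun (D.ten.prime.mu_galois s (D.ten.prime.col b)).1 x
  rw [e]
  have e2 : wLinMap s (D.ten.prime.col b) = D.ten.prime.col b := by
    refine MonoidHom.ext fun w => Units.ext ?_
    rw [wLinMap_apply, IsPrimeTI.col, MonoidHom.comp_apply]
    have := congrArg (fun c : W₂ →* ℂˣ => ((c (D.ten.prime.proj₂ w) : ℂˣ) : ℂ)) (D.col_fix hs b)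
    simpa [wLinMap_apply] using this
  rw [e2]

theorem exists_moving_row {a a' : W₁ →* ℂˣ} (ha : a ≠ 1) (ha' : a' ≠ 1) :
    ∃ s : ℂ ≃+* ℂ, FixRoots s (Nat.card K) ∧ wLinMap s a = a' :=
  exists_wLinMap Nat.card_pos.ne' D.hyp.hq D.hyp.card_W₁ (D.hyp.card_W₁ ▸ D.ten.prime.coprime) ha ha'

theorem exists_moving_col {b b' : W₂ →* ℂˣ} (hb : b ≠ 1) (hb' : b' ≠ 1) :
    ∃ s : ℂ ≃+* ℂ, (∀ a : W₁ →* ℂˣ, wLinMap s a = a) ∧ wLinMap s b = b' := by
  obtain ⟨s, hs, e⟩ := exists_wLinMap D.hyp.hq.ne_zero D.hyp.hp D.hyp.card_W₂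
    ((Nat.coprime_primes D.hyp.hp D.hyp.hq).mpr D.pq) hb hb'
  exact ⟨s, fun a => wLinMap_eq_self hs (dvd_of_eq D.hyp.card_W₁) a, e⟩

variable (E : D.Ext) {P : M → ℂ} {c : ℕ}

/-- An entry of the table. -/
noncomputable def tab (h : D.Part P c) (a : W₁ →* ℂˣ) (b : W₂ →* ℂˣ) : ℤ :=
  (vForm G).B (D.vTau E h) (D.vEta a b)

theorem tab_cast (h : D.Part P c) (a : W₁ →* ℂˣ) (b : W₂ →* ℂˣ) :
    (D.tab E h a b : ℂ) = classInner (D.ten.tau (P - (c : ℂ) • E.zeta)) (D.ten.eta a b) := vForm_cast _ _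

theorem tab_one (h : D.Part P c) {k : ℤ} (hk : classInner P (fun _ => 1) = k) : D.tab E h 1 1 = k := by
  refine Int.cast_injective (α := ℂ) ?_
  rw [tab_cast, D.coef_one E h, hk]

theorem tab_rows (h : D.Part P c) (hfix : ∀ s : ℂ ≃+* ℂ, FixRoots s (Nat.card K) → (fun x => s (P x)) = P)
    {a a' : W₁ →* ℂˣ} (ha : a ≠ 1) (ha' : a' ≠ 1) (b : W₂ →* ℂˣ) : D.tab E h a' b = D.tab E h a b := by
  obtain ⟨s, hs, e⟩ := D.exists_moving_row ha ha'
  refine Int.cast_injective (α := ℂ) ?_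
  rw [tab_cast, tab_cast, ← D.table_galois_fix E h s (hfix s hs) a b, e, D.col_fix hs]

theorem tab_additive (h : D.Part P c) (hK : ∀ x : M, x ∉ K → P x = 0) (a : W₁ →* ℂˣ) (b : W₂ →* ℂˣ) :
    D.tab E h a b + D.tab E h 1 1 = D.tab E h a 1 + D.tab E h 1 b := by
  refine Int.cast_injective (α := ℂ) ?_
  push_cast
  simp only [tab_cast]
  refine D.ten.eta_additive (D.ten.tau_isClassFunction (D.diff_supported E h)) (fun v hv => ?_) a 1 b 1
  refine tau_inV_eq_zero D.ten (D.diff_supported E h).1 (fun x hx => ?_) hv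
  rw [Pi.sub_apply, Pi.smul_apply, hK x hx, mem_off_kernel D.ten (D.low_sub E.zeta_mem) hx, smul_zero, sub_zero]

theorem exists_ne_one₁ : ∃ a : W₁ →* ℂˣ, a ≠ 1 :=
  Fintype.exists_ne_of_one_lt_card (by have := D.ten.three_le_hom₁; omega) 1

theorem exists_ne_one₂ : ∃ b : W₂ →* ℂˣ, b ≠ 1 :=
  Fintype.exists_ne_of_one_lt_card (by have := D.ten.three_le_hom₂; omega) 1

variable [DecidableEq (W₁ →* ℂˣ)] [DecidableEq (W₂ →* ℂˣ)]

theorem muSum_trivial (b : W₂ →* ℂˣ) :
    classInner (D.ten.prime.muSum b) (fun _ => 1) = ((if b = 1 then 1 else 0 : ℤ) : ℂ) := by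
  rw [← D.ten.prime.mu_one.1]
  have h := D.ten.prime.classInner_muSum_mu b 1 1
  rw [show D.ten.prime.row 1 * D.ten.prime.col 1 = (1 : WLin W₁ W₂) from MonoidHom.ext fun w => mul_one _] at h
  rw [h]
  split_ifs <;> simp

theorem mu_col_inner (b l : W₂ →* ℂˣ) :
    classInner (D.ten.prime.mu (D.ten.prime.col b)) (D.ten.prime.mu (D.ten.prime.col l)) =
      if b = l then 1 else 0 := by
  rw [classInner_irr (D.ten.prime.isIrr_mu _) (D.ten.prime.isIrr_mu _)]
  refine if_congr ⟨fun e => ?_, fun e => by rw [e]⟩ rfl rfl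
  refine (D.ten.prime.row_col_injective (a := 1) (a' := 1) ?_).2
  rw [D.ten.prime.mu_injective e]

theorem muSum_col (b l : W₂ →* ℂˣ) :
    classInner (D.ten.prime.muSum b) (D.ten.prime.mu (D.ten.prime.col l)) = if b = l then 1 else 0 := by
  have h := D.ten.prime.classInner_muSum_mu b 1 l
  rwa [show D.ten.prime.row 1 * D.ten.prime.col l = D.ten.prime.col l from MonoidHom.ext fun w => one_mul _] at h

theorem alpha_trivial {b : W₂ →* ℂˣ} (hb : b ≠ 1) :
    classInner (D.ten.prime.mu (D.ten.prime.col b) - D.ten.prime.mu 1) (fun _ => 1) = ((-1 : ℤ) : ℂ) := by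
  rw [← D.ten.prime.mu_one.1, ← D.ten.prime.col_one, classInner_sub_left, D.mu_col_inner, D.mu_col_inner,
    if_neg hb, if_pos rfl]
  push_cast
  ring

variable [Fintype D.Low] [DecidableEq D.Low]

/-- The vector `φ`. -/
noncomputable def vPhi : vChar G := D.vTau E D.part_phi

/-- The vectors `α`. -/
noncomputable def vAlpha (b : W₂ →* ℂˣ) : vChar G :=
  if hb : b = 1 then 0 else D.vTau E (D.part_alpha hb)

theorem isPhi : (D.frame E).IsPhi (D.vPhi E) where
  norm := by
    have h := D.inner_vTau E D.part_phi D.part_phi (k := (q : ℤ)) (by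
      rw [D.ten.prime.classInner_muSum, if_pos rfl, D.hyp.card_W₁]
      push_cast
      rfl)
    rw [vPhi, h, D.card_I]
    norm_num
  coef := by
    obtain ⟨a₀, ha₀⟩ := D.exists_ne_one₁
    obtain ⟨b₀, hb₀⟩ := D.exists_ne_one₂
    have h11 : D.tab E D.part_phi 1 1 = 1 := D.tab_one E _ (by rw [D.muSum_trivial, if_pos rfl])
    have hrow : ∀ a, a ≠ 1 → D.tab E D.part_phi a 1 = D.tab E D.part_phi a₀ 1 := fun a ha =>
      D.tab_rows E _ (fun s hs => D.muSum_fix hs 1) ha₀ ha 1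
    have hcol : ∀ b, b ≠ 1 → D.tab E D.part_phi 1 b = D.tab E D.part_phi 1 b₀ := fun b hb => by
      obtain ⟨s, hs, e⟩ := D.exists_moving_col hb₀ hb
      refine Int.cast_injective (α := ℂ) ?_
      rw [tab_cast, tab_cast, ← D.table_galois_fix E D.part_phi s (D.muSum_one_galois s) 1 b₀, e, wLinMap_one]
    refine ⟨D.tab E D.part_phi a₀ 1, D.tab E D.part_phi 1 b₀, fun a b => ?_⟩
    have hadd := D.tab_additive E D.part_phi (fun x hx => D.muSum_off 1 hx) a b
    show D.tab E D.part_phi a b = 1 + (if a = 1 then 0 else _) + if b = 1 then 0 else _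
    by_cases ha : a = 1 <;> by_cases hb : b = 1
    · subst ha hb; rw [h11]; simp
    · subst ha; rw [if_pos rfl, if_neg hb, hcol b hb]; ring
    · subst hb; rw [if_pos rfl, if_neg ha, hrow a ha]; ring
    · rw [hrow a ha, hcol b hb, h11] at hadd
      rw [if_neg ha, if_neg hb]
      linarith
  tcoef := by
    obtain ⟨x, hx⟩ := D.tcoef E D.part_phi
    exact ⟨x, fun z => (hx z).trans (by simp only [frame, Nat.cast_one]; congr)⟩

theorem isAlpha {b : W₂ →* ℂˣ} (hb : b ≠ 1) : (D.frame E).IsAlpha b (D.vAlpha E b) where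
  j_ne := hb
  norm := by
    rw [vAlpha, dif_neg hb]
    have h := D.inner_vTau E (D.part_alpha hb) (D.part_alpha hb) (k := 2) (by
      rw [← D.ten.prime.col_one, classInner_sub_left, classInner_sub_right, classInner_sub_right,
        D.mu_col_inner, D.mu_col_inner, D.mu_col_inner, D.mu_col_inner, if_pos rfl, if_neg hb,
        if_neg (Ne.symm hb), if_pos rfl]
      push_cast
      ring)
    rw [h, D.card_low]
    ring
  coef := by
    obtain ⟨a₀, ha₀⟩ := D.exists_ne_one₁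
    rw [vAlpha, dif_neg hb]
    set h := D.part_alpha hb
    have h11 : D.tab E h 1 1 = -1 := D.tab_one E _ (D.alpha_trivial hb)
    have hadd : ∀ a l, D.tab E h a l - (if a = 1 then (if l = b then 1 else 0) - (if l = 1 then 1 else 0) else 0) +
        (D.tab E h 1 1 + 1) = D.tab E h a 1 + (if a = 1 then 1 else 0) +
          (D.tab E h 1 l - ((if l = b then 1 else 0) - (if l = 1 then 1 else 0))) := by
      intro a l
      set X := D.ten.tau ((D.ten.prime.mu (D.ten.prime.col b) - D.ten.prime.mu 1) - (D.nLow : ℂ) • E.zeta)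
        with hX
      have key := D.ten.eta_additive (f := X - (D.ten.eta 1 b - D.ten.eta 1 1))
        (isClassFunction_sub (D.ten.tau_isClassFunction (D.diff_supported E h)) (isClassFunction_sub
          (isGenChar_iff_coeff_int.mp (D.ten.eta_gen 1 b)).1 (isGenChar_iff_coeff_int.mp (D.ten.eta_gen 1 1)).1))
        (fun v hv => by
          have hv2 : ((⟨v, hv.1⟩ : ↥(W₁ ⊔ W₂)) : M) ∉ W₂ := hv.2.2
          rw [Pi.sub_apply, Pi.sub_apply, hX, D.ten.tau_inV (D.diff_supported E h).1 hv, D.ten.eta_apply _ _ hv,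
            D.ten.eta_apply _ _ hv, Pi.sub_apply, Pi.sub_apply, Pi.smul_apply, D.mu_trivial_apply,
            mem_off_kernel D.ten (D.low_sub E.zeta_mem) (not_mem_kernel_of_inV D.ten hv), smul_zero,
            show D.ten.prime.mu (D.ten.prime.col b) v = _ from D.ten.prime.mu_apply _ hv2, D.delta_one,
            D.ten.prime.row_one, D.ten.prime.col_one]
          simp only [MonoidHom.mul_apply, MonoidHom.one_apply, one_mul, Units.val_one]
          ring) a 1 l 1
      simp only [classInner_sub_left, D.ten.eta_orth, hX, ← D.tab_cast E h] at key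
      refine Int.cast_injective (α := ℂ) ?_
      push_cast
      simp only [Ne.symm hb, eq_comm (a := (1 : W₁ →* ℂˣ)), eq_comm (a := (1 : W₂ →* ℂˣ)),
        eq_comm (a := b), and_true, and_false, true_and, if_true, if_false] at key
      by_cases ha : a = 1 <;> by_cases hl : l = b <;> by_cases hl1 : l = 1 <;>
        simp [ha, hl, hl1, Ne.symm hb, hb] at key ⊢ <;> linear_combination key
    refine ⟨D.tab E h a₀ 1, fun l => D.tab E h 1 l - ((if l = b then 1 else 0) - (if l = 1 then 1 else 0)), ?_,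
      fun a l => ?_⟩
    · show D.tab E h 1 1 - ((if 1 = b then 1 else 0) - (if (1 : W₂ →* ℂˣ) = 1 then 1 else 0)) = 0
      rw [h11, if_neg (Ne.symm hb), if_pos rfl]; ring
    · show D.tab E h a l = (if a = 1 then (if l = b then 1 else 0) - (if l = 1 then 1 else 0) else _) + _
      have h1 := hadd a l
      rw [h11] at h1
      by_cases ha : a = 1
      · rw [if_pos ha] at h1 ⊢; rw [ha]; ring
      · rw [if_neg ha, if_neg ha] at h1
        rw [if_neg ha]
        have h2 := D.tab_rows E h (fun s hs => D.alpha_fix hs b) ha₀ ha 1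
        linarith
  tcoef := by
    rw [vAlpha, dif_neg hb]
    obtain ⟨x, hx⟩ := D.tcoef E (D.part_alpha hb)
    exact ⟨x, fun z => (hx z).trans (by simp only [frame, D.card_low])⟩

theorem alpha_phi {b : W₂ →* ℂˣ} (hb : b ≠ 1) :
    (vForm G).B (D.vAlpha E b) (D.vPhi E) = (Fintype.card D.Low : ℤ) - 1 := by
  rw [vAlpha, dif_neg hb, vPhi, D.inner_vTau E (D.part_alpha hb) D.part_phi (k := -1) (by
    rw [← classInner_comm, ← D.ten.prime.col_one, classInner_sub_right, D.muSum_col, D.muSum_col,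
      if_neg (Ne.symm hb), if_pos rfl]
    simp), D.card_low]
  push_cast
  ring

/-- The facts about `ψ`. -/
theorem psi_facts {b : W₂ →* ℂˣ} (hb : b ≠ 1) :
    let ψ := D.vTau E (D.part_psi hb)
    (vForm G).B ψ ψ = (q : ℤ) + (C.relIndex U : ℤ) ^ 2 ∧
    (∃ (A : ℤ) (y : (W₂ →* ℂˣ) → ℤ), y 1 = 0 ∧
      ∀ a l, (vForm G).B ψ ((D.frame E).e a l) = (if a = 1 then 0 else A) + y l) ∧
    (∃ x : ℤ, ∀ z, (vForm G).B ψ ((D.frame E).t z) =
      if z = (D.frame E).z0 then x - (C.relIndex U : ℤ) else x) ∧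
    (vForm G).B ψ (D.vPhi E) = (C.relIndex U : ℤ) ∧
    ∀ l, l ≠ 1 → (vForm G).B ψ (D.vAlpha E l) =
      (if l = b then 1 else 0) + (C.relIndex U : ℤ) * Fintype.card D.Low := by
  intro ψ
  refine ⟨?_, ?_, ?_, ?_, fun l hl => ?_⟩
  · rw [D.inner_vTau E (D.part_psi hb) (D.part_psi hb) (k := (q : ℤ)) (by
      rw [D.ten.prime.classInner_muSum, if_pos rfl, D.hyp.card_W₁]
      push_cast
      rfl)]
    ring
  · obtain ⟨a₀, ha₀⟩ := D.exists_ne_one₁
    have h11 : D.tab E (D.part_psi hb) 1 1 = 0 := D.tab_one E _ (by rw [D.muSum_trivial, if_neg hb])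
    refine ⟨D.tab E (D.part_psi hb) a₀ 1, fun l => D.tab E (D.part_psi hb) 1 l, h11, fun a l => ?_⟩
    show D.tab E (D.part_psi hb) a l = _
    have hadd := D.tab_additive E (D.part_psi hb) (fun x hx => D.muSum_off b hx) a l
    by_cases ha : a = 1
    · rw [if_pos ha, ha, zero_add]
    · rw [h11, add_zero, D.tab_rows E _ (fun s hs => D.muSum_fix hs b) ha₀ ha 1] at hadd
      rw [if_neg ha, hadd]
  · obtain ⟨x, hx⟩ := D.tcoef E (D.part_psi hb)
    exact ⟨x, fun z => (hx z).trans (by simp only [frame]; congr)⟩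
  · rw [vPhi, D.inner_vTau E (D.part_psi hb) D.part_phi (k := 0) (by
      rw [D.ten.prime.classInner_muSum, if_neg hb, Int.cast_zero])]
    simp
  · rw [vAlpha, dif_neg hl, D.inner_vTau E (D.part_psi hb) (D.part_alpha hl)
      (k := if l = b then 1 else 0) (by
        rw [← D.ten.prime.col_one, classInner_sub_right, D.muSum_col, D.muSum_col, if_neg hb, sub_zero]
        by_cases e : l = b
        · rw [if_pos e, if_pos e.symm, Int.cast_one]
        · rw [if_neg e, if_neg (Ne.symm e), Int.cast_zero]), D.card_low]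

end ElevenData

end CfsgLib.OddOrder.S11
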